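import Groth.Agent.H11Ample.Basic
import Groth.Agent.H11Ample.RelQuasiAffine
import Groth.Agent.H25Theta.Basic
import Groth.Agent.H22Alg.GlobalFunctions

/-!
# Sections of an invertible module and of its inverse
-/

set_option autoImplicit false
set_option linter.style.haveILetI false

universe u

open CategoryTheory CategoryTheory.Limits AlgebraicGeometry Opposite TopologicalSpace

namespace Groth.Agent.LeadBC.TrivInv

open Groth.Agent.H11Tilde Groth.Agent.H11Ample

variable {X : Scheme.{u}}

/-- On a reduced scheme a section generating nowhere is zero. -/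
theorem eq_zero_of_gen_eq_bot [IsReduced X] {L : X.Modules} (hL : PicF.IsInvertible L) (a : Γ(L, ⊤))
    (h : gen L a = ⊥) : a = 0 := by
  choose V e hx he using H11Ample.exists_gen hL
  refine TopCat.Sheaf.eq_of_locally_eq' ⟨L.presheaf, L.isSheaf⟩ V ⊤ (fun _ => homOfLE le_top)
    (fun x _ => Opens.mem_iSup.2 ⟨x, hx x⟩) a 0 fun x => ?_
  obtain ⟨p, hp⟩ := exists_coeff (he x) (L.presheaf.map (homOfLE (le_top : V x ≤ ⊤)).op a)
  have h0 := gen_inf_eq_basicOpen (he x) a p hp
  rw [h, bot_inf_eq] at h0
  have hp0 : p = 0 := (basicOpen_eq_bot_iff p).1 h0.symm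
  refine Eq.trans (show _ = (0 : Γ(L, V x)) from ?_) (map_zero _).symm
  refine hp.trans ?_
  rw [hp0, zero_smul]

/-- A section generating everywhere trivialises. -/
theorem nonempty_iso_of_gen_eq_top {L : X.Modules} (a : Γ(L, ⊤)) (h : gen L a = ⊤) :
    Nonempty (L ≅ Coh.structureModule X) := by
  have hg := isGen_gen a (L := L)
  haveI := H11Tilde.isIso_homOfGlobal L a fun W => by
    have hb := hg.bijective (h.ge.trans' (le_top : W ≤ ⊤))
    refine Eq.mpr (congrArg Function.Bijective (funext fun r => ?_)) hb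
    rw [H10Coh.mres_mres]
  exact ⟨(asIso (H11Tilde.homOfGlobal L a)).symm⟩

/-- If an invertible module and its inverse both have a non zero section on an integral scheme whose
functions form a field, both are trivial. -/
theorem nonempty_iso_of_ne_zero [IsIntegral X] (hF : IsField Γ(X, ⊤)) {L M : X.Modules}
    (hL : PicF.IsInvertible L) (hM : PicF.IsInvertible M)
    (e : CohB1.tensorMod L M ≅ Coh.structureModule X) {a : Γ(L, ⊤)} (ha : a ≠ 0) {b : Γ(M, ⊤)} (hb : b ≠ 0) :
    Nonempty (L ≅ Coh.structureModule X) ∧ Nonempty (M ≅ Coh.structureModule X) := by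
  let c : Γ(X, ⊤) := e.hom.app ⊤ (tm a b)
  have hc : gen (Coh.structureModule X) (show Γ(Coh.structureModule X, ⊤) from c) = gen L a ⊓ gen M b :=
    (gen_iso e.hom (tm a b)).trans (gen_tm hL hM a b)
  have hb' : gen (Coh.structureModule X) (show Γ(Coh.structureModule X, ⊤) from c) = X.basicOpen c := by
    have := gen_inf_eq_basicOpen (isGen_one (⊤ : X.Opens)) (show Γ(Coh.structureModule X, ⊤) from c) c
      ((H10Coh.mres_self _ _ _).trans (mul_one c).symm)
    rwa [inf_top_eq] at this
  rw [hb'] at hc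
  by_cases h0 : c = 0
  · exfalso
    rw [h0, Scheme.basicOpen_zero] at hc
    haveI : IrreducibleSpace X := inferInstance
    have hne : ∀ U : X.Opens, U ≠ ⊥ → (U : Set X).Nonempty := fun U hU =>
      Set.nonempty_iff_ne_empty.2 fun h => hU (Opens.ext h)
    obtain ⟨x, hx⟩ := nonempty_preirreducible_inter (gen L a).isOpen (gen M b).isOpen
      (hne _ fun h => ha (eq_zero_of_gen_eq_bot hL a h)) (hne _ fun h => hb (eq_zero_of_gen_eq_bot hM b h))
    exact hc.ge hx
  · obtain ⟨d, hd⟩ := hF.mul_inv_cancel h0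
    have hu : X.basicOpen c = ⊤ := Scheme.basicOpen_of_isUnit X (IsUnit.of_mul_eq_one d hd)
    rw [hu] at hc
    exact ⟨nonempty_iso_of_gen_eq_top a (top_le_iff.1 (hc.le.trans inf_le_left)),
      nonempty_iso_of_gen_eq_top b (top_le_iff.1 (hc.le.trans inf_le_right))⟩

/-- On an integral scheme proper over a field. -/
theorem nonempty_iso_of_proper {k : Type u} [Field k] (g : X ⟶ Spec (CommRingCat.of k)) [IsProper g] [IsIntegral X]
    {L M : X.Modules} (hL : PicF.IsInvertible L) (hM : PicF.IsInvertible M)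
    (e : CohB1.tensorMod L M ≅ Coh.structureModule X) {a : Γ(L, ⊤)} (ha : a ≠ 0) {b : Γ(M, ⊤)} (hb : b ≠ 0) :
    Nonempty (L ≅ Coh.structureModule X) ∧ Nonempty (M ≅ Coh.structureModule X) :=
  nonempty_iso_of_ne_zero (H22Alg.GlobalFunctions.isField_of_universallyClosed g) hL hM e ha hb

end Groth.Agent.LeadBC.TrivInv
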