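import Groth.Agent.LeadBC.FlatCoh
import Groth.Agent.H17.PrinFactor
import Groth.Agent.LeadDev.Sub

/-!
# Vanishing and local freeness from the fibres
-/

set_option autoImplicit false
set_option linter.style.haveILetI false
set_option linter.unusedSectionVars false

universe u

open AlgebraicGeometry CategoryTheory CategoryTheory.Limits TopologicalSpace Opposite
open scoped TensorProduct

namespace Groth.Agent.LeadBC

open Groth.Agent.H06FlatCx

section Alg

variable {A : Type u} [CommRing A] (P : ChainComplex (ModuleCat.{u} A) ℤ)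

/-- The algebra structure as an argument. -/
def SubTensor (B : Type u) [CommRing B] [Algebra A B] (M : Type u) [AddCommGroup M] [Module A M] : Prop :=
  Subsingleton (B ⊗[A] M)

/-- The algebra structure as an argument. -/
def SubHQ (B : Type u) [CommRing B] [Algebra A B] (j : ℤ) : Prop :=
  Subsingleton (homQuot (baseChange_comp_zero B (d_comp_d P (j + 1) j (j - 1))))

theorem subTensor_h0_of_bcH {B : Type u} [CommRing B] [Algebra A B] [Module.Flat A B] (j : ℤ)
    (h : Subsingleton ((CohIII.bcCx (algebraMap A B) P).homology j)) : SubTensor (A := A) B (H0 P (j + 1) j (j - 1)) := by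
  have key : Subsingleton (homQuot (baseChange_comp_zero B (d_comp_d P (j + 1) j (j - 1)))) :=
    of_toAlgebra (A := A) (B := B) (fun inst => @SubHQ A _ P B _ inst j)
      ((bcH P (algebraMap A B) (down_prev j) (down_next j)).symm.toEquiv.subsingleton)
  have hc := bc_cycles_of_flat (R := A) (g := (P.d j (j - 1)).hom) B
  exact (bcHomEquiv B (d_comp_d P (j + 1) j (j - 1)) hc.1 hc.2).toEquiv.subsingleton

variable (hP : ∀ i, Module.Finite A (P.X i) ∧ Module.Flat A (P.X i)) [IsNoetherianRing A]
include hP

/-- A zero fibre kills the homology at a point and makes the neighbouring cokernels flat there. -/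
theorem local_of_dRank_zero (j : ℤ) (x : PrimeSpectrum A)
    (h : Subsingleton (CohIII.T P j (ModuleCat.of A x.asIdeal.ResidueField))) :
    Module.Flat (Localization.AtPrime x.asIdeal) (Localization.AtPrime x.asIdeal ⊗[A] Cok P j) ∧
    Module.Flat (Localization.AtPrime x.asIdeal)
      (Localization.AtPrime x.asIdeal ⊗[A] (P.X (j - 1) ⧸ LinearMap.range (P.d j (j - 1)).hom)) ∧
    SubTensor (A := A) (Localization.AtPrime x.asIdeal) (H0 P (j + 1) j (j - 1)) := by
  haveI := (hP (j - 1)).2
  let L := Localization.AtPrime x.asIdeal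
  let Q := CohIII.bcCx (algebraMap A L) P
  have hQ : ∀ i, Module.Finite L (Q.X i) ∧ Module.Flat L (Q.X i) := fun i =>
    ⟨haveI := (hP i).1
     of_toAlgebra (A := A) (B := L) (fun inst => Module.Finite L (Q.X i)) (by
      letI := (algebraMap A L).toAlgebra
      exact Module.Finite.equiv (bcX P (algebraMap A L) i).symm),
     haveI := (hP i).2
     bcCx_flat_X (j := i) P (algebraMap A L)⟩
  have hz : IsZero ((CohIII.TFun Q j).obj (ModuleCat.of L (IsLocalRing.ResidueField L))) := by
    let K := IsLocalRing.ResidueField L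
    have hx : RingHom.ker (algebraMap A K) = x.asIdeal := by
      rw [show algebraMap A K = (algebraMap L K).comp (algebraMap A L) from rfl, ← RingHom.comap_ker,
        show RingHom.ker (algebraMap L K) = IsLocalRing.maximalIdeal L from IsLocalRing.ker_residue]
      exact IsLocalization.AtPrime.comap_maximalIdeal L x.asIdeal
    have h1 : Subsingleton (homQuot (baseChange_comp_zero x.asIdeal.ResidueField (d_comp_d P (j + 1) j (j - 1)))) := by
      obtain ⟨e, -⟩ := exists_homQuot_equiv (B := x.asIdeal.ResidueField) P (down_prev j) (down_next j)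
      exact e.toEquiv.subsingleton
    have h2 : CohIII.dRank P j x = 0 := by
      rw [CohIII.dRank, ← hqRank_eq P (down_prev j) (down_next j), hqRank]
      exact Module.finrank_zero_of_subsingleton
    have h3 : Module.finrank K ((CohIII.bcCx (algebraMap L K) Q).homology j) = 0 := by
      rw [← h2, bcCx_finrank_comp P (algebraMap A L) (algebraMap L K) (down_prev j) (down_next j)]
      exact bcCx_finrank_field_ext P (algebraMap A x.asIdeal.ResidueField)
        (RingHom.id K) (down_prev j) (down_next j)
    haveI := (hQ j).1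
    haveI : Module.Finite K (homQuot (baseChange_comp_zero K (d_comp_d Q (j + 1) j (j - 1)))) := inferInstance
    have h4 : Subsingleton (homQuot (baseChange_comp_zero K (d_comp_d Q (j + 1) j (j - 1)))) :=
      Module.finrank_zero_iff.1 (by
        show hqRank K Q (j + 1) j (j - 1) = 0
        rw [hqRank_eq Q (down_prev j) (down_next j), h3])
    obtain ⟨e, -⟩ := exists_homQuot_equiv (B := K) Q (down_prev j) (down_next j)
    haveI : Subsingleton ((CohIII.TFun Q j).obj (ModuleCat.of L K)) := e.symm.toEquiv.subsingleton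
    exact ModuleCat.isZero_of_subsingleton _
  have hall := subsingleton_of_residueField_zero Q hQ j hz
  refine ⟨(bcCx_mono_iff_localization P x (down_prev j) (down_next j)).1 (preservesMono_of_forall_subsingleton Q j hall),
    (bcCx_epi_iff_localization P x (down_prev j) (down_next j)).1 (preservesEpi_of_forall_subsingleton Q j hall), ?_⟩
  haveI := (hQ (j - 1)).2
  haveI := hall (ModuleCat.of L L)
  refine subTensor_h0_of_bcH P j ?_
  haveI := (tSelfEquiv Q (down_prev j) (down_next j)).toEquiv.subsingleton
  exact (h0Equiv Q (down_prev j) (down_next j)).symm.toEquiv.subsingleton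

theorem flat_of_forall_localization {M : Type u} [AddCommGroup M] [Module A M] [Module.Finite A M]
    (h : ∀ x : PrimeSpectrum A, Module.Flat (Localization.AtPrime x.asIdeal) (Localization.AtPrime x.asIdeal ⊗[A] M)) :
    Module.Flat A M := by
  haveI := Module.finitePresentation_of_finite A M
  haveI := Module.freeLocus_eq_univ_iff.1
    (Set.eq_univ_of_forall fun x => (flat_localization_iff_mem_freeLocus M x).1 (h x))
  exact Module.Flat.of_projective

/-- Homology vanishing at a prime vanishes near it. -/
theorem exists_smul_h0_eq_zero (j : ℤ) (x : PrimeSpectrum A)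
    (h : SubTensor (A := A) (Localization.AtPrime x.asIdeal) (H0 P (j + 1) j (j - 1))) :
    ∃ f ∉ x.asIdeal, ∀ m : H0 P (j + 1) j (j - 1), f • m = 0 := by
  haveI := (hP j).1
  haveI : Module.Finite A (H0 P (j + 1) j (j - 1)) := finite_h0 P (j + 1) j (j - 1)
  haveI : Subsingleton (Localization.AtPrime x.asIdeal ⊗[A] H0 P (j + 1) j (j - 1)) := h
  haveI : Subsingleton (LocalizedModule x.asIdeal.primeCompl (H0 P (j + 1) j (j - 1))) :=
    (LocalizedModule.equivTensorProduct x.asIdeal.primeCompl _).toEquiv.subsingleton
  have hns : x ∉ Module.support A (H0 P (j + 1) j (j - 1)) := Module.notMem_support_iff.2 inferInstance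
  rw [Module.support_eq_zeroLocus, PrimeSpectrum.mem_zeroLocus, SetLike.coe_subset_coe,
    SetLike.not_le_iff_exists] at hns
  obtain ⟨f, hf, hfx⟩ := hns
  exact ⟨f, hfx, fun m => Module.mem_annihilator.1 hf m⟩

end Alg

variable {X Y : Scheme.{u}}

/-- A quasi-coherent module whose sections over an affine open are killed by `a` vanishes on `D(a)`. -/
theorem isZero_restrict_basicOpen (M : Y.Modules) (hM : Coh.IsQCoh M) {V : Y.Opens} (hV : IsAffineOpen V)
    (a : Γ(Y, V)) (h : ∀ m : Γ(M, V), a • m = 0) : IsZero (M.restrict (Y.basicOpen a).ι) := by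
  refine LeadDev.isZero_of_sections fun O s => ?_
  show (show Γ(M, (Y.basicOpen a).ι ''ᵁ O) from s) = 0
  refine H17.PrinFactor.germ_ext fun z hz => ?_
  rw [map_zero]
  have hza : z ∈ Y.basicOpen a := by
    obtain ⟨w, -, rfl⟩ := hz
    exact w.2
  have hzV : z ∈ V := Y.basicOpen_le a hza
  generalize (M.presheaf.germ ((Y.basicOpen a).ι ''ᵁ O) z hz) s = t
  letI := TopCat.Presheaf.algebra_section_stalk Y.presheaf (⟨z, hzV⟩ : V)
  letI := Module.compHom (M.presheaf.stalk z) (algebraMap Γ(Y, V) (Y.presheaf.stalk z))
  haveI := H29Fitt.isLocalizedModule_germLin M hM hV ⟨z, hzV⟩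
  obtain ⟨⟨m, s'⟩, hms⟩ := IsLocalizedModule.surj (hV.primeIdealOf ⟨z, hzV⟩).asIdeal.primeCompl
    (H29Fitt.germLin M ⟨z, hzV⟩) t
  have hu : IsUnit (algebraMap Γ(Y, V) (Y.presheaf.stalk z) a) := (Y.mem_basicOpen a z hzV).1 hza
  have hsu : IsUnit (algebraMap Γ(Y, V) (Y.presheaf.stalk z) s') :=
    haveI := hV.isLocalization_stalk ⟨z, hzV⟩
    IsLocalization.map_units (Y.presheaf.stalk z) s'
  have h0 : a • ((s' : Γ(Y, V)) • t) = 0 := by
    rw [show (s' : Γ(Y, V)) • t = H29Fitt.germLin M ⟨z, hzV⟩ m from hms, ← map_smul, h, map_zero]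
  exact hsu.smul_eq_zero.1 (hu.smul_eq_zero.1 h0)

end Groth.Agent.LeadBC
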