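import Groth.Agent.LeadBC.Basic
import Groth.Agent.H06FlatCx.Local
import Groth.Agent.H06FlatCx.Criteria
import Groth.Agent.H10Coh.TensorBasics

/-!
# Transport along a model: exchange properties, cochain form
-/

set_option autoImplicit false
set_option linter.style.haveILetI false
set_option linter.unusedSectionVars false

universe u

open AlgebraicGeometry CategoryTheory CategoryTheory.Limits TopologicalSpace Opposite
open scoped TensorProduct

namespace Groth.Agent.LeadBC

open Groth.Agent.LeadFF

variable {A : Type u} [CommRing A] {X : Scheme.{u}} [X.Over (Spec (CommRingCat.of A))]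
  {P : ChainComplex (ModuleCat.{u} A) ℤ} {j : ℤ} {p : ℕ} {F : X.Modules}

/-- The maps of the frozen functor are those of `HMod`. -/
theorem hab_map_apply {M N : ModuleCat.{u} A} (g : M ⟶ N)
    (x : Coh.HH X ((CohIII.tensorAFunctor A F).obj M) p) :
    ((CohIII.tensorAFunctor A F ⋙ CohIII.HAb X p).map g).hom x =
      ((CohIII.tensorAFunctor A F ⋙ HMod A p).map g).hom x := rfl

variable (e : CohIII.TFun P j ≅ CohIII.tensorAFunctor A F ⋙ HMod A p)

include e in
theorem surjective_map_iff {M N : ModuleCat.{u} A} (g : M ⟶ N) :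
    Function.Surjective ((CohIII.tensorAFunctor A F ⋙ CohIII.HAb X p).map g).hom ↔
      Function.Surjective ((CohIII.TFun P j).map g).hom := by
  have h : ∀ x, ((CohIII.tensorAFunctor A F ⋙ CohIII.HAb X p).map g).hom ((e.hom.app M).hom x) =
      (e.hom.app N).hom (((CohIII.TFun P j).map g).hom x) := fun x =>
    (ConcreteCategory.congr_hom (e.hom.naturality g) x).symm
  constructor
  · intro hs y
    obtain ⟨x, hx⟩ := hs ((e.hom.app N).hom y)
    obtain ⟨z, rfl⟩ := (e.app M).toLinearEquiv.surjective x
    exact ⟨z, (e.app N).toLinearEquiv.injective ((h z).symm.trans hx)⟩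
  · intro hs y
    obtain ⟨y', rfl⟩ := (e.app N).toLinearEquiv.surjective y
    obtain ⟨z, rfl⟩ := hs y'
    exact ⟨_, h z⟩

include e in
theorem injective_map_iff {M N : ModuleCat.{u} A} (g : M ⟶ N) :
    Function.Injective ((CohIII.tensorAFunctor A F ⋙ CohIII.HAb X p).map g).hom ↔
      Function.Injective ((CohIII.TFun P j).map g).hom := by
  have h : ∀ x, ((CohIII.tensorAFunctor A F ⋙ CohIII.HAb X p).map g).hom ((e.hom.app M).hom x) =
      (e.hom.app N).hom (((CohIII.TFun P j).map g).hom x) := fun x =>
    (ConcreteCategory.congr_hom (e.hom.naturality g) x).symm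
  constructor
  · intro hs a b hab
    exact (e.app M).toLinearEquiv.injective (hs (((h a).trans (congrArg _ hab)).trans (h b).symm))
  · intro hs a b hab
    obtain ⟨a, rfl⟩ := (e.app M).toLinearEquiv.surjective a
    obtain ⟨b, rfl⟩ := (e.app M).toLinearEquiv.surjective b
    exact congrArg _ (hs ((e.app N).toLinearEquiv.injective (((h a).symm.trans hab).trans (h b))))

include e in
theorem preservesEpi_iff :
    (CohIII.tensorAFunctor A F ⋙ CohIII.HAb X p).PreservesEpimorphisms ↔
      (CohIII.TFun P j).PreservesEpimorphisms := by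
  constructor
  · intro H
    exact ⟨fun {M N} g _ => (ModuleCat.epi_iff_surjective _).2 ((surjective_map_iff e g).1
      ((AddCommGrpCat.epi_iff_surjective _).1 (H.preserves g)))⟩
  · intro H
    exact ⟨fun {M N} g _ => (AddCommGrpCat.epi_iff_surjective _).2 ((surjective_map_iff e g).2
      ((ModuleCat.epi_iff_surjective _).1 (H.preserves g)))⟩

include e in
theorem preservesMono_iff :
    (CohIII.tensorAFunctor A F ⋙ CohIII.HAb X p).PreservesMonomorphisms ↔
      (CohIII.TFun P j).PreservesMonomorphisms := by
  constructor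
  · intro H
    exact ⟨fun {M N} g _ => (ModuleCat.mono_iff_injective _).2 ((injective_map_iff e g).1
      ((AddCommGrpCat.mono_iff_injective _).1 (H.preserves g)))⟩
  · intro H
    exact ⟨fun {M N} g _ => (AddCommGrpCat.mono_iff_injective _).2 ((injective_map_iff e g).2
      ((ModuleCat.mono_iff_injective _).1 (H.preserves g)))⟩

/-- Reverse the degrees of a chain complex. -/
noncomputable def flipCx (N : ℤ) (P : ChainComplex (ModuleCat.{u} A) ℤ) : CochainComplex (ModuleCat.{u} A) ℤ where
  X i := P.X (N - i)
  d i k := P.d (N - i) (N - k)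
  shape i k h := P.shape _ _ fun h' => h (by
    simp only [ComplexShape.down_Rel] at h'
    simp only [ComplexShape.up_Rel]
    omega)
  d_comp_d' i k l _ _ := P.d_comp_d _ _ _

theorem nonempty_T_flipCx (N q : ℤ) (M : ModuleCat.{u} A) :
    Nonempty (CohIII.T P (N - q) M ≃ₗ[A] CohIII.T (flipCx N P) q M) :=
  ⟨(H06FlatCx.tEquiv P (i := N - (q - 1)) (j := N - q) (k := N - (q + 1))
      (ComplexShape.prev_eq' _ (show N - q + 1 = N - (q - 1) by omega))
      (ComplexShape.next_eq' _ (show N - (q + 1) + 1 = N - q by omega)) M).symm ≪≫ₗ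
    H06FlatCx.tEquiv (flipCx N P) (i := q - 1) (j := q) (k := q + 1)
      (ComplexShape.prev_eq' _ (sub_add_cancel q 1)) (ComplexShape.next_eq' _ rfl) M⟩

/-- The frozen `F ⊗_A M` against the frozen functor. -/
noncomputable def tensorAIso (F : X.Modules) (M : Type u) [AddCommGroup M] [Module A M] :
    CohIII.tensorA A F M ≅ (CohIII.tensorAFunctor A F).obj (ModuleCat.of A M) :=
  H10Coh.Tw.commIso F _

end Groth.Agent.LeadBC
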