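import Groth.Agent.LeadBC.Corep

/-!
# `Γ(X, f^*(M~) ⊗ F) = Hom(Q, M)`
-/

set_option autoImplicit false
set_option linter.style.haveILetI false
set_option linter.unusedSectionVars false

universe u

open AlgebraicGeometry CategoryTheory CategoryTheory.Limits TopologicalSpace Opposite

namespace Groth.Agent.LeadBC

open Groth.Agent.LeadFF

attribute [local instance 10000] H10Coh.hasSheafifyAb H10Coh.hasWeakSheafifyAb H10Coh.hasExtAb H10Coh.enoughInjAb

variable {A : Type u} [CommRing A] {X : Scheme.{u}} [X.Over (Spec (CommRingCat.of A))]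

/-- Degree zero cohomology is global sections. -/
noncomputable def secTopEquiv (G : X.Modules) : Coh.HH X G 0 ≃+ Γ(G, ⊤) :=
  (H10Coh.HHEquiv G 0).trans (H10Coh.H0Equiv (H10Coh.sh G) ⊤)

theorem secTopEquiv_natural {G G' : X.Modules} (f : G ⟶ G') (x : Coh.HH X G 0) :
    secTopEquiv G' (Hm f 0 x) = f.app ⊤ (secTopEquiv G x) :=
  (congrArg (H10Coh.H0Equiv (H10Coh.sh G') ⊤) (H10Coh.topEquiv_map ((H10Coh.shF X).map f) 0 x)).trans
    (H10Coh.H0Equiv_map ((H10Coh.shF X).map f) (H10Coh.HHEquiv G 0 x))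

theorem secTopEquiv_smul (G : X.Modules) (a : A) (x : Coh.HH X G 0) :
    secTopEquiv G (a • x) = scal (X ↘ Spec (CommRingCat.of A)) ⊤ a • secTopEquiv G x := by
  rw [← Hm_smulMod, secTopEquiv_natural, smulMod_app]

theorem scG_top {R : CommRingCat.{u}} {Y : Scheme.{u}} (f : Y ⟶ Spec R) (r : R) :
    scG f ⊤ r = f.app ⊤ ((Scheme.ΓSpecIso R).inv r) := by
  show f.appLE ⊤ ⊤ le_top _ = f.app ⊤ _
  rw [Scheme.Hom.app_eq_appLE]
  rfl

theorem gsA_smul {R : CommRingCat.{u}} {Y : Scheme.{u}} (f : Y ⟶ Spec R) (G : Y.Modules) (r : R)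
    (x : Γ((Scheme.Modules.pushforward f).obj G, ⊤)) :
    r • x = (show Γ((Scheme.Modules.pushforward f).obj G, ⊤) from scG f ⊤ r • (show Γ(G, ⊤) from x)) := by
  refine (Scheme.Modules.smul_Spec_def r x).trans ?_
  rw [show ((⊤ : (Spec R).Opens).leTop).op = 𝟙 _ from rfl, CategoryTheory.Functor.map_id, scG_top]
  rfl

/-- Global sections with the action through global functions. -/
noncomputable def gsGen {R : CommRingCat.{u}} {Y : Scheme.{u}} (f : Y ⟶ Spec R) (G : Y.Modules) :
    letI : Module R Γ(G, ⊤) := Module.compHom _ (scG f ⊤)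
    Γ(G, ⊤) ≃ₗ[R] Γ((Scheme.Modules.pushforward f).obj G, ⊤) :=
  letI : Module R Γ(G, ⊤) := Module.compHom _ (scG f ⊤)
  { AddEquiv.refl _ with map_smul' := fun r x => (gsA_smul f G r x).symm }

/-- The same into the frozen functor. -/
noncomputable def gsIso (G : X.Modules) :
    letI : Module A Γ(G, ⊤) := Module.compHom _ (scal (X ↘ Spec (CommRingCat.of A)) ⊤)
    ModuleCat.of A Γ(G, ⊤) ≅ (CohIII.globalSectionsA A).obj G :=
  (gsGen (R := CommRingCat.of A) (X ↘ Spec (CommRingCat.of A)) G).toModuleIso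

/-- Global sections as `A`-modules are degree zero cohomology. -/
noncomputable def globalSectionsIso : HMod A (X := X) 0 ≅ CohIII.globalSectionsA A :=
  NatIso.ofComponents
    (fun G => letI : Module A Γ(G, ⊤) := Module.compHom _ (scal (X ↘ Spec (CommRingCat.of A)) ⊤)
      (LinearEquiv.toModuleIso { secTopEquiv G with map_smul' := fun a x => secTopEquiv_smul G a x }) ≪≫ gsIso G)
    fun {G G'} f => ModuleCat.hom_ext (LinearMap.ext fun x => by
      show (secTopEquiv G' (Hm f 0 x) : Γ(G', ⊤)) = f.app ⊤ (secTopEquiv G x)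
      exact secTopEquiv_natural f x)

variable {ι : Type u} {U : ι → X.Opens} {F : X.Modules}

theorem Model.subsingleton_above (m : Model (A := A) X F U) {j : ℤ} (hj : (m.N : ℤ) < j) (M : ModuleCat.{u} A) :
    Subsingleton ((CohIII.TFun m.P j).obj M) := by
  have h0 : IsZero (CohIII.T (KD U F m.N (A := A)) j M) :=
    (HomologicalComplex.exactAt_iff_isZero_homology _ _).1
      (HomologicalComplex.extend_exactAt _ (embN m.N) j fun p hp => by rw [embN_f] at hp; omega) |>.of_iso
      (HomologicalComplex.homologyMapIso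
        (mapExtend (MonoidalCategory.tensorRight M) (KC A U F) (embN m.N)) j)
  haveI := ModuleCat.subsingleton_of_isZero h0
  exact (m.qis j M).1.subsingleton

/-- Corepresentability of `M ↦ Γ(X, f^*(M~) ⊗ F)`. -/
theorem exists_corep [IsNoetherianRing A] [IsProper (X ↘ Spec (CommRingCat.of A))] (F : X.Modules) (hF : Coh.IsCoh F)
    (hfl : FlatMod.IsFlatOver (X ↘ Spec (CommRingCat.of A)) F) :
    ∃ Q : ModuleCat.{u} A, Module.Finite A Q ∧
      Nonempty (CohIII.tensorAFunctor A F ⋙ CohIII.globalSectionsA A ≅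
        (linearCoyoneda A (ModuleCat.{u} A)).obj (op Q)) := by
  haveI := hF.1
  obtain ⟨ι, hι, U, hU, ⟨m⟩⟩ := exists_model A F hF hfl
  have hvan : ∀ M : ModuleCat.{u} A, Subsingleton ((CohIII.TFun m.P ((m.N : ℤ) + 1)).obj M) :=
    fun M => m.subsingleton_above (lt_add_one _) M
  obtain ⟨c⟩ := nonempty_corep m.finite_free hvan
  refine ⟨ModuleCat.of A (topR m.P (m.N : ℤ)), finite_topR m.finite_free hvan, ⟨?_⟩⟩
  exact Functor.isoWhiskerLeft _ globalSectionsIso.symm ≪≫ (m.iso hU 0).symm ≪≫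
    eqToIso (by rw [Nat.cast_zero, sub_zero]) ≪≫ c

end Groth.Agent.LeadBC
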