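import Groth.Agent.LeadBC.Chart
import Groth.Agent.LeadBC.Gamma
import Groth.Agent.H10Coh.HdirCoh
import Groth.Agent.H10Coh.Proper2

/-!
# Sections of higher direct images over an affine open, linearly
-/

set_option autoImplicit false
set_option linter.style.haveILetI false
set_option linter.unusedSectionVars false

universe u

open AlgebraicGeometry CategoryTheory CategoryTheory.Limits TopologicalSpace Opposite
open scoped TensorProduct

namespace Groth.Agent.LeadBC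

open Groth.Agent.LeadFF

attribute [local instance 10000] H10Coh.hasSheafifyAb H10Coh.hasWeakSheafifyAb H10Coh.hasExtAb H10Coh.enoughInjAb
attribute [local instance] H10Coh.enoughInjMod

/-- The action of the ground ring on `H_j(P ⊗ A)` through the second factor. -/
theorem smul_eq_map_mulS {A : Type u} [CommRing A] (P : ChainComplex (ModuleCat.{u} A) ℤ) (j : ℤ) (a : A)
    (t : CohIII.T P j (ModuleCat.of A A)) : a • t = ((CohIII.TFun P j).map (mulS A A a)).hom t := by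
  obtain ⟨w, rfl⟩ := H06FlatCx.tcls_surjective P (H06FlatCx.down_next j) (ModuleCat.of A A) t
  refine Eq.trans ?_ (H06FlatCx.map_tcls P (H06FlatCx.down_next j) (mulS A A a) w).symm
  refine (map_smul (H06FlatCx.tcls P (H06FlatCx.down_next j) (ModuleCat.of A A)) a w).symm.trans
    (congrArg _ (Subtype.ext ?_))
  show a • (w : P.X j ⊗[A] A) = (LinearMap.mulLeft A a).lTensor _ w
  induction (w : P.X j ⊗[A] A) using TensorProduct.induction_on with
  | zero => simp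
  | add u v hu hv => rw [smul_add, map_add, hu, hv]
  | tmul u v => rw [LinearMap.lTensor_tmul, ← TensorProduct.tmul_smul]; rfl

/-- Two surjections with the same kernel have isomorphic targets. -/
theorem exists_addEquiv_of_ker_eq {G H H' : Type*} [AddCommGroup G] [AddCommGroup H] [AddCommGroup H']
    (c : G →+ H) (ρ : G →+ H') (hc : Function.Surjective c) (hρ : Function.Surjective ρ) (hk : ρ.ker = c.ker) :
    ∃ E : H ≃+ H', ∀ z, E (c z) = ρ z := by
  have hle : c.ker ≤ ρ.ker := hk.ge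
  refine ⟨AddEquiv.ofBijective (c.liftOfSurjective hc ⟨ρ, hle⟩) ⟨(injective_iff_map_eq_zero _).2 fun x hx => ?_,
    fun y => ?_⟩, fun z => AddMonoidHom.liftOfRightInverse_comp_apply _ _ (Function.rightInverse_surjInv hc) _ z⟩
  · obtain ⟨z, rfl⟩ := hc x
    rw [AddMonoidHom.liftOfRightInverse_comp_apply] at hx
    exact AddMonoidHom.mem_ker.1 (hk.le hx)
  · obtain ⟨z, rfl⟩ := hρ y
    exact ⟨c z, AddMonoidHom.liftOfRightInverse_comp_apply _ _ (Function.rightInverse_surjInv hc) _ z⟩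

variable {X Y : Scheme.{u}} (f : X ⟶ Y) {W : Y.Opens} (hW : IsAffineOpen W)

/-- `f⁻¹W` over `Spec Γ(W)`. -/
@[reducible] noncomputable def preOver : (f ⁻¹ᵁ W).toScheme.Over (Spec (CommRingCat.of Γ(Y, W))) :=
  ⟨(f ∣_ W) ≫ hW.isoSpec.hom⟩

theorem toGlobal_preOver :
    letI := preOver f hW
    Coh.toGlobal (A := Γ(Y, W)) ((f ⁻¹ᵁ W).toScheme ↘ Spec (CommRingCat.of Γ(Y, W))) = H10Coh.preΓ f W := by
  rw [H10Coh.preΓ_eq_toΓ f hW]
  rfl

set_option maxHeartbeats 1000000 in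
theorem exists_hdirEquiv [QuasiCompact f] [QuasiSeparated f] (F : X.Modules) [F.IsQuasicoherent] (n : ℕ) :
    letI := preOver f hW
    ∃ e : Coh.HH (f ⁻¹ᵁ W).toScheme (F.restrict (f ⁻¹ᵁ W).ι) (n + 1) ≃+
        Γ(H10Coh.hdir f (H10Coh.MRes.inj F) n, W),
      ∀ (a : Γ(Y, W)) x, e (a • x) = a • e x := by
  letI := preOver f hW
  let R := H10Coh.MRes.inj F
  haveI : (R.Z 0).IsQuasicoherent := ‹F.IsQuasicoherent›
  let U := f ⁻¹ᵁ W
  have htop : U.ι ''ᵁ ⊤ = U := U.ι_image_top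
  let ρ : Γ((R.restrict U.ι).Z (n + 1), ⊤) →+ Γ(H10Coh.hdir f R n, W) :=
    (H10Coh.piA f R n W).comp
      (show Γ(R.Z (n + 1), U.ι ''ᵁ ⊤) →+ Γ(R.Z (n + 1), U) from H10Coh.rs (R.Z (n + 1)) htop.ge)
  let c := H10Coh.mcls (R.restrict U.ι) (n + 1) (⊤ : U.toScheme.Opens)
  have hρs : Function.Surjective ρ := fun s => by
    obtain ⟨w, rfl⟩ := H10Coh.piA_surjective f R n hW s
    exact ⟨H10Coh.rs _ htop.le w,
      congrArg (H10Coh.piA f R n W) ((H10Coh.rs_rs _ _ _ _).trans (H10Coh.rs_self _ _ _))⟩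
  have hρ : ∀ z, ρ z = H10Coh.piA f R n W
      (H10Coh.rs (R.Z (n + 1)) htop.ge (show Γ(R.Z (n + 1), U.ι ''ᵁ ⊤) from z)) := fun z => rfl
  have hinv : ∀ z : Γ(R.Z (n + 1), U.ι ''ᵁ ⊤),
      H10Coh.rs (R.Z (n + 1)) htop.le (H10Coh.rs (R.Z (n + 1)) htop.ge z) = z := fun z => by
    rw [H10Coh.rs_rs, H10Coh.rs_self]
  have hk : ρ.ker = c.ker := by
    refine AddSubgroup.ext fun z => ?_
    have e1 : z ∈ ρ.ker ↔ ρ z = 0 := AddMonoidHom.mem_ker
    have e2 : z ∈ c.ker ↔ H10Coh.Bd (R.restrict U.ι) (n + 1) z :=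
      AddMonoidHom.mem_ker.trans (H10Coh.mcls_eq_zero_iff (R.restrict U.ι) (n + 1) z)
    rw [e1, e2, hρ]
    constructor
    · intro h
      refine (H10Coh.Bd_restrict R U n ⊤ (show Γ(R.Z (n + 1), U.ι ''ᵁ ⊤) from z)).2 ?_
      have h1 := H10Coh.Bd.res R (n + 1) htop.le (H10Coh.Bd_of_piA_eq_zero f R n hW _ h)
      rw [hinv] at h1
      exact h1
    · intro h
      exact H10Coh.piA_eq_zero_of_Bd f R n W _ (H10Coh.Bd.res R (n + 1) htop.ge
        ((H10Coh.Bd_restrict R U n ⊤ (show Γ(R.Z (n + 1), U.ι ''ᵁ ⊤) from z)).1 h))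
  obtain ⟨E, hE⟩ := exists_addEquiv_of_ker_eq c ρ (H10Coh.mcls_surjective _ _ _) hρs hk
  refine ⟨(H10Coh.HHEquiv (F.restrict U.ι) (n + 1)).trans E, fun a x => ?_⟩
  show E (H10Coh.HHEquiv (F.restrict U.ι) (n + 1) (Coh.toGlobal (U.toScheme ↘ Spec (CommRingCat.of Γ(Y, W))) a • x)) =
    a • E (H10Coh.HHEquiv (F.restrict U.ι) (n + 1) x)
  refine (congrArg E (H10Coh.HHEquiv_smul (F.restrict U.ι) (n + 1) _ x)).trans ?_
  rw [toGlobal_preOver f hW]
  generalize H10Coh.HHEquiv (F.restrict U.ι) (n + 1) x = t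
  obtain ⟨z, rfl⟩ := H10Coh.mcls_surjective (R.restrict U.ι) (n + 1) (⊤ : U.toScheme.Opens) t
  refine (congrArg E (H10Coh.smulH_mcls (R.restrict U.ι) (n + 1) ⊤ (H10Coh.preΓ f W a) z)).trans
    ((hE _).trans (Eq.trans ?_ (congrArg (a • ·) (hE z)).symm))
  have e := H10Coh.restrict_smul_pow U (R.Z (n + 1)) (f.app W a) ⊤ htop.le 1
    (show Γ(R.Z (n + 1), U.ι ''ᵁ ⊤) from z)
  simp only [pow_one] at e
  refine (congrArg (H10Coh.piA f R n W) ((congrArg (H10Coh.rs _ htop.ge) e).trans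
    ((Scheme.Modules.map_smul _ (homOfLE htop.ge) _ _).trans ?_))).trans (H10Coh.piA_smul f R n W a _)
  refine congrArg₂ (fun (c : Γ(X, U)) (x : Γ(R.Z (n + 1), U)) => c • x) ?_ rfl
  exact (H10Coh.rres_rres htop.le htop.ge _).trans (by simp [U])

theorem exists_pushEquiv (F : X.Modules) :
    letI := preOver f hW
    ∃ e : Coh.HH (f ⁻¹ᵁ W).toScheme (F.restrict (f ⁻¹ᵁ W).ι) 0 ≃+ Γ((Scheme.Modules.pushforward f).obj F, W),
      ∀ (a : Γ(Y, W)) x, e (a • x) = a • e x := by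
  letI := preOver f hW
  let U := f ⁻¹ᵁ W
  have htop : U.ι ''ᵁ ⊤ = U := U.ι_image_top
  let r : Γ(F.restrict U.ι, ⊤) ≃+ Γ(F, U) :=
    { toFun := fun z => H10Coh.rs F htop.ge (show Γ(F, U.ι ''ᵁ ⊤) from z)
      invFun := fun w => H10Coh.rs F htop.le w
      left_inv := fun z => (H10Coh.rs_rs _ _ _ _).trans (H10Coh.rs_self _ _ _)
      right_inv := fun w => (H10Coh.rs_rs _ _ _ _).trans (H10Coh.rs_self _ _ _)
      map_add' := fun x y => map_add _ _ _ }
  refine ⟨(secTopEquiv (F.restrict U.ι)).trans r, fun a x => ?_⟩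
  show r (secTopEquiv (F.restrict U.ι) (a • x)) =
    f.app W a • r (secTopEquiv (F.restrict U.ι) x)
  rw [secTopEquiv_smul]
  generalize secTopEquiv (F.restrict U.ι) x = z
  have hs : scal (U.toScheme ↘ Spec (CommRingCat.of Γ(Y, W))) ⊤ a = H10Coh.gres (H10Coh.preΓ f W a) ⊤ := by
    rw [← toGlobal_preOver f hW]
    rfl
  rw [hs]
  have e := H10Coh.restrict_smul_pow U F (f.app W a) ⊤ htop.le 1 (show Γ(F, U.ι ''ᵁ ⊤) from z)
  simp only [pow_one] at e
  refine (congrArg (H10Coh.rs _ htop.ge) e).trans ((Scheme.Modules.map_smul _ (homOfLE htop.ge) _ _).trans ?_)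
  refine congrArg₂ (fun (c : Γ(X, U)) (x : Γ(F, U)) => c • x) ?_ rfl
  exact (H10Coh.rres_rres htop.le htop.ge _).trans (by simp [U])

theorem exists_rpushEquiv [QuasiCompact f] [QuasiSeparated f] [HasInjectiveResolutions X.Modules]
    (F : X.Modules) [F.IsQuasicoherent] (p : ℕ) :
    letI := preOver f hW
    ∃ e : Coh.HH (f ⁻¹ᵁ W).toScheme (F.restrict (f ⁻¹ᵁ W).ι) p ≃+ Γ((Coh.Rpush f p).obj F, W),
      ∀ (a : Γ(Y, W)) x, e (a • x) = a • e x := by
  letI := preOver f hW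
  have tr : ∀ {M N : Y.Modules} (u : M ≅ N), ∃ e : Γ(M, W) ≃+ Γ(N, W), ∀ (a : Γ(Y, W)) x, e (a • x) = a • e x :=
    fun {M N} u => ⟨{ toFun := fun x => u.hom.app W x
                      invFun := fun y => u.inv.app W y
                      left_inv := fun x => congr($(congr(Scheme.Modules.Hom.app $(u.hom_inv_id) W)) x)
                      right_inv := fun y => congr($(congr(Scheme.Modules.Hom.app $(u.inv_hom_id) W)) y)
                      map_add' := fun x y => map_add _ _ _ }, fun a x => Scheme.Modules.Hom.app_smul u.hom a x⟩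
  cases p with
  | zero =>
    obtain ⟨e₀, he₀⟩ := exists_pushEquiv f hW F
    have : (Scheme.Modules.pushforward f).IsRightAdjoint :=
      (Scheme.Modules.pullbackPushforwardAdjunction f).isRightAdjoint
    have : PreservesFiniteLimits (Scheme.Modules.pushforward f) := inferInstance
    obtain ⟨e₁, he₁⟩ := tr ((Scheme.Modules.pushforward f).rightDerivedZeroIsoSelf.app F).symm
    exact ⟨e₀.trans e₁, fun a x => (congrArg e₁ (he₀ a x)).trans (he₁ a _)⟩
  | succ n =>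
    obtain ⟨e₀, he₀⟩ := exists_hdirEquiv f hW F n
    obtain ⟨e₁, he₁⟩ := tr (H10Coh.nonempty_rpush_iso_hdir f F n).some.symm
    exact ⟨e₀.trans e₁, fun a x => (congrArg e₁ (he₀ a x)).trans (he₁ a _)⟩

variable {f hW}

set_option maxHeartbeats 1000000 in
/-- Sections of higher direct images are the values of the model of the chart. -/
theorem Model.exists_sections_equiv [IsProper f] [HasInjectiveResolutions X.Modules] {F : X.Modules}
    [F.IsQuasicoherent] {ι : Type u} [Finite ι] {U : ι → (chartX f hW).Opens} (hU : GoodCover U)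
    (m : Model (A := Γ(Y, W)) (chartX f hW) (chartF f hW F) U) (p : ℕ) :
    Nonempty (H06FlatCx.H0 m.P ((m.N : ℤ) - p + 1) ((m.N : ℤ) - p) ((m.N : ℤ) - p - 1) ≃ₗ[Γ(Y, W)]
      Γ((Coh.Rpush f p).obj F, W)) := by
  letI := preOver f hW
  let U₀ := (f ⁻¹ᵁ W).toScheme
  haveI : (chartF f hW F).IsQuasicoherent := H29Fitt.isQCoh_pullback _ F inferInstance
  let q : U₀ ⟶ chartX f hW := pullback.lift (f ⁻¹ᵁ W).ι (U₀ ↘ Spec (CommRingCat.of Γ(Y, W)))
    (by show _ = ((f ∣_ W) ≫ hW.isoSpec.hom) ≫ hW.fromSpec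
        rw [Category.assoc, hW.isoSpec_hom_fromSpec, morphismRestrict_ι])
  have hbig : IsPullback (f ⁻¹ᵁ W).ι (U₀ ↘ Spec (CommRingCat.of Γ(Y, W))) f hW.fromSpec :=
    (isPullback_morphismRestrict f W).flip.of_iso (Iso.refl _) (Iso.refl _) hW.isoSpec (Iso.refl _)
      (by simp) rfl (by simp)
      (by simp)
  have hid : Spec.map (CommRingCat.ofHom (algebraMap Γ(Y, W) Γ(Y, W))) = 𝟙 _ := Spec.map_id _
  have hsq : IsPullback q (U₀ ↘ Spec (CommRingCat.of Γ(Y, W))) (chartX f hW ↘ Spec (CommRingCat.of Γ(Y, W)))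
      (Spec.map (CommRingCat.ofHom (algebraMap Γ(Y, W) Γ(Y, W)))) :=
    IsPullback.of_right (h₁₂ := pullback.fst f hW.fromSpec) (v₁₃ := f) (h₂₂ := hW.fromSpec)
      (by rw [pullback.lift_fst, hid, Category.id_comp]; exact hbig)
      (by rw [hid, Category.comp_id]; exact pullback.lift_snd _ _ _) (IsPullback.of_hasPullback _ _)
  obtain ⟨e₁, he₁⟩ := Model.exists_bcEquiv Γ(Y, W) hsq hU m p
  obtain ⟨e₂, he₂⟩ := exists_rpushEquiv f hW F p
  let i : F.restrict (f ⁻¹ᵁ W).ι ≅ qF q (chartF f hW F) :=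
    (Scheme.Modules.restrictFunctorIsoPullback (f ⁻¹ᵁ W).ι).app F ≪≫
      (Scheme.Modules.pullbackCongr (pullback.lift_fst _ _ _).symm).app F ≪≫
      ((Scheme.Modules.pullbackComp q (pullback.fst f hW.fromSpec)).app F).symm
  let e₀ : Coh.HH U₀ (qF q (chartF f hW F)) p ≃ₗ[Γ(Y, W)] Coh.HH U₀ (F.restrict (f ⁻¹ᵁ W).ι) p :=
    ((HMod Γ(Y, W) p).mapIso i.symm).toLinearEquiv
  let L : CohIII.T m.P ((m.N : ℤ) - p) (ModuleCat.of Γ(Y, W) Γ(Y, W)) ≃ₗ[Γ(Y, W)]
      Γ((Coh.Rpush f p).obj F, W) :=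
    { (e₁.trans e₀.toAddEquiv).trans e₂ with
      map_smul' := fun a t => by
        show e₂ (e₀ (e₁ (a • t))) = a • e₂ (e₀ (e₁ t))
        rw [smul_eq_map_mulS, he₁, map_smul, he₂] }
  haveI := (m.finite_free ((m.N : ℤ) - p - 1)).2
  exact ⟨(H06FlatCx.tSelfEquiv m.P (H06FlatCx.down_prev _) (H06FlatCx.down_next _)).trans L⟩

end Groth.Agent.LeadBC
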