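import Groth.Agent.LeadBC.FiberConst
import Groth.Agent.LeadBC.TrivInv
import Groth.Agent.H11Ample.RelAmple
import Groth.Agent.H11Sym.InvertibleInverse

/-!
# Triviality on a fibre through sections of a module and of its inverse
-/

set_option autoImplicit false
set_option linter.style.haveILetI false
set_option linter.unusedSectionVars false

universe u

open CategoryTheory CategoryTheory.Limits AlgebraicGeometry Opposite TopologicalSpace

namespace Groth.Agent.LeadBC.TrivFiber

open Groth.Agent.H11Tilde Groth.Agent.LeadBC.GenBC Groth.Agent.H10Coh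

attribute [local instance 10000] H10Coh.hasSheafifyAb H10Coh.hasWeakSheafifyAb H10Coh.hasExtAb H10Coh.enoughInjAb

/-- An inverse of an invertible module is invertible. -/
theorem isInvertible_of_tensor {X : Scheme.{u}} {L M : X.Modules} (hL : PicF.IsInvertible L)
    (e : CohB1.tensorMod L M ≅ Coh.structureModule X) : PicF.IsInvertible M := by
  obtain ⟨L', hL', ⟨e'⟩⟩ := H11Sym.exists_inverse hL
  obtain ⟨φ⟩ := H25Theta.cancel_right (A := M) (B := L') hL ⟨H10Coh.Tw.commIso M L ≪≫ e ≪≫ e'.symm⟩
  exact H11Tilde.isInvertible_of_iso φ.symm hL'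

variable {X S : Scheme.{u}} (f : X ⟶ S)

/-- Non zero sections on the fibre. -/
theorem exists_ne_zero (L : X.Modules) {s : S} (h : Nontrivial (CohIII.fiberH f L s 0)) :
    ∃ a : Γ(CohIII.fiberMod f L s, ⊤), a ≠ 0 := by
  obtain ⟨x, hx⟩ := exists_ne (0 : CohIII.fiberH f L s 0)
  exact ⟨H10Coh.HH0Equiv (CohIII.fiberMod f L s) x, fun h0 =>
    hx ((H10Coh.HH0Equiv (CohIII.fiberMod f L s)).injective (h0.trans (map_zero _).symm))⟩

theorem nontrivial_of_pos {L : X.Modules} {s : S} (h : CohIII.fiberRank f L 0 s ≠ 0) :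
    Nontrivial (CohIII.fiberH f L s 0) := by
  by_contra hn
  rw [not_nontrivial_iff_subsingleton] at hn
  exact h (Module.finrank_zero_of_subsingleton)

variable [IsProper f]

/-- On an integral fibre: trivial as soon as the module and its inverse have sections. -/
theorem trivial_of_nontrivial {L M : X.Modules} (hL : PicF.IsInvertible L)
    (e : CohB1.tensorMod L M ≅ Coh.structureModule X) {s : S} [IsIntegral (f.fiber s)]
    (h₁ : Nontrivial (CohIII.fiberH f L s 0)) (h₂ : Nontrivial (CohIII.fiberH f M s 0)) :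
    Nonempty (CohIII.fiberMod f L s ≅ Coh.structureModule (f.fiber s)) ∧
      Nonempty (CohIII.fiberMod f M s ≅ Coh.structureModule (f.fiber s)) := by
  have hM := isInvertible_of_tensor hL e
  obtain ⟨t⟩ := H11Ample.exists_iso_pullback_tensor (f.fiberι s) hL hM
  obtain ⟨o⟩ := H11Ample.nonempty_pullback_structureModule_iso (f.fiberι s)
  obtain ⟨a, ha⟩ := exists_ne_zero f L h₁
  obtain ⟨b, hb⟩ := exists_ne_zero f M h₂
  haveI : IsProper (f.fiberToSpecResidueField s) := MorphismProperty.pullback_snd _ _ inferInstance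
  exact TrivInv.nonempty_iso_of_proper (k := S.residueField s) (f.fiberToSpecResidueField s)
    (H11Ample.isInvertible_pullback (f.fiberι s) hL) (H11Ample.isInvertible_pullback (f.fiberι s) hM)
    (t.symm ≪≫ (Scheme.Modules.pullback (f.fiberι s)).mapIso e ≪≫ o) ha hb

/-- Triviality passes to the inverse. -/
theorem trivial_inverse {L M : X.Modules} (hL : PicF.IsInvertible L)
    (e : CohB1.tensorMod L M ≅ Coh.structureModule X) {s : S}
    (h : Nonempty (CohIII.fiberMod f L s ≅ Coh.structureModule (f.fiber s))) :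
    Nonempty (CohIII.fiberMod f M s ≅ Coh.structureModule (f.fiber s)) := by
  obtain ⟨i⟩ := h
  obtain ⟨t⟩ := H11Ample.exists_iso_pullback_tensor (f.fiberι s) hL (isInvertible_of_tensor hL e)
  obtain ⟨o⟩ := H11Ample.nonempty_pullback_structureModule_iso (f.fiberι s)
  exact ⟨(H10Coh.Tw.rightUnitIso _).symm ≪≫ H10Coh.Tw.commIso _ _ ≪≫ H25Theta.tI i.symm (Iso.refl _) ≪≫
    t.symm ≪≫ (Scheme.Modules.pullback (f.fiberι s)).mapIso e ≪≫ o⟩

variable [Flat f] [LocallyOfFinitePresentation f]

/-- On integral fibres with only constants the trivial locus is closed. -/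
theorem isClosed_trivial (hint : ∀ s : S, IsIntegral (f.fiber s))
    (hK : ∀ s : S, IsIso (f.fiberToSpecResidueField s).appTop) (L : X.Modules) (hL : PicF.IsInvertible L) :
    IsClosed {s : S | Nonempty (CohIII.fiberMod f L s ≅ Coh.structureModule (f.fiber s))} := by
  obtain ⟨M, hM, ⟨e'⟩⟩ := H11Sym.exists_inverse hL
  let e : CohB1.tensorMod L M ≅ Coh.structureModule X := H10Coh.Tw.commIso L M ≪≫ e'
  have hc : ∀ N : X.Modules, PicF.IsInvertible N → IsClosed {s : S | CohIII.fiberRank f N 0 s ≠ 0} := by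
    intro N hN
    have hlf := H23Para.isFinLocFree_of_isInvertible hN
    have hfp : CohB1.IsFP N := H8Props.FinLocFree.isFP_of_isFinLocFree N hlf
    haveI : N.IsQuasicoherent := H29Fitt.isQCoh_of_isFP N hfp
    refine isOpen_compl_iff.1 ?_
    refine (congrArg IsOpen (Set.ext fun s => ?_)).mp
      ((upperSemicontinuous_fiberRank f N hfp (H10Coh.SheafHom.isFlatOver_of_isFinLocFree f N hlf) 0).isOpen_preimage 1)
    show CohIII.fiberRank f N 0 s < 1 ↔ ¬ CohIII.fiberRank f N 0 s ≠ 0
    omega
  refine (congrArg IsClosed (Set.ext fun s => ?_)).mp ((hc L hL).inter (hc M hM))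
  refine ⟨fun ⟨h₁, h₂⟩ => ?_, fun h => ?_⟩
  · haveI := hint s
    exact (trivial_of_nontrivial f hL e (nontrivial_of_pos f h₁) (nontrivial_of_pos f h₂)).1
  · obtain ⟨i⟩ := h
    obtain ⟨j⟩ := trivial_inverse f hL e ⟨i⟩
    exact ⟨show CohIII.fiberRank f L 0 s ≠ 0 by rw [Seesaw.fiberRank_eq_one f L (hK s) i]; exact one_ne_zero,
      show CohIII.fiberRank f M 0 s ≠ 0 by rw [Seesaw.fiberRank_eq_one f M (hK s) j]; exact one_ne_zero⟩

end Groth.Agent.LeadBC.TrivFiber
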