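import Groth.Agent.LeadBC.Seesaw
import Groth.Agent.LeadBC.TrivFiber
import Groth.Agent.LeadBC.GenBC.Conseq
import Groth.Agent.H10Coh.Pn.Results

/-!
# The seesaw principle when `H¹(O)` of the fibres vanishes
-/

set_option autoImplicit false
set_option linter.style.haveILetI false
set_option linter.unusedSectionVars false

universe u

open CategoryTheory CategoryTheory.Limits AlgebraicGeometry Opposite TopologicalSpace

namespace Groth.Agent.LeadBC.Seesaw

open Groth.Agent.H11Tilde Groth.Agent.LeadBC.GenBC Groth.Agent.H10Coh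

attribute [local instance 10000] H10Coh.hasSheafifyAb H10Coh.hasWeakSheafifyAb H10Coh.hasExtAb H10Coh.enoughInjAb

variable {X S : Scheme.{u}} (f : X ⟶ S)

/-- A generator over the preimage of an open trivialises the fibres over it. -/
theorem trivial_of_gen (L : X.Modules) {V : S.Opens} {t : Γ(L, f ⁻¹ᵁ V)} (ht : IsGen L t) {s : S} (hs : s ∈ V) :
    Nonempty (CohIII.fiberMod f L s ≅ Coh.structureModule (f.fiber s)) := by
  have hle : (⊤ : (f.fiber s).Opens) ≤ f.fiberι s ⁻¹ᵁ (f ⁻¹ᵁ V) := fun z _ => by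
    show f (f.fiberι s z) ∈ V
    rw [show f (f.fiberι s z) = s from (f.range_fiberι s).le ⟨z, rfl⟩]
    exact hs
  let g : Γ(CohIII.fiberMod f L s, ⊤) := (CohIII.fiberMod f L s).presheaf.map (homOfLE hle).op
    (OmegaSh.pullSect (f.fiberι s) L (f ⁻¹ᵁ V) t)
  have hg' : IsGen (CohIII.fiberMod f L s) g := (ht.pullSect (f.fiberι s)).res hle
  haveI := H11Tilde.isIso_homOfGlobal (CohIII.fiberMod f L s) g fun W => hg'.bijective (le_top : W ≤ ⊤)
  exact ⟨(asIso (H11Tilde.homOfGlobal (CohIII.fiberMod f L s) g)).symm⟩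

variable [IsProper f] [Flat f] [LocallyOfFinitePresentation f]
  (hH1 : ∀ s : S, Subsingleton (Coh.HH (f.fiber s) (Coh.structureModule (f.fiber s)) 1))
  (L : X.Modules)

include hH1

/-- Sections spread out near a trivial fibre. -/
theorem exists_epiOn_of_triv_H1 (hL : PicF.IsInvertible L) {s : S}
    (htriv : Nonempty (CohIII.fiberMod f L s ≅ Coh.structureModule (f.fiber s))) :
    ∃ (W : S.Opens) (hW : IsAffineOpen W), s ∈ W ∧ EpiOn f L hW 0 := by
  have hlf := H23Para.isFinLocFree_of_isInvertible hL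
  have hfp : CohB1.IsFP L := H8Props.FinLocFree.isFP_of_isFinLocFree L hlf
  have hfl : FlatMod.IsFlatOver f L := H10Coh.SheafHom.isFlatOver_of_isFinLocFree f L hlf
  haveI : L.IsQuasicoherent := H29Fitt.isQCoh_of_isFP L hfp
  obtain ⟨e⟩ := htriv
  obtain ⟨W, hW, hs, -, hm, -, -⟩ := exists_vanishing_nhd f L hfp hfl 1
    (show Subsingleton (CohIII.fiberH f L s 1) from H10Coh.subsingleton_HH_of_iso e.symm 1 (hH1 s))
  exact ⟨W, hW, hs, (monoOn_succ_iff f L hW hfp hfl 0).1 hm⟩

/-- Being trivial on a fibre is an open condition on the base. -/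
theorem isOpen_trivial (hL : PicF.IsInvertible L) (hK : ∀ s : S, IsIso (f.fiberToSpecResidueField s).appTop) :
    IsOpen {s : S | Nonempty (CohIII.fiberMod f L s ≅ Coh.structureModule (f.fiber s))} :=
  isOpen_iff_forall_mem_open.2 fun s hs => by
    obtain ⟨V, t, hsV, ht⟩ := exists_gen_nhd_at f L hL (hK s) (exists_epiOn_of_triv_H1 f hH1 L hL hs) hs
    exact ⟨V, fun z hz => trivial_of_gen f L ht hz, V.isOpen, hsV⟩

/-- On a connected base: trivial on one fibre means pulled back from the base. -/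
theorem invertible_and_counit_of_connected [ConnectedSpace S] (hint : ∀ s : S, IsIntegral (f.fiber s))
    (hL : PicF.IsInvertible L) (hK : ∀ s : S, IsIso (f.fiberToSpecResidueField s).appTop) {s₀ : S}
    (h₀ : Nonempty (CohIII.fiberMod f L s₀ ≅ Coh.structureModule (f.fiber s₀))) :
    PicF.IsInvertible ((Scheme.Modules.pushforward f).obj L) ∧
      IsIso ((Scheme.Modules.pullbackPushforwardAdjunction f).counit.app L) := by
  have hall : ∀ s : S, Nonempty (CohIII.fiberMod f L s ≅ Coh.structureModule (f.fiber s)) := fun s => by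
    have hc : IsClopen {s : S | Nonempty (CohIII.fiberMod f L s ≅ Coh.structureModule (f.fiber s))} :=
      ⟨TrivFiber.isClosed_trivial f hint hK L hL, isOpen_trivial f hH1 L hL hK⟩
    exact (hc.eq_univ ⟨s₀, h₀⟩).ge (Set.mem_univ s)
  exact invertible_and_counit_of_epiOn f L hL hK
    (fun s => exists_epiOn_of_triv_H1 f hH1 L hL (hall s)) hall

end Groth.Agent.LeadBC.Seesaw
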