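import Groth.Agent.LeadBC.SectRpush
import Groth.Agent.H10Coh.FlatBC.Main
import Groth.Agent.H29Fitt.Sheaf
import Groth.Agent.LeadFF.Limit

/-!
# Stalks of higher direct images are the cohomology over the local ring
-/

set_option autoImplicit false
set_option linter.style.haveILetI false
set_option linter.unusedSectionVars false

universe u

open AlgebraicGeometry CategoryTheory CategoryTheory.Limits TopologicalSpace Opposite
open scoped TensorProduct

namespace Groth.Agent.LeadBC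

variable {X Y : Scheme.{u}} (f : X ⟶ Y)

theorem exists_stalkEquiv [QuasiCompact f] [QuasiSeparated f] [HasInjectiveResolutions X.Modules]
    (F : X.Modules) [F.IsQuasicoherent] (y : Y) (p : ℕ) (X₁ : Scheme.{u})
    [X₁.Over (Spec (CommRingCat.of (Y.presheaf.stalk y)))] (g : X₁ ⟶ X)
    (hsq : IsPullback g (X₁ ↘ Spec (CommRingCat.of (Y.presheaf.stalk y))) f (Y.fromSpecStalk y)) :
    Nonempty (Coh.HH X₁ ((Scheme.Modules.pullback g).obj F) p ≃ₗ[Y.presheaf.stalk y]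
      ((Coh.Rpush f p).obj F).presheaf.stalk y) := by
  obtain ⟨V, hV, hy, -⟩ := exists_isAffineOpen_mem_and_subset (U := (⊤ : Y.Opens)) (x := y) trivial
  let A := Γ(Y, V)
  let O := Y.presheaf.stalk y
  let R := (Coh.Rpush f p).obj F
  letI algO : Algebra A O := TopCat.Presheaf.algebra_section_stalk Y.presheaf (⟨y, hy⟩ : V)
  letI : Module A (R.presheaf.stalk y) := Module.compHom _ (algebraMap A O)
  haveI : IsScalarTower A O (R.presheaf.stalk y) := .of_algebraMap_smul fun _ _ => rfl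
  haveI hloc : IsLocalization.AtPrime O (hV.primeIdealOf ⟨y, hy⟩).asIdeal := hV.isLocalization_stalk ⟨y, hy⟩
  haveI : Module.Flat A O := IsLocalization.flat O (hV.primeIdealOf ⟨y, hy⟩).asIdeal.primeCompl
  have hR : Coh.IsQCoh R := H10Coh.isQuasicoherent_rpush f F p
  haveI := H29Fitt.isLocalizedModule_germLin R hR hV ⟨y, hy⟩
  have hbc : IsBaseChange O (H29Fitt.germLin R (⟨y, hy⟩ : V)) :=
    IsLocalizedModule.isBaseChange (hV.primeIdealOf ⟨y, hy⟩).asIdeal.primeCompl O _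
  letI := preOver f hV
  let U₀ := (f ⁻¹ᵁ V).toScheme
  haveI : CompactSpace U₀ := isCompact_iff_compactSpace.1 (QuasiCompact.isCompact_preimage _ V.isOpen hV.isCompact)
  haveI : QuasiSeparatedSpace U₀ := (H10Coh.qcqs_preimage f hV).1
  have hle : Set.range g.base ⊆ Set.range (f ⁻¹ᵁ V).ι.base := by
    rintro _ ⟨z, rfl⟩
    rw [Scheme.Opens.range_ι]
    show f.base (g.base z) ∈ V
    rw [← Scheme.Hom.comp_apply, hsq.w]
    show (Y.fromSpecStalk y).base _ ∈ V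
    exact (Scheme.range_fromSpecStalk (x := y) ▸ ⟨_, rfl⟩ : (Y.fromSpecStalk y).base
      ((X₁ ↘ Spec (CommRingCat.of (Y.presheaf.stalk y))).base z) ∈ {x | x ⤳ y}).mem_open V.isOpen hy
  let g₁ : X₁ ⟶ U₀ := IsOpenImmersion.lift (f ⁻¹ᵁ V).ι g hle
  have hfs : Spec.map (CommRingCat.ofHom (algebraMap A O)) ≫ hV.fromSpec = Y.fromSpecStalk y :=
    hV.fromSpecStalk_eq_fromSpecStalk hy
  have hbig : IsPullback (f ⁻¹ᵁ V).ι (U₀ ↘ Spec (CommRingCat.of A)) f hV.fromSpec :=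
    (isPullback_morphismRestrict f V).flip.of_iso (Iso.refl _) (Iso.refl _) hV.isoSpec (Iso.refl _)
      (by simp) rfl (by simp)
      (by simp)
  have hg₁ : g₁ ≫ (f ⁻¹ᵁ V).ι = g := IsOpenImmersion.lift_fac _ _ _
  have hsq₁ : IsPullback g₁ (X₁ ↘ Spec (CommRingCat.of O)) (U₀ ↘ Spec (CommRingCat.of A))
      (Spec.map (CommRingCat.ofHom (algebraMap A O))) :=
    IsPullback.of_right (h₁₂ := (f ⁻¹ᵁ V).ι) (v₁₃ := f) (h₂₂ := hV.fromSpec)
      (by rw [hg₁, hfs]; exact hsq)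
      (by rw [← cancel_mono hV.fromSpec, Category.assoc, Category.assoc, hfs, ← hbig.w, ← Category.assoc, hg₁, hsq.w])
      hbig
  obtain ⟨e₁⟩ := H10Coh.FBC.nonempty_flat_base_change (B := O) (F.restrict (f ⁻¹ᵁ V).ι) hsq₁ p
  obtain ⟨e₂, he₂⟩ := exists_rpushEquiv f hV F p
  let e₂' : Coh.HH U₀ (F.restrict (f ⁻¹ᵁ V).ι) p ≃ₗ[A] Γ(R, V) := { e₂ with map_smul' := he₂ }
  let i : (Scheme.Modules.pullback g₁).obj (F.restrict (f ⁻¹ᵁ V).ι) ≅ (Scheme.Modules.pullback g).obj F :=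
    (Scheme.Modules.pullback g₁).mapIso ((Scheme.Modules.restrictFunctorIsoPullback (f ⁻¹ᵁ V).ι).app F) ≪≫
      (Scheme.Modules.pullbackComp g₁ (f ⁻¹ᵁ V).ι).app F ≪≫ (Scheme.Modules.pullbackCongr hg₁).app F
  exact ⟨((HMod O p).mapIso i.symm).toLinearEquiv ≪≫ₗ e₁.symm ≪≫ₗ
    TensorProduct.AlgebraTensorModule.congr (LinearEquiv.refl O O) e₂' ≪≫ₗ hbc.equiv⟩

end Groth.Agent.LeadBC
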