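import Groth.Agent.H22Alg.GlobalFunctions
import Groth.Agent.H19Grp.AntiAffine
import Mathlib.FieldTheory.IsAlgClosed.Basic

/-!
# Reduced connected geometric fibres have only constants
-/

set_option autoImplicit false
set_option linter.style.haveILetI false

universe u

open CategoryTheory CategoryTheory.Limits AlgebraicGeometry

namespace Groth.Agent.LeadBC.GeomConn

theorem isIso_appTop_of_algClosed {K : Type u} [Field K] [IsAlgClosed K] {X : Scheme.{u}}
    (f : X ⟶ Spec (CommRingCat.of K)) [IsProper f] [ConnectedSpace X] [IsReduced X] : IsIso f.appTop := by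
  letI := Groth.Agent.H22Alg.GlobalFunctions.algΓ f
  haveI := Groth.Agent.H22Alg.GlobalFunctions.finite_algΓ f
  letI := (Groth.Agent.H22Alg.GlobalFunctions.isField_of_universallyClosed f).toField
  rw [H19Grp.AntiAffine.isIso_appTop_iff]
  exact IsAlgClosed.algebraMap_bijective_of_isIntegral (k := K) (K := Γ(X, ⊤))

theorem isIso_appTop_fibre {X S : Scheme.{u}} (f : X ⟶ S) [IsProper f]
    (h : ∀ (K : Type u) [Field K] [IsAlgClosed K] (g : Spec (CommRingCat.of K) ⟶ S),
      IsReduced (pullback f g) ∧ ConnectedSpace ↥(pullback f g)) (s : S) :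
    IsIso (f.fiberToSpecResidueField s).appTop := by
  let k := S.residueField s
  let K := AlgebraicClosure k
  let π : Spec (CommRingCat.of K) ⟶ Spec k := Spec.map (CommRingCat.ofHom (algebraMap k K))
  haveI : IsProper (f.fiberToSpecResidueField s) := MorphismProperty.pullback_snd _ _ inferInstance
  let P := pullback (f.fiberToSpecResidueField s) π
  obtain ⟨h1, h2⟩ := h K (π ≫ S.fromSpecResidueField s)
  let e : pullback (f.fiberToSpecResidueField s) π ≅ pullback f (π ≫ S.fromSpecResidueField s) :=
    pullbackLeftPullbackSndIso f (S.fromSpecResidueField s) π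
  haveI : IsReduced P := isReduced_of_isOpenImmersion e.hom
  haveI : ConnectedSpace ↥P := e.hom.homeomorph.connectedSpace_iff.mpr h2
  haveI : IsProper (pullback.snd (f.fiberToSpecResidueField s) π) := MorphismProperty.pullback_snd _ _ inferInstance
  haveI := isIso_appTop_of_algClosed (pullback.snd (f.fiberToSpecResidueField s) π)
  haveI : Flat π := by
    rw [HasRingHomProperty.Spec_iff (P := @Flat)]
    exact RingHom.flat_algebraMap_iff.mpr (inferInstanceAs (Module.Flat k K))
  haveI : CompactSpace ↥(f.fiber s) := QuasiCompact.compactSpace_of_compactSpace (f.fiberToSpecResidueField s)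
  haveI : QuasiSeparatedSpace ↥(f.fiber s) := quasiSeparatedSpace_of_quasiSeparated (f.fiberToSpecResidueField s)
  have hp := H19Grp.AntiAffine.isPushout_of_flat_affine
    (H := (IsPullback.of_hasPullback (f.fiberToSpecResidueField s) π).flip)
  haveI : Nontrivial Γ(Spec (CommRingCat.of K), ⊤) :=
    (Scheme.ΓSpecIso (CommRingCat.of K)).commRingCatIsoToRingEquiv.toEquiv.nontrivial
  exact (ConcreteCategory.isIso_iff_bijective _).2
    (H19Grp.AntiAffine.bijective_of_isPushout (H19Grp.AntiAffine.isField_Γ_Spec k) hp)

end Groth.Agent.LeadBC.GeomConn
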