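import Groth.Agent.LeadBC.Model
import Groth.Agent.H10Coh.Local

/-!
# Models over affine bases: the good cover, existence, degree zero
-/

set_option autoImplicit false
set_option linter.style.haveILetI false
set_option linter.unusedSectionVars false

universe u

open AlgebraicGeometry CategoryTheory CategoryTheory.Limits TopologicalSpace Opposite

namespace Groth.Agent.LeadBC

open Groth.Agent.LeadFF Groth.Agent.H15Site

variable (A : Type u) [CommRing A] {X : Scheme.{u}} [X.Over (Spec (CommRingCat.of A))]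

theorem isAffineOpen_cap_of_separated [IsSeparated (X ↘ Spec (CommRingCat.of A))] {ι : Type u} {U : ι → X.Opens}
    (hU : ∀ i, IsAffineOpen (U i)) : ∀ (p : ℕ) (a : Fin (p + 1) → ι), IsAffineOpen (CechTop.cap U a) := by
  intro p a
  haveI : IsSeparated (terminal.from X) := by
    rw [← terminal.comp_from (X ↘ Spec (CommRingCat.of A))]
    infer_instance
  exact IsAffineOpen.iInf fun k => hU (a k)

theorem exists_goodCover [QuasiCompact (X ↘ Spec (CommRingCat.of A))]
    [IsSeparated (X ↘ Spec (CommRingCat.of A))] :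
    ∃ (ι : Type u) (_ : Finite ι) (U : ι → X.Opens), GoodCover U := by
  haveI : CompactSpace X := QuasiCompact.compactSpace_of_compactSpace (X ↘ Spec (CommRingCat.of A))
  obtain ⟨k, U, hU, -, hcov⟩ := H10Coh.exists_finite_affine_cover (W := (⊤ : X.Opens))
    (by simpa using isCompact_univ)
  exact ⟨ULift.{u} (Fin k), inferInstance, fun i => U i.down,
    ⟨isAffineOpen_cap_of_separated A fun i => hU _, hcov.trans (iSup_le fun j =>
      le_iSup (fun i : ULift.{u} (Fin k) => U i.down) ⟨j⟩)⟩⟩

/-- A coherent flat module on a proper scheme has a model. -/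
theorem exists_model [IsNoetherianRing A] [IsProper (X ↘ Spec (CommRingCat.of A))] (F : X.Modules) (hF : Coh.IsCoh F)
    (hfl : FlatMod.IsFlatOver (X ↘ Spec (CommRingCat.of A)) F) :
    ∃ (ι : Type u) (_ : Finite ι) (U : ι → X.Opens), GoodCover U ∧ Nonempty (Model (A := A) X F U) := by
  haveI := hF.1
  obtain ⟨ι, hι, U, hU⟩ := exists_goodCover A (X := X)
  obtain ⟨N, hN⟩ := exists_bound_HH A X
  exact ⟨ι, hι, U, hU, nonempty_model F hU hfl (fun p => H10Coh.finite_HH_proper A X F hF p) hN⟩

/-- The natural isomorphism of functors to groups. -/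
theorem exists_iso_HAb [IsNoetherianRing A] [IsProper (X ↘ Spec (CommRingCat.of A))] (F : X.Modules) (hF : Coh.IsCoh F)
    (hfl : FlatMod.IsFlatOver (X ↘ Spec (CommRingCat.of A)) F) :
    ∃ (N : ℕ) (P : ChainComplex (ModuleCat.{u} A) ℤ), (∀ i, Module.Finite A (P.X i) ∧ Module.Free A (P.X i)) ∧
      (∀ i, i < 0 → IsZero (P.X i)) ∧
      ∀ p : ℕ, Nonempty (CohIII.TFun P ((N : ℤ) - p) ≅ CohIII.tensorAFunctor A F ⋙ HMod A p) := by
  haveI := hF.1
  obtain ⟨ι, hι, U, hU, ⟨m⟩⟩ := exists_model A F hF hfl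
  exact ⟨m.N, m.P, m.finite_free, m.isZero_neg, fun p => ⟨m.iso hU p⟩⟩

end Groth.Agent.LeadBC
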