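import Groth.Agent.LeadBC.Fibre
import Groth.Agent.H06Mod.StalkBaseChange
import Groth.Agent.H17.ConsModModels

/-!
# Fibres of a morphism through an affine chart of the base
-/

set_option autoImplicit false
set_option linter.style.haveILetI false
set_option linter.unusedSectionVars false

universe u

open AlgebraicGeometry CategoryTheory CategoryTheory.Limits TopologicalSpace Opposite
open scoped TensorProduct

namespace Groth.Agent.LeadBC

open Groth.Agent.LeadFF Groth.Agent.H06FlatCx

section BC

variable {A : Type u} [CommRing A] {X : Scheme.{u}} [X.Over (Spec (CommRingCat.of A))] {ι : Type u} [Finite ι]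
  {U : ι → X.Opens} {F : X.Modules} [F.IsQuasicoherent]

/-- The rank of the cohomology of a base changed complex, with the algebra structure as an argument. -/
noncomputable def hqRank (K : Type u) [Field K] [Algebra A K] {κ : Type} {c : ComplexShape κ}
    (P : HomologicalComplex (ModuleCat.{u} A) c) (i j k : κ) : ℕ :=
  Module.finrank K (homQuot (baseChange_comp_zero K (d_comp_d P i j k)))

theorem hqRank_eq {K : Type u} [Field K] [Algebra A K] {κ : Type} {c : ComplexShape κ}
    (P : HomologicalComplex (ModuleCat.{u} A) c) {i j k : κ} (hij : c.prev j = i) (hjk : c.next j = k) :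
    hqRank K P i j k = Module.finrank K ((CohIII.bcCx (algebraMap A K) P).homology j) :=
  of_toAlgebra (A := A) (B := K)
    (fun inst => @hqRank A _ K _ inst κ c P i j k =
      Module.finrank K ((CohIII.bcCx (algebraMap A K) P).homology j))
    (bcH P (algebraMap A K) hij hjk).finrank_eq.symm

/-- The dimension of the cohomology of the base change to any field. -/
theorem Model.finrank_bc (hU : GoodCover U) (m : Model (A := A) X F U) {K : Type u} [Field K] [Algebra A K]
    {X' : Scheme.{u}} [X'.Over (Spec (CommRingCat.of K))] {q : X' ⟶ X}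
    (hsq : IsPullback q (X' ↘ Spec (CommRingCat.of K)) (X ↘ Spec (CommRingCat.of A))
      (Spec.map (CommRingCat.ofHom (algebraMap A K))))
    (x : PrimeSpectrum A) (hx : RingHom.ker (algebraMap A K) = x.asIdeal) (G : X'.Modules) (e : G ≅ qF q F)
    (p : ℕ) : Module.finrank K (Coh.HH X' G p) = CohIII.dRank m.P ((m.N : ℤ) - p) x := by
  obtain ⟨E, hE⟩ := Model.exists_bcEquiv K hsq hU m p
  have hij := H06FlatCx.down_prev ((m.N : ℤ) - p)
  have hjk := H06FlatCx.down_next ((m.N : ℤ) - p)
  let L : Coh.HH X' G p ≃ₗ[K] Coh.HH X' (qF q F) p := ((HMod K p).mapIso e).toLinearEquiv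
  have hu : x.asIdeal.primeCompl ≤ (IsUnit.submonoid K).comap (algebraMap A K) :=
    fun a ha => show IsUnit (algebraMap A K a) from isUnit_iff_ne_zero.2 fun h0 => ha (hx ▸ h0)
  let ψ : x.asIdeal.ResidueField →+* K := Ideal.ResidueField.lift x.asIdeal (algebraMap A K) hx.ge hu
  have hψ : ψ.comp (algebraMap A x.asIdeal.ResidueField) = algebraMap A K :=
    RingHom.ext fun a => Ideal.ResidueField.lift_algebraMap x.asIdeal (algebraMap A K) hx.ge hu a
  have hb : Module.finrank K (Coh.HH X' G p) =
      Module.finrank K ((CohIII.bcCx (algebraMap A K) m.P).homology ((m.N : ℤ) - p)) :=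
    (L.finrank_eq.trans (finrank_bcCx_eq m.P hij hjk E hE)).trans (hqRank_eq m.P hij hjk)
  refine hb.trans ?_
  have hgen : ∀ (φ : A →+* K), φ = ψ.comp (algebraMap A x.asIdeal.ResidueField) →
      Module.finrank K ((CohIII.bcCx φ m.P).homology ((m.N : ℤ) - p)) = CohIII.dRank m.P ((m.N : ℤ) - p) x := by
    rintro φ rfl
    exact bcCx_finrank_field_ext m.P (algebraMap A x.asIdeal.ResidueField) ψ hij hjk
  exact hgen _ hψ.symm

end BC

variable {X Y : Scheme.{u}} (f : X ⟶ Y) {V : Y.Opens} (hV : IsAffineOpen V)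

/-- The part of `X` over an affine open of the base. -/
noncomputable abbrev chartX : Scheme.{u} := pullback f hV.fromSpec

noncomputable instance chartOver : (chartX f hV).Over (Spec (CommRingCat.of Γ(Y, V))) :=
  ⟨pullback.snd f hV.fromSpec⟩

instance isProper_chart [IsProper f] : IsProper (chartX f hV ↘ Spec (CommRingCat.of Γ(Y, V))) :=
  inferInstanceAs (IsProper (pullback.snd f hV.fromSpec))

/-- The restriction of a module to that part. -/
noncomputable abbrev chartF (F : X.Modules) : (chartX f hV).Modules := qF (pullback.fst f hV.fromSpec) F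

theorem isCoh_chartF {F : X.Modules} (hF : Coh.IsCoh F) : Coh.IsCoh (chartF f hV F) :=
  H17.ConsProp.isCoh_pullback _ hF

theorem isFlatOver_chartF {F : X.Modules} (hfl : FlatMod.IsFlatOver f F) :
    FlatMod.IsFlatOver (chartX f hV ↘ Spec (CommRingCat.of Γ(Y, V))) (chartF f hV F) :=
  fun x => H06Mod.isFlatOverAt_baseChange f hV.fromSpec F x (hfl _)

/-- A field-valued point of the base in the chart. -/
theorem exists_chart_point {K : Type u} [Field K] (t : Spec (CommRingCat.of K) ⟶ Y) (y : Y) (hy : y ∈ V)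
    (ht : ∀ s, t.base s = y) : ∃ φ : Γ(Y, V) →+* K,
      Spec.map (CommRingCat.ofHom φ) ≫ hV.fromSpec = t ∧ RingHom.ker φ = (hV.primeIdealOf ⟨y, hy⟩).asIdeal := by
  have hr : Set.range t.base ⊆ Set.range hV.fromSpec.base := by
    rintro _ ⟨s, rfl⟩
    rw [hV.range_fromSpec, ht]
    exact hy
  let l := IsOpenImmersion.lift hV.fromSpec t hr
  refine ⟨(Spec.preimage l).hom, ?_, ?_⟩
  · rw [CommRingCat.ofHom_hom, Spec.map_preimage, IsOpenImmersion.lift_fac]
  · let s₀ : Spec (CommRingCat.of K) := ⟨(⊥ : Ideal K), inferInstance⟩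
    have h1 : l.base s₀ = hV.primeIdealOf ⟨y, hy⟩ := hV.fromSpec.isOpenEmbedding.injective (by
      rw [hV.fromSpec_primeIdealOf, ← Scheme.Hom.comp_apply, IsOpenImmersion.lift_fac]
      exact ht s₀)
    have h2 : l.base s₀ = PrimeSpectrum.comap (Spec.preimage l).hom s₀ := by
      conv_lhs => rw [← Spec.map_preimage l]
      rfl
    rw [h2] at h1
    exact congrArg PrimeSpectrum.asIdeal h1

variable {f hV}

/-- The fibre cohomology of `f` through a model of the chart, after any field extension. -/
theorem Model.finrank_bc_chart {F : X.Modules} [F.IsQuasicoherent] {ι : Type u} [Finite ι]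
    {U : ι → (chartX f hV).Opens} (hU : GoodCover U)
    (m : Model (A := Γ(Y, V)) (chartX f hV) (chartF f hV F) U)
    {K : Type u} [Field K] {X' : Scheme.{u}} [X'.Over (Spec (CommRingCat.of K))] (g : X' ⟶ X)
    (t : Spec (CommRingCat.of K) ⟶ Y) (hsq : IsPullback g (X' ↘ Spec (CommRingCat.of K)) f t)
    {y : Y} (hy : y ∈ V) (ht : ∀ s, t.base s = y) (G : X'.Modules) (e : G ≅ qF g F) (p : ℕ) :
    Module.finrank K (Coh.HH X' G p) = CohIII.dRank m.P ((m.N : ℤ) - p) (hV.primeIdealOf ⟨y, hy⟩) := by
  obtain ⟨φ, hφ, hker⟩ := exists_chart_point hV t y hy ht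
  letI : Algebra Γ(Y, V) K := φ.toAlgebra
  let q : X' ⟶ chartX f hV := pullback.lift g ((X' ↘ Spec (CommRingCat.of K)) ≫ Spec.map (CommRingCat.ofHom φ))
    (by rw [Category.assoc, hφ, hsq.w])
  have hsq' : IsPullback q (X' ↘ Spec (CommRingCat.of K)) (chartX f hV ↘ Spec (CommRingCat.of Γ(Y, V)))
      (Spec.map (CommRingCat.ofHom (algebraMap Γ(Y, V) K))) :=
    IsPullback.of_right (h₁₂ := pullback.fst f hV.fromSpec) (v₁₃ := f) (h₂₂ := hV.fromSpec)
      (by rw [pullback.lift_fst, show Spec.map (CommRingCat.ofHom (algebraMap Γ(Y, V) K)) ≫ hV.fromSpec = t from hφ]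
          exact hsq)
      (pullback.lift_snd _ _ _) (IsPullback.of_hasPullback _ _)
  haveI : (chartF f hV F).IsQuasicoherent := H29Fitt.isQCoh_pullback _ F inferInstance
  exact m.finrank_bc hU hsq' _ hker G
    (e ≪≫ (Scheme.Modules.pullbackCongr (pullback.lift_fst _ _ _).symm).app F ≪≫
      ((Scheme.Modules.pullbackComp q (pullback.fst f hV.fromSpec)).app F).symm) p

/-- The fibre ranks of `f` over the chart. -/
theorem Model.fiberRank_chart {F : X.Modules} [F.IsQuasicoherent] {ι : Type u} [Finite ι]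
    {U : ι → (chartX f hV).Opens} (hU : GoodCover U)
    (m : Model (A := Γ(Y, V)) (chartX f hV) (chartF f hV F) U) {y : Y} (hy : y ∈ V) (p : ℕ) :
    CohIII.fiberRank f F p y = CohIII.dRank m.P ((m.N : ℤ) - p) (hV.primeIdealOf ⟨y, hy⟩) := by
  letI : (f.fiber y).Over (Spec (CommRingCat.of (Y.residueField y))) := ⟨f.fiberToSpecResidueField y⟩
  exact m.finrank_bc_chart hU (K := Y.residueField y) (f.fiberι y) (Y.fromSpecResidueField y)
    (IsPullback.of_hasPullback f (Y.fromSpecResidueField y)) hy
    (fun s => Scheme.fromSpecResidueField_apply y s) (CohIII.fiberMod f F y) (Iso.refl _) p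

theorem exists_chart_model [IsLocallyNoetherian Y] [IsProper f] {F : X.Modules} (hF : Coh.IsCoh F)
    (hfl : FlatMod.IsFlatOver f F) :
    ∃ (ι : Type u) (_ : Finite ι) (U : ι → (chartX f hV).Opens), GoodCover U ∧
      Nonempty (Model (A := Γ(Y, V)) (chartX f hV) (chartF f hV F) U) := by
  haveI : IsNoetherianRing Γ(Y, V) := IsLocallyNoetherian.component_noetherian ⟨V, hV⟩
  exact exists_model Γ(Y, V) (chartF f hV F) (isCoh_chartF f hV hF) (isFlatOver_chartF f hV hfl)

end Groth.Agent.LeadBC
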