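import Groth.Agent.LeadBC.Split
import Groth.Agent.LeadBC.Apps

/-!
# A complex of finite projective modules of the least amplitude
-/

set_option autoImplicit false
set_option linter.style.haveILetI false
set_option linter.unusedSectionVars false

universe u

open AlgebraicGeometry CategoryTheory CategoryTheory.Limits TopologicalSpace Opposite
open scoped TensorProduct

namespace Groth.Agent.LeadBC

open Groth.Agent.LeadFF Groth.Agent.H06FlatCx

variable {A : Type u} [CommRing A] {X : Scheme.{u}} [X.Over (Spec (CommRingCat.of A))] {ι : Type u} [Finite ι]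
  {U : ι → X.Opens} {F : X.Modules} [F.IsQuasicoherent]

theorem Model.subsingleton_h0 (hU : GoodCover U) (m : Model (A := A) X F U) (p : ℕ)
    (h : Subsingleton (Coh.HH X F p)) :
    Subsingleton (H0 m.P ((m.N : ℤ) - p + 1) ((m.N : ℤ) - p) ((m.N : ℤ) - p - 1)) := by
  have hsq : IsPullback (𝟙 X) (X ↘ Spec (CommRingCat.of A)) (X ↘ Spec (CommRingCat.of A))
      (Spec.map (CommRingCat.ofHom (algebraMap A A))) := by
    rw [show Spec.map (CommRingCat.ofHom (algebraMap A A)) = 𝟙 _ from Spec.map_id _]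
    exact IsPullback.id_horiz _
  obtain ⟨e, -⟩ := Model.exists_bcEquiv A hsq hU m p
  haveI : Subsingleton (Coh.HH X (qF (𝟙 X) F) p) :=
    (((HMod A p).mapIso ((Scheme.Modules.pullbackId X).app F)).toLinearEquiv).toEquiv.subsingleton_congr.2 h
  haveI := (m.finite_flat ((m.N : ℤ) - p - 1)).2
  haveI : Subsingleton ((CohIII.TFun m.P ((m.N : ℤ) - p)).obj (ModuleCat.of A A)) := e.toEquiv.subsingleton
  exact (tSelfEquiv m.P (down_prev _) (down_next _)).toEquiv.subsingleton

theorem subsingleton_of_subTensor {M : Type u} [AddCommGroup M] [Module A M]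
    (h : ∀ x : PrimeSpectrum A, SubTensor (A := A) (Localization.AtPrime x.asIdeal) M) : Subsingleton M := by
  refine Module.support_eq_empty_iff (R := A).1 (Set.eq_empty_iff_forall_notMem.2 fun x => ?_)
  haveI : Subsingleton (Localization.AtPrime x.asIdeal ⊗[A] M) := h x
  exact Module.notMem_support_iff.2 (LocalizedModule.equivTensorProduct x.asIdeal.primeCompl M).toEquiv.subsingleton

/-- The splitting of the ends. -/
theorem Model.exists_amplitude [IsNoetherianRing A] (hU : GoodCover U) (m : Model (A := A) X F U) (d' d : ℕ)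
    (hd : ∀ p : ℕ, d < p → Subsingleton (Coh.HH X F p))
    (hd' : ∀ (y : ↑(Spec (CommRingCat.of A))) (p : ℕ), p < d' →
      Subsingleton (CohIII.fiberH (X ↘ Spec (CommRingCat.of A)) F y p)) :
    ∃ L : CochainComplex (ModuleCat.{u} A) ℤ,
      (∀ i, Module.Finite A (L.X i) ∧ Module.Projective A (L.X i)) ∧
      (∀ i : ℤ, i < (d' : ℤ) ∨ (d : ℤ) < i → IsZero (L.X i)) ∧
      ((∀ p : ℕ, Subsingleton (Coh.HH X F p)) → ∀ i, IsZero (L.X i)) ∧
      ∀ (p : ℤ) (M : ModuleCat.{u} A), Nonempty (CohIII.T m.P ((m.N : ℤ) - p) M ≃ₗ[A] CohIII.T L p M) := by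
  classical
  have hproj : ∀ i, Module.Projective A (m.P.X i) := fun i => by haveI := (m.finite_free i).2; infer_instance
  obtain ⟨h, hh, hdh, hJ⟩ := exists_splitting m.P hproj (fun j => Module.Projective A (Cok m.P j)) fun j hj => hj
  have hp : ∀ j, Module.Flat A (Cok m.P j) → Module.Projective A (Cok m.P j) := fun j hj => by
    haveI := (m.finite_flat j).1
    haveI := Module.finitePresentation_of_finite A (Cok m.P j)
    exact Module.Flat.projective_of_finitePresentation
  have hlow : ∀ (d : ℕ), (∀ p : ℕ, d < p → Subsingleton (Coh.HH X F p)) → ∀ j, j < (m.N : ℤ) - d →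
      Subsingleton (H0 m.P (j + 1) j (j - 1)) := fun d hd j hj => by
    obtain ⟨p, hpd, rfl⟩ : ∃ p : ℕ, d < p ∧ (m.N : ℤ) - p = j := ⟨((m.N : ℤ) - j).toNat, by omega, by omega⟩
    exact m.subsingleton_h0 hU p (hd p hpd)
  have hlow' : ∀ j, j < (m.N : ℤ) - d → Module.Flat A (Cok m.P j) := fun j hj =>
    flat_cok_of_flat_homology m.P (fun i => (m.finite_flat i).2) m.isZero_neg ((m.N : ℤ) - d - 1)
      (fun i hi => by haveI := hlow d hd i (by omega); infer_instance) j (by omega)
  have hhigh : ∀ j, (m.N : ℤ) - d' < j → Module.Flat A (Cok m.P j) ∧ Module.Flat A (Cok m.P (j - 1)) ∧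
      Subsingleton (H0 m.P (j + 1) j (j - 1)) := fun j hj => by
    have hT : ∀ x : PrimeSpectrum A, Subsingleton (CohIII.T m.P j (ModuleCat.of A x.asIdeal.ResidueField)) := by
      intro x
      by_cases hjN : (m.N : ℤ) < j
      · exact m.subsingleton_above hjN _
      obtain ⟨p, hp, rfl⟩ : ∃ p : ℕ, p < d' ∧ (m.N : ℤ) - p = j := ⟨((m.N : ℤ) - j).toNat, by omega, by omega⟩
      exact (m.subsingleton_fiberH_iff' hU x p).1 (hd' x p hp)
    have H := fun x => local_of_dRank_zero m.P m.finite_flat j x (hT x)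
    haveI := (m.finite_flat j).1
    haveI := (m.finite_flat (j - 1)).1
    have h2 := flat_of_forall_localization m.P m.finite_flat fun x => (H x).2.1
    refine ⟨flat_of_forall_localization m.P m.finite_flat fun x => (H x).1, ?_,
      subsingleton_of_subTensor fun x => (H x).2.2⟩
    unfold Cok
    rwa [sub_add_cancel]
  have hzero : ∀ k : ℤ, Subsingleton (H0 m.P (k + 1 + 1) (k + 1) k) → Module.Flat A (Cok m.P k) →
      Module.Flat A (Cok m.P (k + 1)) → (cutHom h).f (k + 1) = 0 := fun k h0 h1 h2 =>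
    cutHom_eq_zero k (hh k) (hJ k (hp k h1)) (hJ (k + 1) (hp _ h2)) h0
  refine ⟨flipCx (m.N : ℤ) (imgCx h), fun i => finite_projective_imgCx hh hdh
    (fun j => ⟨(m.finite_free j).1, hproj j⟩) _, fun i hi => ?_, fun hall i => ?_, fun p M => ?_⟩
  · show IsZero ((imgCx h).X ((m.N : ℤ) - i))
    obtain ⟨k, hk⟩ : ∃ k, k + 1 = (m.N : ℤ) - i := ⟨(m.N : ℤ) - i - 1, by omega⟩
    rw [← hk]
    refine isZero_imgCx ?_
    rcases hi with hi | hi
    · obtain ⟨h1, h2, h3⟩ := hhigh (k + 1) (by omega)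
      rw [add_sub_cancel_right] at h2 h3
      exact hzero k h3 h2 h1
    · have h3 := hlow d hd (k + 1) (by omega)
      rw [add_sub_cancel_right] at h3
      exact hzero k h3 (hlow' k (by omega)) (hlow' (k + 1) (by omega))
  · show IsZero ((imgCx h).X ((m.N : ℤ) - i))
    obtain ⟨k, hk⟩ : ∃ k, k + 1 = (m.N : ℤ) - i := ⟨(m.N : ℤ) - i - 1, by omega⟩
    rw [← hk]
    refine isZero_imgCx ?_
    have hz : ∀ j, Subsingleton (H0 m.P (j + 1) j (j - 1)) := fun j => by
      by_cases hjN : (m.N : ℤ) < j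
      · haveI := (m.finite_flat (j - 1)).2
        haveI := m.subsingleton_above hjN (ModuleCat.of A A)
        exact (tSelfEquiv m.P (down_prev j) (down_next j)).toEquiv.subsingleton
      obtain ⟨p, rfl⟩ : ∃ p : ℕ, (m.N : ℤ) - p = j := ⟨((m.N : ℤ) - j).toNat, by omega⟩
      exact m.subsingleton_h0 hU p (hall p)
    have hf : ∀ j, Module.Flat A (Cok m.P j) := fun j =>
      flat_cok_of_flat_homology m.P (fun i => (m.finite_flat i).2) m.isZero_neg j
        (fun i _ => by haveI := hz i; infer_instance) j le_rfl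
    have h3 := hz (k + 1)
    rw [add_sub_cancel_right] at h3
    exact hzero k h3 (hf k) (hf (k + 1))
  · obtain ⟨e₁⟩ := nonempty_T_imgCx hh hdh ((m.N : ℤ) - p) M
    obtain ⟨e₂⟩ := nonempty_T_flipCx (P := imgCx h) (m.N : ℤ) p M
    exact ⟨e₁.trans e₂⟩

end Groth.Agent.LeadBC
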