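import Groth.Agent.LeadBC.Apps
import Groth.Agent.H06FlatCx.BCHomology
import Groth.Agent.LeadFF.BaseChange
import Mathlib.LinearAlgebra.TensorProduct.Pi

/-!
# The Čech complex of a base change

For a cartesian square over `A → S` the Čech complex of `q^* F` is that of `F` tensored with `S`; hence the
model computes the cohomology of all base changes of `F`, linearly over the new base.
-/

set_option autoImplicit false
set_option linter.style.haveILetI false
set_option linter.unusedSectionVars false

universe u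

open AlgebraicGeometry CategoryTheory CategoryTheory.Limits TopologicalSpace Opposite
open scoped TensorProduct

namespace Groth.Agent.LeadBC

open Groth.Agent.LeadFF Groth.Agent.H15Site

variable {A : Type u} [CommRing A] {X : Scheme.{u}} [X.Over (Spec (CommRingCat.of A))]
  (S : Type u) [CommRing S] [Algebra A S] {X' : Scheme.{u}} [X'.Over (Spec (CommRingCat.of S))] {q : X' ⟶ X}
  (hsq : IsPullback q (X' ↘ Spec (CommRingCat.of S)) (X ↘ Spec (CommRingCat.of A))
    (Spec.map (CommRingCat.ofHom (algebraMap A S))))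
  (F : X.Modules)

/-- `q^* F`. -/
noncomputable abbrev qF (q : X' ⟶ X) (F : X.Modules) : X'.Modules := (Scheme.Modules.pullback q).obj F

/-- Sections of `q^* F` as an `A`-module. -/
noncomputable abbrev secA (q : X' ⟶ X) (W : X'.Opens) : ModuleCat.{u} A :=
  (ModuleCat.restrictScalars (algebraMap A S)).obj (sec S (qF q F) W)

/-- Pull back and restrict. -/
noncomputable def pullRes (q : X' ⟶ X) {V : X.Opens} {W : X'.Opens} (h : W ≤ q ⁻¹ᵁ V) (m : Γ(F, V)) :
    Γ(qF q F, W) :=
  (qF q F).presheaf.map (homOfLE h).op (OmegaSh.pullSect q F V m)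

include hsq in
theorem scal_appLE {V : X.Opens} {W : X'.Opens} (h : W ≤ q ⁻¹ᵁ V) (a : A) :
    X'.presheaf.map (homOfLE h).op (q.app V (sc A V a)) = sc S W (algebraMap A S a) := by
  rw [app_scal hsq V a, map_scal]

include hsq in
theorem pullRes_smul {V : X.Opens} {W : X'.Opens} (h : W ≤ q ⁻¹ᵁ V) (a : A) (m : Γ(F, V)) :
    pullRes F q h (sc A V a • m) = sc S W (algebraMap A S a) • pullRes F q h m := by
  unfold pullRes
  rw [OmegaSh.pullSect_smul, Scheme.Modules.map_smul, scal_appLE S hsq h]

theorem pullRes_add {V : X.Opens} {W : X'.Opens} (h : W ≤ q ⁻¹ᵁ V) (m m' : Γ(F, V)) :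
    pullRes F q h (m + m') = pullRes F q h m + pullRes F q h m' := by
  unfold pullRes
  rw [map_add, map_add]

include hsq in
/-- `Γ(V, F) ⊗ S → Γ(W, q^* F)`. -/
noncomputable def β {V : X.Opens} {W : X'.Opens} (h : W ≤ q ⁻¹ᵁ V) :
    sec A F V ⊗[A] S →ₗ[A] secA (A := A) S F q W :=
  TensorProduct.lift (LinearMap.mk₂ A
    (fun (m : sec A F V) (s : S) => (sc S W s • pullRes F q h (m : Γ(F, V)) : Γ(qF q F, W)))
    (fun m m' s => (congrArg (fun z : Γ(qF q F, W) => sc S W s • z)
      (pullRes_add F h (m : Γ(F, V)) (m' : Γ(F, V)))).trans (smul_add _ _ _))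
    (fun a m s => by
      show sc S W s • pullRes F q h (sc A V a • (show Γ(F, V) from m)) =
        sc S W (algebraMap A S a) • (sc S W s • pullRes F q h (m : Γ(F, V)))
      rw [pullRes_smul S hsq, smul_comm])
    (fun m s s' => (congrArg (fun r : Γ(X', W) => r • pullRes F q h (m : Γ(F, V)))
      (map_add (sc S W) s s')).trans (add_smul _ _ _))
    (fun a m s => by
      show sc S W (a • s) • _ = sc S W (algebraMap A S a) • (sc S W s • pullRes F q h (m : Γ(F, V)))
      rw [Algebra.smul_def, map_mul, mul_smul]))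

theorem β_tmul {V : X.Opens} {W : X'.Opens} (h : W ≤ q ⁻¹ᵁ V) (m : sec A F V) (s : S) :
    β S hsq F h (m ⊗ₜ s) = (sc S W s • pullRes F q h (m : Γ(F, V)) : Γ(qF q F, W)) := rfl

theorem β_mul {V : X.Opens} {W : X'.Opens} (h : W ≤ q ⁻¹ᵁ V) (s : S) (z : sec A F V ⊗[A] S) :
    (show Γ(qF q F, W) from β S hsq F h ((LinearMap.mulLeft A s).lTensor _ z)) =
      sc S W s • (show Γ(qF q F, W) from β S hsq F h z) := by
  induction z using TensorProduct.induction_on with
  | zero =>
    rw [map_zero, map_zero]
    exact (smul_zero (M := Γ(X', W)) (A := Γ(qF q F, W)) (sc S W s)).symm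
  | add a b ha hb =>
    rw [map_add, map_add, map_add]
    exact (congrArg₂ (· + ·) ha hb).trans (smul_add _ _ _).symm
  | tmul m t =>
    rw [LinearMap.lTensor_tmul, β_tmul, β_tmul, LinearMap.mulLeft_apply, map_mul, mul_smul]

theorem β_res {V V₀ : X.Opens} {W W₀ : X'.Opens} (h : W ≤ q ⁻¹ᵁ V) (h₀ : W₀ ≤ q ⁻¹ᵁ V₀) (hV : V₀ ≤ V)
    (hW : W₀ ≤ W) (z : sec A F V ⊗[A] S) :
    resL S (qF q F) hW (β S hsq F h z) = (show Γ(qF q F, W₀) from β S hsq F h₀ ((resL A F hV).rTensor S z)) := by
  induction z using TensorProduct.induction_on with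
  | zero =>
    rw [map_zero, map_zero, map_zero]
    exact map_zero (resL S (qF q F) hW)
  | add a b ha hb =>
    rw [map_add, map_add, map_add]
    exact (map_add (resL S (qF q F) hW) (β S hsq F h a) (β S hsq F h b)).trans (congrArg₂ (· + ·) ha hb)
  | tmul m s =>
    rw [LinearMap.rTensor_tmul, β_tmul, β_tmul]
    show (qF q F).presheaf.map _ (sc S W s • pullRes F q h (m : Γ(F, V))) = _
    rw [Scheme.Modules.map_smul, map_scal]
    refine congrArg (sc S W₀ s • ·) ?_
    show (qF q F).presheaf.map _ ((qF q F).presheaf.map _ (OmegaSh.pullSect q F V _)) =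
      (qF q F).presheaf.map _ (OmegaSh.pullSect q F V₀ (F.presheaf.map (homOfLE hV).op _))
    rw [OmegaSh.pullSect_map, res_res_mod, res_res_mod]

theorem bijective_β [F.IsQuasicoherent] {V : X.Opens} (hV : IsAffineOpen V) {W : X'.Opens} (hW : W = q ⁻¹ᵁ V)
    (h : W ≤ q ⁻¹ᵁ V) : Function.Bijective (β S hsq F h) := by
  subst hW
  haveI := isAffineHom_fst hsq
  let B := Γ(X, V)
  let B' := Γ(X', q ⁻¹ᵁ V)
  let N := Γ(qF q F, q ⁻¹ᵁ V)
  letI : Algebra A B := (sc A V).toAlgebra
  letI : Algebra B B' := (q.appLE V (q ⁻¹ᵁ V) h).hom.toAlgebra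
  letI : Algebra S B' := (sc S (q ⁻¹ᵁ V)).toAlgebra
  letI : Algebra A B' := ((sc S (q ⁻¹ᵁ V)).comp (algebraMap A S)).toAlgebra
  have happ : q.appLE V (q ⁻¹ᵁ V) h = q.app V := (Scheme.Hom.app_eq_appLE q).symm
  haveI : IsScalarTower A B B' := .of_algebraMap_eq fun a => by
    show _ = q.appLE V (q ⁻¹ᵁ V) h (sc A V a)
    rw [happ]; exact (app_scal hsq V a).symm
  haveI : IsScalarTower A S B' := .of_algebraMap_eq fun _ => rfl
  haveI : Algebra.IsPushout A S B B' := by
    haveI : Algebra.IsPushout A B S B' := CommRingCat.isPushout_iff_isPushout.mp (by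
      have := isPushout_scal hsq hV
      rw [← happ] at this
      exact this)
    exact Algebra.IsPushout.symm inferInstance
  letI : Module A Γ(F, V) := Module.compHom _ (sc A V)
  haveI : IsScalarTower A B Γ(F, V) := .of_algebraMap_smul fun _ _ => rfl
  letI : Module B N := Module.compHom _ (q.appLE V (q ⁻¹ᵁ V) h).hom
  haveI : IsScalarTower B B' N := .of_algebraMap_smul fun _ _ => rfl
  have hbc : IsBaseChange B' (H8Props.PullSections.pullLin q F h) :=
    H8Props.PullSections.isBaseChange_pullLin q F h inferInstance hV (hV.preimage q)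
  let e₁ : B' ⊗[B] Γ(F, V) ≃ₗ[B'] N := hbc.equiv
  let e₂ := Algebra.IsPushout.cancelBaseChangeAux A S B B' Γ(F, V)
  have key : ∀ z : Γ(F, V) ⊗[A] S,
      e₁ (e₂.symm (TensorProduct.comm A Γ(F, V) S z)) = (β S hsq F h z : Γ(qF q F, q ⁻¹ᵁ V)) := by
    intro z
    induction z using TensorProduct.induction_on with
    | zero => rw [map_zero, map_zero, map_zero]; exact (map_zero (β S hsq F h)).symm
    | add a b ha hb =>
      rw [map_add, map_add, map_add]
      exact (congrArg₂ (· + ·) ha hb).trans (map_add (β S hsq F h) a b).symm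
    | tmul m s =>
      rw [TensorProduct.comm_tmul, Algebra.IsPushout.cancelBaseChangeAux_symm_tmul, IsBaseChange.equiv_tmul]
      rfl
  have hb : Function.Bijective (fun z => e₁ (e₂.symm (TensorProduct.comm A Γ(F, V) S z))) :=
    e₁.bijective.comp (e₂.symm.bijective.comp (TensorProduct.comm A Γ(F, V) S).bijective)
  rw [funext key] at hb
  exact hb

variable {ι : Type u} (U : ι → X.Opens) (q)

/-- The preimage family. -/
noncomputable abbrev preU : ι → X'.Opens := fun i => q ⁻¹ᵁ U i

theorem cap_preU {p : ℕ} (a : Fin (p + 1) → ι) : CechTop.cap (preU q U) a = q ⁻¹ᵁ CechTop.cap U a := by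
  refine Opens.ext ?_
  show ((⨅ k, q ⁻¹ᵁ U (a k) : X'.Opens) : Set X') = q.base ⁻¹' ((⨅ k, U (a k) : X.Opens) : Set X)
  rw [Opens.coe_iInf, Opens.coe_iInf, Set.preimage_iInter]
  rfl

include hsq in
theorem goodCover_preU (hU : GoodCover U) : GoodCover (preU q U) := by
  haveI := isAffineHom_fst hsq
  refine ⟨fun p a => ?_, fun x _ => ?_⟩
  · rw [cap_preU]
    exact (hU.affine p a).preimage q
  · obtain ⟨i, hi⟩ := Opens.mem_iSup.1 (hU.cover (Opens.mem_top (q.base x)))
    exact Opens.mem_iSup.2 ⟨i, hi⟩

variable {q}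

include hsq in
/-- The comparison on Čech terms. -/
noncomputable def βp (p : ℕ) :
    Kp A U F p ⊗[A] S →ₗ[A]
      (ModuleCat.restrictScalars (algebraMap A S)).obj (ModuleCat.of S (Kp S (preU q U) (qF q F) p)) where
  toFun z := fun a => β S hsq F (cap_preU q U a).le ((LinearMap.proj a).rTensor S z)
  map_add' z z' := funext fun a => by rw [map_add, map_add]; rfl
  map_smul' c z := funext fun a => by rw [map_smul, map_smul]; rfl

theorem βp_tmul (p : ℕ) (x : Kp A U F p) (s : S) (a : Fin (p + 1) → ι) :
    (show Kp S (preU q U) (qF q F) p from βp S hsq F U p (x ⊗ₜ s)) a =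
      β S hsq F (cap_preU q U a).le (x a ⊗ₜ s) := rfl

theorem bijective_βp [F.IsQuasicoherent] [Finite ι] (hU : GoodCover U) (p : ℕ) :
    Function.Bijective (βp S hsq F U p) := by
  classical
  haveI := Fintype.ofFinite ι
  let e : Kp A U F p ⊗[A] S ≃ₗ[A] ∀ a : Fin (p + 1) → ι, sec A F (CechTop.cap U a) ⊗[A] S :=
    TensorProduct.piLeft ..
  let g : (∀ a : Fin (p + 1) → ι, sec A F (CechTop.cap U a) ⊗[A] S) → Kp S (preU q U) (qF q F) p :=
    fun v a => β S hsq F (cap_preU q U a).le (v a)
  have hg : Function.Bijective g := by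
    constructor
    · exact fun v w h => funext fun a =>
        (bijective_β S hsq F (hU.affine p a) (cap_preU q U a) _).1 (congrFun h a)
    · intro w
      choose v hv using fun a =>
        (bijective_β S hsq F (hU.affine p a) (cap_preU q U a) (cap_preU q U a).le).2 (w a)
      exact ⟨v, funext hv⟩
  have key : ∀ z, g (e z) = (βp S hsq F U p z : Kp S (preU q U) (qF q F) p) := by
    intro z
    funext a
    induction z using TensorProduct.induction_on with
    | zero =>
      show g (e 0) a = _
      rw [map_zero, map_zero]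
      exact map_zero (β S hsq F (cap_preU q U a).le)
    | add a' b ha hb =>
      show β S hsq F _ (e (a' + b) a) = β S hsq F _ ((LinearMap.proj a).rTensor S (a' + b))
      rw [map_add, map_add]
      exact (map_add (β S hsq F _) _ _).trans ((congrArg₂ (· + ·) ha hb).trans (map_add (β S hsq F _) _ _).symm)
    | tmul x s =>
      have : e (x ⊗ₜ s) a = x a ⊗ₜ s := by simp [e]
      exact congrArg (β S hsq F (cap_preU q U a).le) this
  have hb : Function.Bijective (fun z => g (e z)) := hg.comp e.bijective
  rw [funext key] at hb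
  exact hb

theorem βp_d (p : ℕ) (z : Kp A U F p ⊗[A] S) :
    dK S (preU q U) (qF q F) p (βp S hsq F U p z) =
      (βp S hsq F U (p + 1) ((dK A U F p).rTensor S z) : Kp S (preU q U) (qF q F) (p + 1)) := by
  induction z using TensorProduct.induction_on with
  | zero => rw [map_zero, map_zero, map_zero]; exact map_zero (dK S (preU q U) (qF q F) p)
  | add a b ha hb =>
    rw [map_add, map_add, map_add]
    exact (map_add (dK S (preU q U) (qF q F) p) _ _).trans (congrArg₂ (· + ·) ha hb)
  | tmul x s =>
    funext c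
    refine (dK_apply S (preU q U) (qF q F) p _ c).trans ?_
    show _ = β S hsq F (cap_preU q U c).le ((LinearMap.proj c).rTensor S ((dK A U F p).rTensor S (x ⊗ₜ s)))
    rw [LinearMap.rTensor_tmul, LinearMap.rTensor_tmul, LinearMap.proj_apply, dK_apply, TensorProduct.sum_tmul, map_sum]
    refine Finset.sum_congr rfl fun j _ => ?_
    rw [← TensorProduct.smul_tmul', map_zsmul]
    refine congrArg (((-1 : ℤ) ^ (j : ℕ)) • ·) ?_
    exact (β_res S hsq F _ _ (CechTop.cap_comp_le U c j.succAbove)
      (CechTop.cap_comp_le (preU q U) c j.succAbove) (x (c ∘ j.succAbove) ⊗ₜ s)).trans rfl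

theorem βp_mul (p : ℕ) (s : S) (z : Kp A U F p ⊗[A] S) :
    (show Kp S (preU q U) (qF q F) p from βp S hsq F U p ((LinearMap.mulLeft A s).lTensor _ z)) =
      s • (show Kp S (preU q U) (qF q F) p from βp S hsq F U p z) := by
  funext a
  show β S hsq F (cap_preU q U a).le ((LinearMap.proj a).rTensor S ((LinearMap.mulLeft A s).lTensor _ z)) = _
  rw [← H06FlatCx.lTensor_rTensor_apply]
  exact β_mul S hsq F _ s _

/-- Multiplication by an element of `S`. -/
noncomputable abbrev mulS (A : Type u) [CommRing A] [Algebra A S] (s : S) : ModuleCat.of A S ⟶ ModuleCat.of A S :=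
  ModuleCat.ofHom (LinearMap.mulLeft A s)

include hsq in
/-- The comparison of complexes. -/
noncomputable def βC : CohIII.tensorObj (KC A U F) (ModuleCat.of A S) ⟶
    ((ModuleCat.restrictScalars (algebraMap A S)).mapHomologicalComplex (ComplexShape.up ℕ)).obj
      (KC S (preU q U) (qF q F)) where
  f p :=
    letI : Module A (ModuleCat.of S (Kp S (preU q U) (qF q F) p) : Type u) := Module.compHom _ (algebraMap A S)
    show ModuleCat.of A (Kp A U F p ⊗[A] S) ⟶
      (ModuleCat.restrictScalars (algebraMap A S)).obj (ModuleCat.of S (Kp S (preU q U) (qF q F) p)) from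
    ModuleCat.ofHom (βp S hsq F U p)
  comm' i j h := by
    obtain rfl : i + 1 = j := h
    refine ModuleCat.hom_ext (LinearMap.ext fun z => ?_)
    show (((KC S (preU q U) (qF q F)).d i (i + 1)).hom
        (show Kp S (preU q U) (qF q F) i from βp S hsq F U i z) : Kp S (preU q U) (qF q F) (i + 1)) =
      (show Kp S (preU q U) (qF q F) (i + 1) from
        βp S hsq F U (i + 1) (((CohIII.tensorObj (KC A U F) (ModuleCat.of A S)).d i (i + 1)).hom z))
    rw [KC_d, H06FlatCx.tensorObj_d_hom, KC_d]
    exact βp_d S hsq F U i z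

theorem isIso_βC [F.IsQuasicoherent] [Finite ι] (hU : GoodCover U) : IsIso (βC S hsq F U) :=
  haveI : ∀ p, IsIso ((βC S hsq F U).f p) := fun p =>
    (ConcreteCategory.isIso_iff_bijective _).2 (bijective_βp S hsq F U hU p)
  HomologicalComplex.Hom.isIso_of_components _

theorem βC_natural (s : S) :
    CohIII.tensorMap (KC A U F) (mulS S A s) ≫ βC S hsq F U = βC S hsq F U ≫
      ((ModuleCat.restrictScalars (algebraMap A S)).mapHomologicalComplex (ComplexShape.up ℕ)).map
        (s • 𝟙 (KC S (preU q U) (qF q F))) :=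
  HomologicalComplex.hom_ext _ _ fun p => ModuleCat.hom_ext (LinearMap.ext fun z => by
    show (show Kp S (preU q U) (qF q F) p from
        βp S hsq F U p (((CohIII.tensorMap (KC A U F) (mulS S A s)).f p).hom z)) =
      s • (show Kp S (preU q U) (qF q F) p from βp S hsq F U p z)
    rw [H06FlatCx.tensorMap_f_hom]
    exact βp_mul S hsq F U p s z)

theorem homologyMap_smul_id {R : Type u} [CommRing R] (K : CochainComplex (ModuleCat.{u} R) ℕ) (r : R) (p : ℕ)
    (x : K.homology p) : (HomologicalComplex.homologyMap (r • 𝟙 K) p).hom x = r • x := by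
  obtain ⟨z, rfl⟩ := H06FlatCx.cls_surjective K (j := p) (k := p + 1) (CochainComplex.next ℕ p) x
  exact (H06FlatCx.homologyMap_cls (r • 𝟙 K) (CochainComplex.next ℕ p) z).trans
    (map_smul (H06FlatCx.cls K (CochainComplex.next ℕ p)) r z)

variable [F.IsQuasicoherent]

instance isQCoh_qF (q : X' ⟶ X) : (qF q F).IsQuasicoherent := H29Fitt.isQCoh_pullback q F inferInstance

variable [Finite ι] {U} (hU : GoodCover U)

include hsq in
/-- `H_j(KD ⊗ S) ≅ H^p(X', q^* F)`, `j = N - p`. -/
noncomputable def eBC (N p : ℕ) {j : ℤ} (hj : (embN N).f p = j) :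
    CohIII.T (KD U F N) j (ModuleCat.of A S) ≅
      (ModuleCat.restrictScalars (algebraMap A S)).obj (ModuleCat.of S (Coh.HH X' (qF q F) p)) :=
  haveI := isIso_βC S hsq F U hU
  HomologicalComplex.homologyMapIso
      (mapExtend (MonoidalCategory.tensorRight (ModuleCat.of A S)) (KC A U F) (embN N)) j ≪≫
    HomologicalComplex.extendHomologyIso _ (embN N) hj ≪≫
      HomologicalComplex.homologyMapIso (asIso (βC S hsq F U)) p ≪≫
        ((KC S (preU q U) (qF q F)).sc p).mapHomologyIso (ModuleCat.restrictScalars (algebraMap A S)) ≪≫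
          (ModuleCat.restrictScalars (algebraMap A S)).mapIso
            (eHH S (goodCover_preU S q hsq U hU) (qF q F) p).toModuleIso

theorem eBC_smul (N p : ℕ) {j : ℤ} (hj : (embN N).f p = j) (s : S)
    (t : CohIII.T (KD U F N) j (ModuleCat.of A S)) :
    (show Coh.HH X' (qF q F) p from (eBC S hsq F hU N p hj).hom.hom
        ((HomologicalComplex.homologyMap (CohIII.tensorMap (KD U F N) (mulS S A s)) j).hom t)) =
      s • (show Coh.HH X' (qF q F) p from (eBC S hsq F hU N p hj).hom.hom t) := by
  haveI := isIso_βC S hsq F U hU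
  let G := ModuleCat.restrictScalars (algebraMap A S)
  let E := (eHH S (goodCover_preU S q hsq U hU) (qF q F) p).toModuleIso
  have h1 := mapExtend_natural ((MonoidalCategory.tensoringRight (ModuleCat.{u} A)).map (mulS S A s))
    (KC A U F) (embN N)
  have h2 : HomologicalComplex.homologyMap (CohIII.tensorMap (KC A U F) (mulS S A s)) p ≫
      HomologicalComplex.homologyMap (βC S hsq F U) p = HomologicalComplex.homologyMap (βC S hsq F U) p ≫
      HomologicalComplex.homologyMap ((G.mapHomologicalComplex (ComplexShape.up ℕ)).map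
        (s • 𝟙 (KC S (preU q U) (qF q F)))) p :=
    (HomologicalComplex.homologyMap_comp _ _ p).symm.trans
      ((congrArg (fun φ => HomologicalComplex.homologyMap φ p) (βC_natural S hsq F U s)).trans
        (HomologicalComplex.homologyMap_comp _ _ p))
  have h3 := ShortComplex.mapHomologyIso_hom_naturality
    ((HomologicalComplex.shortComplexFunctor _ _ p).map (s • 𝟙 (KC S (preU q U) (qF q F)))) G
  have h4 : HomologicalComplex.homologyMap (CohIII.tensorMap (KD U F N) (mulS S A s)) j ≫
      (eBC S hsq F hU N p hj).hom = (HomologicalComplex.homologyMap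
        (mapExtend (MonoidalCategory.tensorRight (ModuleCat.of A S)) (KC A U F) (embN N)).hom j ≫
        (HomologicalComplex.extendHomologyIso _ (embN N) hj).hom ≫
        HomologicalComplex.homologyMap (βC S hsq F U) p ≫
        (((KC S (preU q U) (qF q F)).sc p).mapHomologyIso G).hom) ≫
        G.map (HomologicalComplex.homologyMap (s • 𝟙 (KC S (preU q U) (qF q F))) p) ≫ G.map E.hom := by
    simp only [eBC, Iso.trans_hom, HomologicalComplex.homologyMapIso_hom, asIso_hom, Functor.mapIso_hom,
      Category.assoc]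
    rw [← Category.assoc, ← HomologicalComplex.homologyMap_comp]
    erw [h1]
    rw [HomologicalComplex.homologyMap_comp, Category.assoc]
    refine congrArg (_ ≫ ·) ?_
    rw [← Category.assoc, HomologicalComplex.extendHomologyIso_hom_naturality, Category.assoc]
    refine congrArg (_ ≫ ·) ?_
    refine (Category.assoc _ _ _).symm.trans ((congrArg (· ≫ _) h2).trans ((Category.assoc _ _ _).trans
      (congrArg (_ ≫ ·) ((Category.assoc _ _ _).symm.trans
        ((congrArg (· ≫ G.map E.hom) h3).trans (Category.assoc _ _ _))))))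
  refine (ConcreteCategory.congr_hom h4 t).trans ?_
  show E.hom.hom ((HomologicalComplex.homologyMap (s • 𝟙 (KC S (preU q U) (qF q F))) p).hom _) = s • E.hom.hom _
  exact (congrArg E.hom.hom (homologyMap_smul_id (KC S (preU q U) (qF q F)) s p _)).trans (map_smul E.hom.hom s _)

variable {F}

include hsq hU in
/-- The model computes the base change, `S`-semilinearly. -/
theorem Model.exists_bcEquiv (m : Model (A := A) X F U) (p : ℕ) :
    ∃ e : CohIII.T m.P ((m.N : ℤ) - p) (ModuleCat.of A S) ≃+ Coh.HH X' (qF q F) p,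
      ∀ (s : S) (t : CohIII.T m.P ((m.N : ℤ) - p) (ModuleCat.of A S)),
        e (((CohIII.TFun m.P ((m.N : ℤ) - p)).map (mulS S A s)).hom t) = s • e t := by
  refine ⟨(AddEquiv.ofBijective (HomologicalComplex.homologyMap (tensorφ A m.φ (ModuleCat.of A S))
      ((m.N : ℤ) - p)).hom.toAddMonoidHom (m.qis _ _)).trans
    ((eBC S hsq F hU m.N p rfl).toLinearEquiv.toAddEquiv), fun s t => ?_⟩
  have h : HomologicalComplex.homologyMap (CohIII.tensorMap m.P (mulS S A s)) ((m.N : ℤ) - p) ≫
      HomologicalComplex.homologyMap (tensorφ A m.φ (ModuleCat.of A S)) ((m.N : ℤ) - p) =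
      HomologicalComplex.homologyMap (tensorφ A m.φ (ModuleCat.of A S)) ((m.N : ℤ) - p) ≫
        HomologicalComplex.homologyMap (CohIII.tensorMap (KD U F m.N) (mulS S A s)) ((m.N : ℤ) - p) := by
    rw [← HomologicalComplex.homologyMap_comp, tensorφ_natural, HomologicalComplex.homologyMap_comp]
  exact (congrArg (eBC S hsq F hU m.N p rfl).toLinearEquiv (ConcreteCategory.congr_hom h t)).trans
    (eBC_smul S hsq F hU m.N p rfl s _)

end Groth.Agent.LeadBC
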