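import Groth.Agent.LeadBC.Fibre
import Groth.Agent.LeadBC.Gamma
import Groth.Agent.H17.PrinOmega
import Groth.Agent.LeadDev.Sub

/-!
# Exchange properties from the fibres; quotients of the coefficient
-/

set_option autoImplicit false
set_option linter.style.haveILetI false
set_option linter.unusedSectionVars false

universe u

open AlgebraicGeometry CategoryTheory CategoryTheory.Limits TopologicalSpace Opposite
open scoped TensorProduct

namespace Groth.Agent.LeadBC

open Groth.Agent.LeadFF Groth.Agent.H06FlatCx Groth.Agent.H11Ample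

variable {A : Type u} [CommRing A] {X : Scheme.{u}} [X.Over (Spec (CommRingCat.of A))] {ι : Type u} [Finite ι]
  {U : ι → X.Opens} {F : X.Modules} [F.IsQuasicoherent]

theorem Model.finite_flat (m : Model (A := A) X F U) (i : ℤ) :
    Module.Finite A (m.P.X i) ∧ Module.Flat A (m.P.X i) :=
  ⟨(m.finite_free i).1, haveI := (m.finite_free i).2; inferInstance⟩

theorem Model.cok_flat_of_fiberRank_const [IsNoetherianRing A] [IsReduced A] (hU : GoodCover U)
    (m : Model (A := A) X F U) (p : ℕ)
    (h : IsLocallyConstant (CohIII.fiberRank (X ↘ Spec (CommRingCat.of A)) F p)) :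
    (CohIII.TFun m.P ((m.N : ℤ) - p)).PreservesEpimorphisms ∧
      (CohIII.TFun m.P ((m.N : ℤ) - p + 1)).PreservesEpimorphisms ∧
      (CohIII.TFun m.P ((m.N : ℤ) - p)).PreservesMonomorphisms := by
  set j := (m.N : ℤ) - p
  have hc : IsLocallyConstant (CohIII.dRank m.P j) := by
    have e : CohIII.dRank m.P j = CohIII.fiberRank (X ↘ Spec (CommRingCat.of A)) F p :=
      funext fun y => (m.fiberRank_eq hU y p).symm
    rw [e]
    exact h
  obtain ⟨h1, h2⟩ := cokFlat_of_dRank_const m.P m.finite_flat j hc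
  haveI := (m.finite_flat (j - 1)).2
  haveI := (m.finite_flat j).2
  exact ⟨(preservesEpi_iff_flat m.P (down_prev j) (down_next j)).2 h2,
    (preservesEpi_iff_flat m.P (down_prev (j + 1)) (next_succ j)).2 h1,
    (preservesMono_iff_flat m.P (down_prev j) (down_next j)).2 h1⟩

/-- Vanishing at the residue field of a local ring gives exactness of the next functor. -/
theorem Model.epi_of_fibre_vanishing [IsNoetherianRing A] [IsLocalRing A] (hU : GoodCover U)
    (m : Model (A := A) X F U) (n : ℕ)
    (h : Subsingleton (CohIII.fiberH (X ↘ Spec (CommRingCat.of A)) F (IsLocalRing.closedPoint A) (n + 1))) :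
    (CohIII.TFun m.P ((m.N : ℤ) - n)).PreservesEpimorphisms := by
  set j := (m.N : ℤ) - n
  have hj : (m.N : ℤ) - ((n + 1 : ℕ) : ℤ) = j - 1 := by push_cast; omega
  have h' := (m.subsingleton_fiberH_iff' hU (IsLocalRing.closedPoint A) (n + 1)).1 h
  rw [hj] at h'
  let e : ModuleCat.of A (IsLocalRing.ResidueField A) ≅
      ModuleCat.of A (primeOf (A := A) (IsLocalRing.closedPoint A)).asIdeal.ResidueField :=
    LinearEquiv.toModuleIso (LinearEquiv.ofBijective
      (Algebra.linearMap (A ⧸ IsLocalRing.maximalIdeal A) (IsLocalRing.maximalIdeal A).ResidueField |>.restrictScalars A)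
      (Ideal.bijective_algebraMap_quotient_residueField (IsLocalRing.maximalIdeal A)))
  have hz : IsZero ((CohIII.TFun m.P (j - 1)).obj (ModuleCat.of A (IsLocalRing.ResidueField A))) :=
    haveI : Subsingleton ((CohIII.TFun m.P (j - 1)).obj (ModuleCat.of A (IsLocalRing.ResidueField A))) :=
      ((CohIII.TFun m.P (j - 1)).mapIso e).toLinearEquiv.toEquiv.subsingleton_congr.2 h'
    ModuleCat.isZero_of_subsingleton _
  have hm : (CohIII.TFun m.P (j - 1)).PreservesMonomorphisms :=
    preservesMono_of_forall_subsingleton m.P (j - 1)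
      (subsingleton_of_residueField_zero m.P m.finite_flat (j - 1) hz)
  haveI := (m.finite_flat (j - 1)).2
  haveI := (m.finite_flat (j - 1 - 1)).2
  refine (preservesEpi_iff_flat m.P (down_prev j) (down_next j)).2 ?_
  exact (preservesMono_iff_flat m.P ((down_prev (j - 1)).trans (sub_add_cancel j 1)) (down_next (j - 1))).1 hm

section Quotient

variable (A) (F)

theorem exists_uMap (M : ModuleCat.{u} A) (c : M) : ∃ α : F ⟶ (CohIII.tensorAFunctor A F).obj M,
    ∀ V : X.Opens, IsAffineOpen V → ∀ x : Γ(F, V), α.app V x = τ₀ A F M V ((x : sec A F V) ⊗ₜ c) := by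
  obtain ⟨α, hα⟩ := H17.PrinOmega.exists_hom_of_basis F ((CohIII.tensorAFunctor A F).obj M) IsAffineOpen
    (fun W x hx => by
      obtain ⟨V, hV, hxV, hle⟩ := exists_isAffineOpen_mem_and_subset (U := W) hx
      exact ⟨V, hV, hxV, hle⟩)
    (fun V _ =>
      { toFun := fun x => (tm (ηfun A M V c) x : Γ(CohB1.tensorMod (pT A M) F, V))
        map_add' := fun x y => tm_add_right _ _ _
        map_smul' := fun r x => tm_smul_right r _ _ })
    (fun V V' _ _ e x => ((tm_res e _ _).trans
      (congrArg (fun z : Γ(pT A M, V') => tm z _) (ηV_res A M e c))).symm)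
  exact ⟨α, fun V hV x => hα V hV x⟩

/-- `x ↦ x ⊗ c`. -/
noncomputable def uMap (M : ModuleCat.{u} A) (c : M) : F ⟶ (CohIII.tensorAFunctor A F).obj M :=
  (exists_uMap A F M c).choose

theorem uMap_app (M : ModuleCat.{u} A) (c : M) {V : X.Opens} (hV : IsAffineOpen V) (x : Γ(F, V)) :
    (uMap A F M c).app V x = τ₀ A F M V ((x : sec A F V) ⊗ₜ c) :=
  (exists_uMap A F M c).choose_spec V hV x

theorem uMap_natural {M M' : ModuleCat.{u} A} (φ : M ⟶ M') (c : M) :
    uMap A F M c ≫ (CohIII.tensorAFunctor A F).map φ = uMap A F M' (φ.hom c) :=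
  hom_ext_affine _ _ fun V hV x => by
    show ((CohIII.tensorAFunctor A F).map φ).app V ((uMap A F M c).app V x) = _
    rw [uMap_app A F M c hV, uMap_app A F M' _ hV]
    exact (τ₀_natural A F φ V _).trans (congrArg (τ₀ A F M' V) (LinearMap.lTensor_tmul _ _ _ _))

theorem isIso_uMap_one : IsIso (uMap A F (ModuleCat.of A A) (1 : A)) := by
  refine LeadDev.isIso_of_bijective_affine _ inferInstance (isQCoh_GM A F _) fun V hV => ?_
  have e : ∀ x, (uMap A F (ModuleCat.of A A) (1 : A)).app V x =
      τ₀ A F (ModuleCat.of A A) V ((TensorProduct.rid A (sec A F V)).symm x) := fun x =>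
    uMap_app A F (ModuleCat.of A A) (1 : A) hV x
  have hb : Function.Bijective (fun x : sec A F V => τ₀ A F (ModuleCat.of A A) V
      ((TensorProduct.rid A (sec A F V)).symm x)) :=
    (bijective_τ₀ A F (ModuleCat.of A A) hV).comp (TensorProduct.rid A (sec A F V)).symm.bijective
  refine ⟨fun x y h => hb.1 ((e x).symm.trans (h.trans (e y))), fun z => ?_⟩
  obtain ⟨x, hx⟩ := hb.2 z
  exact ⟨x, (e x).trans hx⟩

variable {A}

/-- If the functor is right exact at degree `n` then `H^n(X, F) → H^n(X, F/JF)` is onto. -/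
theorem surjective_modPow_of_preservesEpi (n : ℕ)
    (h : (CohIII.tensorAFunctor A F ⋙ CohIII.HAb X n).PreservesEpimorphisms) (I : Ideal A) (k : ℕ) :
    Function.Surjective (Hm (Formal.modPowπ I k F) n) := by
  let Q : ModuleCat.{u} A := ModuleCat.of A (A ⧸ I ^ k)
  let q : ModuleCat.of A A ⟶ Q := ModuleCat.ofHom (Submodule.mkQ (I ^ k))
  let uq := uMap A F Q (q.hom (1 : A))
  have huq : uMap A F (ModuleCat.of A A) (1 : A) ≫ (CohIII.tensorAFunctor A F).map q = uq :=
    uMap_natural A F q 1
  have hsurj : ∀ V : X.Opens, IsAffineOpen V → Function.Surjective (uq.app V) := fun V hV y => by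
    obtain ⟨z, rfl⟩ := (bijective_τ₀ A F Q hV).2 y
    obtain ⟨w, rfl⟩ := LinearMap.lTensor_surjective (sec A F V) (Submodule.mkQ_surjective (I ^ k)) z
    obtain ⟨x, rfl⟩ := (TensorProduct.rid A (sec A F V)).symm.surjective w
    exact ⟨x, (uMap_app A F Q (q.hom (1 : A)) hV x).trans
      (congrArg (τ₀ A F Q V) (LinearMap.lTensor_tmul _ _ x (1 : A)).symm)⟩
  haveI : Epi uq := ⟨fun a b hab => hom_ext_affine _ _ fun V hV y => by
    obtain ⟨x, rfl⟩ := hsurj V hV y
    exact congr($(congr(Scheme.Modules.Hom.app $hab V)) x)⟩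
  have hker : kernel.ι uq ≫ Formal.modPowπ I k F = 0 := hom_ext_affine _ _ fun V hV y => by
    show (Formal.modPowπ I k F).app V ((kernel.ι uq).app V y) = 0
    have h0 : uq.app V ((kernel.ι uq).app V y) = 0 :=
      congr($(congr(Scheme.Modules.Hom.app $(kernel.condition uq) V)) y)
    generalize (kernel.ι uq).app V y = x at h0 ⊢
    rw [uMap_app A F Q (q.hom (1 : A)) hV] at h0
    have h1 : (show sec A F V from x) ⊗ₜ[A] (Submodule.Quotient.mk (1 : A) : A ⧸ I ^ k) = 0 :=
      (bijective_τ₀ A F Q hV).1 (h0.trans (map_zero _).symm)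
    have h2 : (show sec A F V from x) ∈ (I ^ k) • (⊤ : Submodule A (sec A F V)) := by
      refine (Submodule.Quotient.mk_eq_zero _).1 ?_
      refine Eq.trans ?_ ((congrArg (TensorProduct.tensorQuotEquivQuotSMul (sec A F V) (I ^ k)) h1).trans (map_zero _))
      exact ((TensorProduct.tensorQuotEquivQuotSMul_tmul_mk (I ^ k) _ (1 : A)).trans
        (congrArg Submodule.Quotient.mk (one_smul A _))).symm
    refine Submodule.smul_induction_on (p := fun w : sec A F V => (Formal.modPowπ I k F).app V w = 0) h2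
      (fun a ha z _ => congr($(congr(Scheme.Modules.Hom.app $(smulMod_π I ha F) V)) (z : Γ(F, V))))
      (fun a b ha hb => (map_add ((Formal.modPowπ I k F).app V).hom a b).trans
        ((congrArg₂ (· + ·) ha hb).trans (add_zero 0)))
  have hle : Formal.smulFamily (I ^ k) F ≫ uq = 0 := Sigma.hom_ext _ _ fun a => by
    refine ((Category.assoc _ _ _).symm.trans (congrArg (· ≫ uq) (Sigma.ι_desc _ _))).trans ?_
    refine (hom_ext_affine _ _ fun V hV x => ?_).trans comp_zero.symm
    show uq.app V ((Formal.smulMod A F a.1).app V x) = 0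
    rw [uMap_app A F Q (q.hom (1 : A)) hV]
    refine (congrArg (τ₀ A F Q V) ?_).trans (map_zero _)
    show (a.1 • (show sec A F V from x)) ⊗ₜ[A] (Submodule.Quotient.mk (1 : A) : A ⧸ I ^ k) = 0
    rw [TensorProduct.smul_tmul, ← Submodule.Quotient.mk_smul, smul_eq_mul, mul_one,
      (Submodule.Quotient.mk_eq_zero _).2 a.2, TensorProduct.tmul_zero]
  let c : Formal.modPow I k F ⟶ (CohIII.tensorAFunctor A F).obj Q := cokernel.desc _ uq hle
  haveI hc : IsIso c := by
    let d : (CohIII.tensorAFunctor A F).obj Q ⟶ Formal.modPow I k F :=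
      (Abelian.epiIsCokernelOfKernel _ (kernelIsKernel uq)).desc (CokernelCofork.ofπ _ hker)
    have hd : uq ≫ d = Formal.modPowπ I k F :=
      (Abelian.epiIsCokernelOfKernel _ (kernelIsKernel uq)).fac (CokernelCofork.ofπ _ hker) WalkingParallelPair.one
    have hc' : Formal.modPowπ I k F ≫ c = uq := cokernel.π_desc _ _ _
    haveI : Epi (Formal.modPowπ I k F) := inferInstanceAs (Epi (cokernel.π _))
    exact ⟨d, (cancel_epi (Formal.modPowπ I k F)).1 (by rw [← Category.assoc, hc', hd, Category.comp_id]),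
      (cancel_epi uq).1 (by rw [← Category.assoc, hd, hc', Category.comp_id])⟩
  haveI := isIso_uMap_one A F (X := X)
  haveI : Epi q := (ModuleCat.epi_iff_surjective q).2 (Submodule.mkQ_surjective _)
  have hs : Function.Surjective (Hm ((CohIII.tensorAFunctor A F).map q) n) :=
    (AddCommGrpCat.epi_iff_surjective _).1 (h.preserves q)
  intro y
  obtain ⟨z, hz⟩ := hs (Hm c n y)
  refine ⟨Hm (inv (uMap A F (ModuleCat.of A A) (1 : A))) n z, ?_⟩
  have hπ : Formal.modPowπ I k F =
      uMap A F (ModuleCat.of A A) (1 : A) ≫ (CohIII.tensorAFunctor A F).map q ≫ inv c := by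
    rw [← Category.assoc, huq]
    exact (IsIso.eq_comp_inv c).2 (cokernel.π_desc _ _ _)
  rw [← Hm_comp, hπ, IsIso.inv_hom_id_assoc, Hm_comp, hz, ← Hm_comp, IsIso.hom_inv_id, Hm_id]

end Quotient

end Groth.Agent.LeadBC
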