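import Groth.Agent.LeadBC.SectRpush
import Groth.Agent.LeadBC.Exchange
import Groth.Agent.H8Props.FinLocFree.Sheaf

/-!
# Flat cohomology and locally constant fibre ranks
-/

set_option autoImplicit false
set_option linter.style.haveILetI false
set_option linter.unusedSectionVars false

universe u

open AlgebraicGeometry CategoryTheory CategoryTheory.Limits TopologicalSpace Opposite
open scoped TensorProduct

namespace Groth.Agent.LeadBC

open Groth.Agent.H06FlatCx

section Alg

variable {A : Type u} [CommRing A] (P : ChainComplex (ModuleCat.{u} A) ℤ) (hfl : ∀ i, Module.Flat A (P.X i))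
  (hneg : ∀ i, i < 0 → IsZero (P.X i))
include hfl hneg

/-- In a complex of flat modules bounded below, flat homology makes all cokernels flat. -/
theorem flat_cok_of_flat_homology (j₀ : ℤ) (hH : ∀ j, j ≤ j₀ → Module.Flat A (H0 P (j + 1) j (j - 1))) :
    ∀ j, j ≤ j₀ → Module.Flat A (Cok P j) := by
  have base : ∀ j, j < 0 → Module.Flat A (Cok P j) := fun j hj => by
    haveI := ModuleCat.subsingleton_of_isZero (hneg j hj)
    infer_instance
  suffices h : ∀ (k : ℕ) (j : ℤ), j < k → j ≤ j₀ → Module.Flat A (Cok P j) from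
    fun j hj => h (j + 1).toNat j (by omega) hj
  intro k
  induction k with
  | zero => intro j hj _; exact base j (by simpa using hj)
  | succ k ih =>
    intro j hjk hj
    by_cases hj0 : j < 0
    · exact base j hj0
    haveI := hfl (j - 1)
    have hprev := ih (j - 1) (by push_cast at hjk; omega) (by omega)
    unfold Cok at hprev
    rw [sub_add_cancel] at hprev
    have e := (preservesEpi_iff_flat P (down_prev j) (down_next j)).2 hprev
    exact (preservesMono_iff_flat P (down_prev j) (down_next j)).1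
      ((flat_h0_iff_mono P (down_prev j) (down_next j) e).2 (hH j hj))

end Alg

variable {A : Type u} [CommRing A] {X : Scheme.{u}} [X.Over (Spec (CommRingCat.of A))] {ι : Type u} [Finite ι]
  {U : ι → X.Opens} {F : X.Modules} [F.IsQuasicoherent]

theorem Model.flat_cok_all (m : Model (A := A) X F U)
    (hH : ∀ p : ℕ, p ≤ m.N → Module.Flat A (H0 m.P ((m.N : ℤ) - p + 1) ((m.N : ℤ) - p) ((m.N : ℤ) - p - 1)))
    (j : ℤ) : Module.Flat A (Cok m.P j) := by
  refine flat_cok_of_flat_homology m.P (fun i => (m.finite_flat i).2) m.isZero_neg j (fun i _ => ?_) j le_rfl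
  by_cases hi0 : i < 0
  · haveI := ModuleCat.subsingleton_of_isZero (m.isZero_neg i hi0)
    infer_instance
  by_cases hi : (m.N : ℤ) < i
  · haveI := (m.finite_flat (i - 1)).2
    haveI := m.subsingleton_above hi (ModuleCat.of A A)
    haveI := (tSelfEquiv m.P (down_prev i) (down_next i)).toEquiv.subsingleton
    infer_instance
  obtain ⟨p, hp, rfl⟩ : ∃ p : ℕ, p ≤ m.N ∧ (m.N : ℤ) - p = i := ⟨((m.N : ℤ) - i).toNat, by omega, by omega⟩
  exact hH p hp

variable {X Y : Scheme.{u}} (f : X ⟶ Y)

theorem fiberRank_eventually_const [IsProper f] [IsLocallyNoetherian Y] [HasInjectiveResolutions X.Modules]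
    {F : X.Modules} (hF : Coh.IsCoh F) (hfl : FlatMod.IsFlatOver f F)
    (hlf : ∀ i : ℕ, FlatMod.IsFinLocFree ((Coh.Rpush f i).obj F)) (i : ℕ) :
    IsLocallyConstant (CohIII.fiberRank f F i) := by
  haveI : F.IsQuasicoherent := hF.1
  refine (IsLocallyConstant.iff_eventually_eq _).2 fun y => ?_
  obtain ⟨_, ⟨V, hV : IsAffineOpen V, rfl⟩, hy, -⟩ :=
    Y.isBasis_affineOpens.exists_subset_of_mem_open (Set.mem_univ y) isOpen_univ
  obtain ⟨ι, hι, U, hU, ⟨m⟩⟩ := exists_chart_model (f := f) (hV := hV) hF hfl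
  haveI : (chartF f hV F).IsQuasicoherent := H29Fitt.isQCoh_pullback _ F hF.1
  haveI : IsNoetherianRing Γ(Y, V) := IsLocallyNoetherian.component_noetherian ⟨V, hV⟩
  have hcok := m.flat_cok_all fun p _ => by
    obtain ⟨e⟩ := m.exists_sections_equiv hU p
    haveI := (H8Props.FinLocFree.finite_projective_sections _ (hlf p) hV).2
    exact Module.Flat.of_linearEquiv e
  have hc : IsLocallyConstant (CohIII.dRank m.P ((m.N : ℤ) - i)) :=
    dRank_locallyConstant_of_flat m.P m.finite_flat _ (hcok _) (by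
      have := hcok ((m.N : ℤ) - i - 1)
      unfold Cok at this
      rwa [sub_add_cancel] at this)
  have hcont : Continuous (hV.isoSpec.hom.base : (Scheme.Opens.toScheme (X := Y) V) → Spec Γ(Y, V)) := hV.isoSpec.hom.continuous
  obtain ⟨T₀, hT₀, hT₀o, hyT₀⟩ := eventually_nhds_iff.1 (hc.eventually_eq (hV.primeIdealOf ⟨y, hy⟩))
  let T : Set (Scheme.Opens.toScheme (X := Y) V) := hV.isoSpec.hom.base ⁻¹' T₀
  have hTo : IsOpen T := hT₀o.preimage hcont
  rw [eventually_nhds_iff]
  refine ⟨Subtype.val '' T, ?_, V.isOpen.isOpenMap_subtype_val T hTo, ⟨⟨y, hy⟩, hyT₀, rfl⟩⟩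
  rintro _ ⟨z, hz, rfl⟩
  rw [m.fiberRank_chart hU z.2 i, m.fiberRank_chart hU hy i]
  exact hT₀ _ hz

end Groth.Agent.LeadBC
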