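import Groth.Agent.LeadBC.Model
import Groth.Agent.LeadBC.Basic
import Groth.Agent.LeadBC.BaseChange
import Groth.Agent.LeadBC.FlatCoh

/-!
# Base change when the cohomology is flat
-/

set_option autoImplicit false
set_option linter.style.haveILetI false
set_option linter.unusedSectionVars false

universe u

open AlgebraicGeometry CategoryTheory CategoryTheory.Limits TopologicalSpace Opposite
open scoped TensorProduct

namespace Groth.Agent.LeadBC

open Groth.Agent.LeadFF Groth.Agent.H06FlatCx

variable {A : Type u} [CommRing A] {X : Scheme.{u}} [X.Over (Spec (CommRingCat.of A))] (F : X.Modules)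
  [F.IsQuasicoherent] {ι : Type u} [Finite ι] {U : ι → X.Opens}

/-- The homology of the shifted Čech complex is the cohomology. -/
noncomputable def h0KD (hU : GoodCover U) (N p : ℕ) {j : ℤ} (hj : (embN N).f p = j) :
    H0 (KD U F N (A := A)) (j + 1) j (j - 1) ≃ₗ[A] Coh.HH X F p :=
  (h0Equiv _ (down_prev j) (down_next j)).trans
    ((KC A U F).extendHomologyIso (embN N) hj ≪≫ (eHH A hU F p).toModuleIso).toLinearEquiv

variable {F}

theorem flat_cok_KD (hU : GoodCover U) (hfl : FlatMod.IsFlatOver (X ↘ Spec (CommRingCat.of A)) F) {N : ℕ}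
    (hN : HBound X N) (hH : ∀ p : ℕ, Module.Flat A (Coh.HH X F p)) :
    ∀ j : ℤ, Module.Flat A (Cok (KD U F N (A := A)) j) := by
  have hX : ∀ i, Module.Flat A ((KD U F N (A := A)).X i) := fun i => flat_KD F hU hfl N i
  have base : ∀ j : ℤ, j < 0 → Module.Flat A (Cok (KD U F N (A := A)) j) := fun j hj => by
    haveI := hX (j - 1)
    refine (preservesMono_iff_flat _ (down_prev j) (down_next j)).1
      (preservesMono_of_forall_subsingleton _ j fun M => ⟨fun a b => ?_⟩)
    have key : ∀ t : (CohIII.TFun (KD U F N (A := A)) j).obj M, t = 0 := fun t => by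
      obtain ⟨⟨z, hz⟩, rfl⟩ := tcls_surjective _ (down_next j) M t
      exact (tcls_eq_zero_iff _ (down_prev j) (down_next j) M _).2
        (universallyExact_neg F hU hN (j + 1) j (j - 1) rfl (sub_add_cancel j 1) hj M z hz)
    rw [key a, key b]
  suffices h : ∀ (k : ℕ) (j : ℤ), j < k → Module.Flat A (Cok (KD U F N (A := A)) j) from
    fun j => h (j + 1).toNat j (by omega)
  intro k
  induction k with
  | zero => intro j hj; exact base j (by simpa using hj)
  | succ k ih =>
    intro j hjk
    by_cases hj0 : j < 0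
    · exact base j hj0
    haveI := hX (j - 1)
    have hprev := ih (j - 1) (by push_cast at hjk; omega)
    unfold Cok at hprev
    rw [sub_add_cancel] at hprev
    have he := (preservesEpi_iff_flat _ (down_prev j) (down_next j)).2 hprev
    refine (preservesMono_iff_flat _ (down_prev j) (down_next j)).1
      ((flat_h0_iff_mono _ (down_prev j) (down_next j) he).2 ?_)
    by_cases hjN : j ≤ (N : ℤ)
    · obtain ⟨p, hp⟩ : ∃ p : ℕ, (embN N).f p = j := ⟨((N : ℤ) - j).toNat, by rw [embN_f]; omega⟩
      haveI := hH p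
      exact Module.Flat.of_linearEquiv (h0KD F hU N p hp)
    · haveI : Subsingleton ((KD U F N (A := A)).homology j) := ModuleCat.subsingleton_of_isZero
        ((HomologicalComplex.exactAt_iff_isZero_homology _ _).1
          ((KC A U F).extend_exactAt (embN N) j fun p hp => by rw [embN_f] at hp; omega))
      haveI := (h0Equiv (KD U F N (A := A)) (down_prev j) (down_next j)).toEquiv.subsingleton
      infer_instance

theorem nonempty_baseChange_of_flat [QuasiCompact (X ↘ Spec (CommRingCat.of A))]
    [IsSeparated (X ↘ Spec (CommRingCat.of A))] (hfl : FlatMod.IsFlatOver (X ↘ Spec (CommRingCat.of A)) F)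
    (hH : ∀ p : ℕ, Module.Flat A (Coh.HH X F p)) (S : Type u) [CommRing S] [Algebra A S]
    {X' : Scheme.{u}} [X'.Over (Spec (CommRingCat.of S))] {q : X' ⟶ X}
    (hsq : IsPullback q (X' ↘ Spec (CommRingCat.of S)) (X ↘ Spec (CommRingCat.of A))
      (Spec.map (CommRingCat.ofHom (algebraMap A S)))) (n : ℕ) :
    Nonempty (Coh.HH X' (qF q F) n ≃+ TensorProduct A (Coh.HH X F n) S) := by
  obtain ⟨ι, hι, U, hU⟩ := exists_goodCover A (X := X)
  obtain ⟨N, hN⟩ := exists_bound_HH A X
  let j : ℤ := (N : ℤ) - n
  have hc := flat_cok_KD hU hfl hN hH (j - 1)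
  unfold Cok at hc
  rw [sub_add_cancel] at hc
  haveI := flat_KD F hU hfl N (j - 1) (A := A)
  have hE := (preservesEpi_iff_epiLift _ (down_prev j) (down_next j)).1
    ((preservesEpi_iff_flat _ (down_prev j) (down_next j)).2 hc)
  let e₁ := LinearEquiv.ofBijective _
    (compMap_bijective_of_epi (KD U F N (A := A)) (down_prev j) (down_next j) hE (ModuleCat.of A S))
  exact ⟨((eBC S hsq F hU N n (j := j) rfl).toLinearEquiv.toAddEquiv).symm.trans
    (e₁.symm.toAddEquiv.trans (TensorProduct.congr (h0KD F hU N n (j := j) rfl) (LinearEquiv.refl A S)).toAddEquiv)⟩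

end Groth.Agent.LeadBC
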