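import Mathlib.Algebra.Category.ModuleCat.Abelian
import Mathlib.Algebra.Category.ModuleCat.EpiMono
import Mathlib.CategoryTheory.Linear.Yoneda
import Mathlib.CategoryTheory.Preadditive.Yoneda.Basic
import Mathlib.RingTheory.Finiteness.Quotient

/-!
# Kernels of maps between corepresented functors
-/

set_option autoImplicit false
set_option linter.style.haveILetI false

universe u v w

open CategoryTheory CategoryTheory.Limits Opposite

namespace Groth.Agent.LeadBC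

variable {A : Type u} [CommRing A] {C : Type v} [Category.{u} C] [Preadditive C]

/-- If `Hom(E₀, Φ -)` and `Hom(E₁, Φ -)` are corepresented by `Q₀`, `Q₁`, then so is `Hom(G, Φ -)` for
the cokernel `G` of `E₁ → E₀`, by a quotient of `Q₀`. -/
theorem exists_corep_cokernel (Φ : ModuleCat.{u} A ⥤ C) {G E₀ E₁ : C} (v : E₁ ⟶ E₀) (π : E₀ ⟶ G) [Epi π]
    (w : v ≫ π = 0) (hdesc : ∀ (N : C) (φ : E₀ ⟶ N), v ≫ φ = 0 → ∃ ψ : G ⟶ N, π ≫ ψ = φ)
    {Q₀ Q₁ : ModuleCat.{u} A} [Module.Finite A Q₀]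
    (e₀ : Φ ⋙ preadditiveCoyoneda.obj (op E₀) ≅
      (linearCoyoneda A (ModuleCat.{u} A)).obj (op Q₀) ⋙ forget₂ (ModuleCat.{u} A) AddCommGrpCat.{u})
    (e₁ : Φ ⋙ preadditiveCoyoneda.obj (op E₁) ≅
      (linearCoyoneda A (ModuleCat.{u} A)).obj (op Q₁) ⋙ forget₂ (ModuleCat.{u} A) AddCommGrpCat.{u}) :
    ∃ N : ModuleCat.{u} A, Module.Finite A N ∧
      Nonempty (Φ ⋙ preadditiveCoyoneda.obj (op G) ≅
        (linearCoyoneda A (ModuleCat.{u} A)).obj (op N) ⋙ forget₂ (ModuleCat.{u} A) AddCommGrpCat.{u}) := by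
  let α := e₀.inv ≫ Functor.whiskerLeft Φ (preadditiveCoyoneda.map v.op) ≫ e₁.hom
  let u' : Q₁ ⟶ Q₀ := (α.app Q₀).hom (𝟙 Q₀)
  have hα : ∀ (M : ModuleCat.{u} A) (ψ : Q₀ ⟶ M), (α.app M).hom ψ = u' ≫ ψ := fun M ψ => by
    refine Eq.trans ?_ (ConcreteCategory.congr_hom (α.naturality ψ) (𝟙 Q₀))
    show (α.app M).hom ψ = (α.app M).hom (𝟙 Q₀ ≫ ψ)
    rw [Category.id_comp]
  have hiff : ∀ (M : ModuleCat.{u} A) (φ : E₀ ⟶ Φ.obj M), v ≫ φ = 0 ↔ u' ≫ (e₀.hom.app M).hom φ = 0 := by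
    intro M φ
    have h : (α.app M).hom ((e₀.hom.app M).hom φ) = (e₁.hom.app M).hom (v ≫ φ) :=
      congrArg (fun z => (e₁.hom.app M).hom (v ≫ z)) (ConcreteCategory.congr_hom (e₀.hom_inv_id_app M) φ)
    rw [← hα, h]
    exact ⟨fun h0 => (congrArg (e₁.hom.app M).hom h0).trans (map_zero _),
      fun h0 => (ConcreteCategory.bijective_of_isIso (e₁.hom.app M)).1 (h0.trans (map_zero _).symm)⟩
  let N : ModuleCat.{u} A := ModuleCat.of A (Q₀ ⧸ LinearMap.range u'.hom)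
  let q : Q₀ ⟶ N := ModuleCat.ofHom (Submodule.mkQ _)
  have hq : u' ≫ q = 0 := ModuleCat.hom_ext (LinearMap.ext fun z =>
    (Submodule.Quotient.mk_eq_zero _).2 (LinearMap.mem_range_self _ z))
  haveI : Epi q := (ModuleCat.epi_iff_surjective _).2 (Submodule.mkQ_surjective _)
  have hlift : ∀ (M : ModuleCat.{u} A) (χ : N ⟶ M), ∃ φ : G ⟶ Φ.obj M, (e₀.hom.app M).hom (π ≫ φ) = q ≫ χ := by
    intro M χ
    obtain ⟨φ₀, hφ₀⟩ := (ConcreteCategory.bijective_of_isIso (e₀.hom.app M)).2 (q ≫ χ)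
    obtain ⟨φ, rfl⟩ := hdesc _ φ₀ ((hiff M φ₀).2 (by
      rw [show (e₀.hom.app M).hom φ₀ = q ≫ χ from hφ₀, ← Category.assoc, hq, zero_comp]))
    exact ⟨φ, hφ₀⟩
  have hdown : ∀ (M : ModuleCat.{u} A) (φ : G ⟶ Φ.obj M), ∃ χ : N ⟶ M, q ≫ χ = (e₀.hom.app M).hom (π ≫ φ) := by
    intro M φ
    have h := (hiff M (π ≫ φ)).1 (by rw [← Category.assoc, w, zero_comp])
    have hle : LinearMap.range u'.hom ≤ LinearMap.ker ((e₀.hom.app M).hom (π ≫ φ) : Q₀ ⟶ M).hom := by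
      rintro _ ⟨z, rfl⟩
      exact ConcreteCategory.congr_hom h z
    exact ⟨ModuleCat.ofHom (Submodule.liftQ _ _ hle), ModuleCat.hom_ext (Submodule.liftQ_mkQ _ _ _)⟩
  choose f hf using hdown
  choose g hg using hlift
  let E : ∀ M : ModuleCat.{u} A, (G ⟶ Φ.obj M) ≃+ (N ⟶ M) := fun M =>
    { toFun := f M
      invFun := g M
      left_inv := fun φ => by
        rw [← cancel_epi π]
        exact (ConcreteCategory.bijective_of_isIso (e₀.hom.app M)).1 ((hg M _).trans (hf M φ))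
      right_inv := fun χ => by
        rw [← cancel_epi q]
        exact (hf M _).trans (hg M χ)
      map_add' := fun φ φ' => by
        rw [← cancel_epi q, hf, Preadditive.comp_add, Preadditive.comp_add, hf, hf]
        exact map_add (e₀.hom.app M).hom (π ≫ φ) (π ≫ φ') }
  have hnat : ∀ (M M' : ModuleCat.{u} A) (m : M ⟶ M') (φ : G ⟶ Φ.obj M), f M' (φ ≫ Φ.map m) = f M φ ≫ m := by
    intro M M' m φ
    rw [← cancel_epi q, hf, ← Category.assoc π, ← Category.assoc q]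
    have h := ConcreteCategory.congr_hom (e₀.hom.naturality m) (show E₀ ⟶ Φ.obj M from π ≫ φ)
    exact h.trans
      (congrArg (fun z : Q₀ ⟶ M => z ≫ m) (hf M φ).symm)
  refine ⟨N, Module.Finite.of_surjective q.hom (Submodule.mkQ_surjective _),
    ⟨NatIso.ofComponents (fun M => AddEquiv.toAddCommGrpIso (E M)) fun {M M'} m => ?_⟩⟩
  exact AddCommGrpCat.hom_ext (AddMonoidHom.ext fun φ => hnat M M' m φ)

end Groth.Agent.LeadBC
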