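import Groth.Agent.LeadBC.Gamma
import Groth.Agent.H10Coh.SheafHom.Pullback
import Groth.Agent.H10Inj.SheafExt.DualTensor
import Groth.Agent.H10Inj.SheafExt.RelExt
import Groth.Agent.H10Coh.TensorTilde
import Groth.Agent.H16Derived.KFlat.SheafDerived
import Groth.Agent.H16Derived.KFlat.PerfNoeth
import Groth.Agent.H15Site.Invertible

/-!
# `Hom(E, f^*(M~) ⊗ F) = Hom(Q, M)` for finite locally free `E`
-/

set_option autoImplicit false
set_option linter.style.haveILetI false
set_option linter.unusedSectionVars false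

universe u

open AlgebraicGeometry CategoryTheory CategoryTheory.Limits TopologicalSpace Opposite
open scoped TensorProduct

namespace Groth.Agent.LeadBC

open Groth.Agent.H10Inj.SheafExt

variable {X : Scheme.{u}}

theorem ofHom_postMap (E : X.Modules) {N N' : X.Modules} (g : N ⟶ N') (φ : E ⟶ N) :
    ((homFunctor E).map g).app ⊤ (RefHull.ofHom φ ⊤) = RefHull.ofHom (φ ≫ g) ⊤ := by
  refine Subtype.ext (funext fun y => LinearMap.ext fun v => ?_)
  obtain ⟨U, hU, m, rfl⟩ := TopCat.Presheaf.exists_germ_eq E.presheaf v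
  refine (homFunctor_map_apply E g ⊤ (RefHull.ofHom φ ⊤) y _).trans ?_
  rw [RefHull.ofHom_apply, RefHull.ofHom_apply, RefHull.stalkMapₗ_germ, RefHull.stalkMapₗ_germ]
  exact H06Mod.stalkLin_germ g y.1 U hU (φ.app U m)

theorem ofHom_add (E N : X.Modules) (φ ψ : E ⟶ N) :
    RefHull.ofHom (φ + ψ) ⊤ = RefHull.ofHom φ ⊤ + RefHull.ofHom ψ ⊤ := by
  refine Subtype.ext (funext fun y => LinearMap.ext fun v => ?_)
  obtain ⟨U, hU, m, rfl⟩ := TopCat.Presheaf.exists_germ_eq E.presheaf v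
  show RefHull.stalkMapₗ (φ + ψ) y.1 _ = RefHull.stalkMapₗ φ y.1 _ + RefHull.stalkMapₗ ψ y.1 _
  rw [RefHull.stalkMapₗ_germ, RefHull.stalkMapₗ_germ, RefHull.stalkMapₗ_germ]
  exact map_add _ _ _

/-- Global sections of the sheaf Hom are the morphisms. -/
noncomputable def ofHomEquiv (E N : X.Modules) : (E ⟶ N) ≃+ Γ((homFunctor E).obj N, ⊤) :=
  AddEquiv.ofBijective
    (AddMonoidHom.mk' (fun φ => (show Γ((homFunctor E).obj N, ⊤) from RefHull.ofHom φ ⊤)) (ofHom_add E N))
    ⟨fun _ _ h => H10Coh.SheafHom.ofHom_injective h, H10Coh.SheafHom.ofHom_surjective⟩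

/-- Tensoring with a finite locally free module preserves flatness over the base. -/
theorem isFlatOver_tensor_of_finLocFree {S : Scheme.{u}} (f : X ⟶ S) {E F : X.Modules}
    (hE : FlatMod.IsFinLocFree E) (hF : FlatMod.IsFlatOver f F) :
    FlatMod.IsFlatOver f (CohB1.tensorMod E F) := fun x => by
  obtain ⟨n, ⟨b⟩⟩ := H22Alg.KExists.stalk_free hE x
  letI := FlatMod.moduleStalkOver f (CohB1.tensorMod E F) x
  letI := FlatMod.moduleStalkOver f F x
  letI : Algebra (S.presheaf.stalk (f.base x)) (X.presheaf.stalk x) := (f.stalkMap x).hom.toAlgebra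
  haveI : IsScalarTower (S.presheaf.stalk (f.base x)) (X.presheaf.stalk x) (F.presheaf.stalk x) :=
    .of_algebraMap_smul fun _ _ => rfl
  haveI : IsScalarTower (S.presheaf.stalk (f.base x)) (X.presheaf.stalk x)
      ((CohB1.tensorMod E F).presheaf.stalk x) := .of_algebraMap_smul fun _ _ => rfl
  haveI : Module.Flat (S.presheaf.stalk (f.base x)) (F.presheaf.stalk x) := hF x
  let e : (CohB1.tensorMod E F).presheaf.stalk x ≃ₗ[X.presheaf.stalk x] (Fin n →₀ F.presheaf.stalk x) :=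
    (H16Derived.KFlat.Stalk.stalkEquiv E F x).symm ≪≫ₗ TensorProduct.congr b.repr (LinearEquiv.refl _ _) ≪≫ₗ
      TensorProduct.finsuppScalarLeft (X.presheaf.stalk x) (F.presheaf.stalk x) (Fin n)
  classical
  haveI : Module.Flat (S.presheaf.stalk (f.base x)) (Fin n →₀ F.presheaf.stalk x) :=
    Module.Flat.of_linearEquiv (finsuppLequivDFinsupp (S.presheaf.stalk (f.base x)))
  exact Module.Flat.of_linearEquiv (e.restrictScalars (S.presheaf.stalk (f.base x)))

variable {A : Type u} [CommRing A] [X.Over (Spec (CommRingCat.of A))]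

/-- `E^∨ ⊗ (M~ ⊗ F) ≅ M~ ⊗ (E^∨ ⊗ F)`. -/
noncomputable def tensorAssocFunctorIso (D F : X.Modules) :
    CohIII.tensorAFunctor A F ⋙ (DCoh.tensorBi (X := X)).obj D ≅
      CohIII.tensorAFunctor A (CohB1.tensorMod D F) :=
  Functor.associator _ _ _ ≪≫ Functor.isoWhiskerLeft _
    (Functor.associator _ _ _ ≪≫ Functor.isoWhiskerLeft _
      (Functor.isoWhiskerRight (H16Derived.KFlat.Stalk.tensorRightModIso F ≪≫
          (H15Site.ModTensor.tLIso (O := X.sheaf) F).symm) _ ≪≫
        H15Site.Invertible.tLComp (O := X.sheaf) D F ≪≫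
        H15Site.ModTensor.tLIso (O := X.sheaf) _ ≪≫
        (H16Derived.KFlat.Stalk.tensorRightModIso _).symm))

/-- `Hom(E, -)` as `Γ(E^∨ ⊗ -)`. -/
noncomputable def homSectEquiv {E : X.Modules} (hE : FlatMod.IsFinLocFree E) (N : X.Modules) :
    (E ⟶ N) ≃+ Γ(((DCoh.tensorBi (X := X)).obj (RefHull.dual E)).obj N, ⊤) :=
  (ofHomEquiv E N).trans
    (AddEquiv.ofBijective (((dualHomIso E hE).inv.app N).app ⊤).hom
      (ConcreteCategory.bijective_of_isIso (((dualHomIso E hE).inv.app N).app ⊤)))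

/-- Morphisms out of a finite locally free module, corepresented. -/
theorem exists_hom_corep [IsNoetherianRing A] [IsProper (X ↘ Spec (CommRingCat.of A))] (F : X.Modules)
    (hF : Coh.IsCoh F) (hfl : FlatMod.IsFlatOver (X ↘ Spec (CommRingCat.of A)) F) (E : X.Modules)
    (hE : FlatMod.IsFinLocFree E) :
    ∃ Q : ModuleCat.{u} A, Module.Finite A Q ∧
      Nonempty (CohIII.tensorAFunctor A F ⋙ preadditiveCoyoneda.obj (op E) ≅
        (linearCoyoneda A (ModuleCat.{u} A)).obj (op Q) ⋙ forget₂ (ModuleCat.{u} A) AddCommGrpCat.{u}) := by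
  have hD : FlatMod.IsFinLocFree (RefHull.dual E) := isFinLocFree_dual hE
  have hF' : Coh.IsCoh (CohB1.tensorMod (RefHull.dual E) F) :=
    H10Coh.TT.isCoh_tensorMod (H16Derived.KFlat.Stalk.isCoh_of_isFinLocFree hD) hF
  obtain ⟨Q, hQ, ⟨e⟩⟩ := exists_corep (CohB1.tensorMod (RefHull.dual E) F) hF'
    (isFlatOver_tensor_of_finLocFree _ hD hfl)
  let θ := tensorAssocFunctorIso (A := A) (RefHull.dual E) F
  refine ⟨Q, hQ, ⟨?_ ≪≫ Functor.isoWhiskerRight e (forget₂ _ _)⟩⟩
  refine NatIso.ofComponents (fun M =>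
    AddEquiv.toAddCommGrpIso ((homSectEquiv hE _).trans
      (AddEquiv.ofBijective ((θ.hom.app M).app ⊤).hom
        (ConcreteCategory.bijective_of_isIso ((θ.hom.app M).app ⊤))))) fun {M M'} g => ?_
  refine AddCommGrpCat.hom_ext (AddMonoidHom.ext fun φ => ?_)
  let N := (CohIII.tensorAFunctor A F).map g
  show (θ.hom.app M').app ⊤ ((dualHomIso E hE).inv.app _ |>.app ⊤ (RefHull.ofHom (φ ≫ N) ⊤)) =
    ((CohIII.tensorAFunctor A (CohB1.tensorMod (RefHull.dual E) F)).map g).app ⊤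
      ((θ.hom.app M).app ⊤ ((dualHomIso E hE).inv.app _ |>.app ⊤ (RefHull.ofHom φ ⊤)))
  rw [← ofHom_postMap]
  exact (congrArg ((θ.hom.app M').app ⊤)
      (congr($(congrArg (fun k => Scheme.Modules.Hom.app k ⊤) ((dualHomIso E hE).inv.naturality N))
        (RefHull.ofHom φ ⊤)))).trans
    (congr($(congrArg (fun k => Scheme.Modules.Hom.app k ⊤) (θ.hom.naturality g))
      (((dualHomIso E hE).inv.app _).app ⊤ (RefHull.ofHom φ ⊤))))

end Groth.Agent.LeadBC
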