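import Groth.Agent.LeadBC.Basic
import Groth.Agent.H06FlatCx.Local
import Groth.Agent.H06FlatCx.Criteria
import Mathlib.LinearAlgebra.Contraction
import Mathlib.RingTheory.Flat.EquationalCriterion

/-!
# The top homology of a complex of finite free modules is corepresentable

If `P` is a complex of finite free modules with `H_j(P ⊗ M) = 0` for all `j > N` and all `M`, then
`M ↦ H_N(P ⊗ M)` is `Hom(R, M)` for a finite module `R`.
-/

set_option autoImplicit false
set_option linter.style.haveILetI false
set_option linter.unusedSectionVars false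

universe u

open CategoryTheory CategoryTheory.Limits Opposite LinearMap
open scoped TensorProduct

namespace Groth.Agent.LeadBC

variable {A : Type u} [CommRing A]

/-- `Q ⊗ M → Hom(Q^∨, M)`. -/
noncomputable def αQ (Q : Type u) [AddCommGroup Q] [Module A Q] (M : Type u) [AddCommGroup M] [Module A M] :
    Q ⊗[A] M →ₗ[A] (Module.Dual A Q →ₗ[A] M) :=
  (dualTensorHom A (Module.Dual A Q) M) ∘ₗ (Module.Dual.eval A Q).rTensor M

theorem αQ_tmul {Q : Type u} [AddCommGroup Q] [Module A Q] {M : Type u} [AddCommGroup M] [Module A M]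
    (q : Q) (m : M) (φ : Module.Dual A Q) : αQ Q M (q ⊗ₜ m) φ = φ q • m := rfl

theorem αQ_natural {Q Q' M M' : Type u} [AddCommGroup Q] [Module A Q] [AddCommGroup Q'] [Module A Q']
    [AddCommGroup M] [Module A M] [AddCommGroup M'] [Module A M'] (f : Q →ₗ[A] Q') (g : M →ₗ[A] M')
    (z : Q ⊗[A] M) : αQ Q' M' (TensorProduct.map f g z) = g ∘ₗ αQ Q M z ∘ₗ f.dualMap := by
  induction z using TensorProduct.induction_on with
  | zero => simp
  | add a b ha hb => simp only [map_add, ha, hb, LinearMap.comp_add, LinearMap.add_comp]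
  | tmul q m =>
    ext φ
    rw [TensorProduct.map_tmul, αQ_tmul]
    show φ (f q) • g m = g ((αQ Q M (q ⊗ₜ m)) (f.dualMap φ))
    rw [αQ_tmul, map_smul, LinearMap.dualMap_apply]

theorem bijective_αQ (Q : Type u) [AddCommGroup Q] [Module A Q] [Module.Finite A Q] [Module.Projective A Q]
    (M : Type u) [AddCommGroup M] [Module A M] : Function.Bijective (αQ (A := A) Q M) :=
  dualTensorHom_bijective.comp
    (LinearEquiv.rTensor M (Module.evalEquiv A Q)).bijective

variable (P : ChainComplex (ModuleCat.{u} A) ℤ) (N : ℤ)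

/-- `P_N` modulo boundaries. -/
abbrev topQ : Type u := P.X N ⧸ LinearMap.range (P.d (N + 1) N).hom

/-- The differential on it. -/
noncomputable def topD : topQ P N →ₗ[A] P.X (N - 1) :=
  Submodule.liftQ _ (P.d N (N - 1)).hom (by
    rintro _ ⟨x, rfl⟩
    rw [LinearMap.mem_ker, ← LinearMap.comp_apply, H06FlatCx.d_comp_d]
    rfl)

theorem topD_mkQ : topD P N ∘ₗ Submodule.mkQ _ = (P.d N (N - 1)).hom := Submodule.liftQ_mkQ _ _ _

/-- The corepresenting module. -/
abbrev topR : Type u := Module.Dual A (topQ P N) ⧸ LinearMap.range (topD P N).dualMap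

variable {P N} (hP : ∀ i, Module.Finite A (P.X i) ∧ Module.Free A (P.X i))
  (hvan : ∀ M : ModuleCat.{u} A, Subsingleton ((CohIII.TFun P (N + 1)).obj M))

include hP hvan in
theorem finite_projective_topQ : Module.Finite A (topQ P N) ∧ Module.Projective A (topQ P N) := by
  haveI := (hP N).1
  haveI := (hP N).2
  haveI : Module.Flat A (P.X ((N + 1) - 1)) := by rw [add_sub_cancel_right]; infer_instance
  haveI : Module.Flat A (topQ P N) := (H06FlatCx.epi_iff_flat_cok P rfl).1
    (H06FlatCx.preservesEpi_of_forall_subsingleton P _ hvan)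
  haveI : Module.Finite A (P.X (N + 1)) := (hP (N + 1)).1
  haveI : Module.FinitePresentation A (P.X N) := Module.finitePresentation_of_projective A _
  haveI : Module.FinitePresentation A (topQ P N) := Module.finitePresentation_of_surjective (Submodule.mkQ _) (Submodule.mkQ_surjective _) (by rw [Submodule.ker_mkQ]; exact Module.Finite.iff_fg.1 (Module.Finite.range _))
  exact ⟨inferInstance, Module.Flat.projective_of_finitePresentation⟩

include hP hvan in
theorem finite_topR : Module.Finite A (topR P N) := by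
  haveI := (finite_projective_topQ hP hvan).1
  haveI := (finite_projective_topQ hP hvan).2
  infer_instance

include hP hvan in
theorem finitePresentation_topR : Module.FinitePresentation A (topR P N) := by
  haveI := (finite_projective_topQ hP hvan).1
  haveI := (finite_projective_topQ hP hvan).2
  haveI := (hP (N - 1)).1
  haveI := (hP (N - 1)).2
  haveI : Module.FinitePresentation A (Module.Dual A (topQ P N)) := Module.finitePresentation_of_projective A _
  exact Module.finitePresentation_of_surjective (Submodule.mkQ _) (Submodule.mkQ_surjective _)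
    (by rw [Submodule.ker_mkQ]; exact Module.Finite.iff_fg.1 (Module.Finite.range _))

/-- A cycle of `P ⊗ M` as a map on the dual. -/
noncomputable def topMap (M : ModuleCat.{u} A) :
    LinearMap.ker ((P.d N (N - 1)).hom.rTensor M) →ₗ[A] (Module.Dual A (topQ P N) →ₗ[A] M) :=
  αQ (topQ P N) M ∘ₗ (Submodule.mkQ _).rTensor M ∘ₗ Submodule.subtype _

theorem topMap_apply (M : ModuleCat.{u} A) (w : LinearMap.ker ((P.d N (N - 1)).hom.rTensor M)) :
    topMap M w = αQ (topQ P N) M ((Submodule.mkQ _).rTensor M w.1) := rfl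

theorem topMap_range_le (M : ModuleCat.{u} A) (w : LinearMap.ker ((P.d N (N - 1)).hom.rTensor M)) :
    LinearMap.range (topD P N).dualMap ≤ LinearMap.ker (topMap M w) := by
  rintro _ ⟨φ, rfl⟩
  have h := αQ_natural (topD P N) (LinearMap.id : (M : Type u) →ₗ[A] M) ((Submodule.mkQ _).rTensor M w.1)
  have h0 : TensorProduct.map (topD P N) LinearMap.id ((Submodule.mkQ _).rTensor M w.1) =
      (P.d N (N - 1)).hom.rTensor M w.1 := by
    show (topD P N).rTensor M _ = _
    rw [← rTensor_comp_apply, topD_mkQ]
  rw [h0, LinearMap.mem_ker.1 w.2, map_zero] at h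
  exact (LinearMap.congr_fun h φ).symm

/-- The comparison on cycles. -/
noncomputable def topG (M : ModuleCat.{u} A) :
    LinearMap.ker ((P.d N (N - 1)).hom.rTensor M) →ₗ[A] (topR P N →ₗ[A] M) where
  toFun w := Submodule.liftQ _ (topMap M w) (topMap_range_le M w)
  map_add' a b := Submodule.linearMap_qext _ (by
    rw [Submodule.liftQ_mkQ, LinearMap.add_comp, Submodule.liftQ_mkQ, Submodule.liftQ_mkQ, map_add])
  map_smul' r a := Submodule.linearMap_qext _ (by
    rw [Submodule.liftQ_mkQ, RingHom.id_apply, LinearMap.smul_comp, Submodule.liftQ_mkQ, map_smul])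

theorem topG_mk (M : ModuleCat.{u} A) (w : LinearMap.ker ((P.d N (N - 1)).hom.rTensor M))
    (φ : Module.Dual A (topQ P N)) :
    topG M w (Submodule.Quotient.mk φ) = αQ (topQ P N) M ((Submodule.mkQ _).rTensor M w.1) φ := rfl

include hP hvan in
theorem topG_spec (M : ModuleCat.{u} A) :
    Function.Surjective (topG (P := P) (N := N) M) ∧
      LinearMap.ker (topG (P := P) (N := N) M) =
        LinearMap.ker (H06FlatCx.tcls P (H06FlatCx.down_next N) M) := by
  haveI := (finite_projective_topQ hP hvan).1
  haveI := (finite_projective_topQ hP hvan).2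
  haveI := (hP (N - 1)).1
  haveI := (hP (N - 1)).2
  have hα := bijective_αQ (A := A) (topQ P N) M
  have hexact := rTensor_exact M (LinearMap.exact_map_mkQ_range (P.d (N + 1) N).hom) (Submodule.mkQ_surjective _)
  constructor
  · intro ψ
    obtain ⟨y, hy⟩ := hα.2 (ψ ∘ₗ Submodule.mkQ _)
    obtain ⟨w, rfl⟩ := LinearMap.rTensor_surjective M (Submodule.mkQ_surjective _) y
    have hw : (P.d N (N - 1)).hom.rTensor M w = 0 := by
      refine (bijective_αQ (A := A) (P.X (N - 1)) M).1 ?_
      rw [← topD_mkQ, rTensor_comp_apply, map_zero]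
      show αQ (P.X (N - 1)) M (TensorProduct.map (topD P N) LinearMap.id _) = 0
      rw [αQ_natural, hy]
      refine LinearMap.ext fun φ => ?_
      show ψ (Submodule.Quotient.mk ((topD P N).dualMap φ)) = 0
      rw [show (Submodule.Quotient.mk ((topD P N).dualMap φ) : topR P N) = 0 from
        (Submodule.Quotient.mk_eq_zero _).2 (LinearMap.mem_range_self _ φ), map_zero]
    exact ⟨⟨w, hw⟩, Submodule.linearMap_qext _ hy⟩
  · ext w
    rw [LinearMap.mem_ker, LinearMap.mem_ker, H06FlatCx.tcls_eq_zero_iff P (H06FlatCx.down_prev N)]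
    refine Iff.trans ?_ (hexact w.1)
    constructor
    · intro h
      refine hα.1 (LinearMap.ext fun φ => ?_)
      rw [map_zero, LinearMap.zero_apply, ← topG_mk, h, LinearMap.zero_apply]
    · intro h
      refine Submodule.linearMap_qext _ (LinearMap.ext fun φ => ?_)
      show αQ (topQ P N) M ((Submodule.mkQ _).rTensor M w.1) φ = 0
      rw [h, map_zero, LinearMap.zero_apply]

variable (P N) in
/-- `H_N(P ⊗ M) ≅ Hom(R, M)`. -/
noncomputable def topEquivHom (M : ModuleCat.{u} A) (hP : ∀ i, Module.Finite A (P.X i) ∧ Module.Free A (P.X i))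
    (hvan : ∀ M : ModuleCat.{u} A, Subsingleton ((CohIII.TFun P (N + 1)).obj M)) :
    (CohIII.TFun P N).obj M ≃ₗ[A] (topR P N →ₗ[A] M) :=
  ((H06FlatCx.tcls P (H06FlatCx.down_next N) M).quotKerEquivOfSurjective
      (H06FlatCx.tcls_surjective P _ M)).symm ≪≫ₗ
    Submodule.quotEquivOfEq _ _ (topG_spec hP hvan M).2.symm ≪≫ₗ
      (topG M).quotKerEquivOfSurjective (topG_spec hP hvan M).1

theorem topEquivHom_tcls (M : ModuleCat.{u} A) (w : LinearMap.ker ((P.d N (N - 1)).hom.rTensor M)) :
    topEquivHom P N M hP hvan (H06FlatCx.tcls P (H06FlatCx.down_next N) M w) = topG M w := by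
  simp only [topEquivHom, LinearEquiv.trans_apply]
  rw [show ((H06FlatCx.tcls P (H06FlatCx.down_next N) M).quotKerEquivOfSurjective
      (H06FlatCx.tcls_surjective P _ M)).symm (H06FlatCx.tcls P (H06FlatCx.down_next N) M w) =
      Submodule.Quotient.mk w from (LinearEquiv.symm_apply_eq _).2 rfl]
  rfl

include hP hvan in
theorem nonempty_corep :
    Nonempty (CohIII.TFun P N ≅ (linearCoyoneda A (ModuleCat.{u} A)).obj (op (ModuleCat.of A (topR P N)))) := by
  refine ⟨NatIso.ofComponents
    (fun M => (topEquivHom P N M hP hvan ≪≫ₗ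
      (ModuleCat.homLinearEquiv (R := A) (S := A) (M := ModuleCat.of A (topR P N)) (N := M)).symm).toModuleIso)
    fun {M M'} g => ?_⟩
  refine ModuleCat.hom_ext (LinearMap.ext fun t => ?_)
  obtain ⟨w, rfl⟩ := H06FlatCx.tcls_surjective P (H06FlatCx.down_next N) M t
  show ModuleCat.ofHom (topEquivHom P N M' hP hvan (((CohIII.TFun P N).map g).hom (H06FlatCx.tcls P _ M w))) =
    ModuleCat.ofHom (topEquivHom P N M hP hvan (H06FlatCx.tcls P _ M w)) ≫ g
  rw [H06FlatCx.map_tcls, topEquivHom_tcls, topEquivHom_tcls]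
  refine ModuleCat.hom_ext (Submodule.linearMap_qext _ (LinearMap.ext fun φ => ?_))
  show topG M' _ (Submodule.Quotient.mk φ) = g.hom (topG M w (Submodule.Quotient.mk φ))
  rw [topG_mk, topG_mk]
  have h := αQ_natural (LinearMap.id : topQ P N →ₗ[A] topQ P N) g.hom
    ((Submodule.mkQ (LinearMap.range (P.d (N + 1) N).hom)).rTensor M w.1)
  have hz : ∀ z : P.X N ⊗[A] M, (Submodule.mkQ (LinearMap.range (P.d (N + 1) N).hom)).rTensor M'
      (g.hom.lTensor (P.X N) z) = TensorProduct.map LinearMap.id g.hom
        ((Submodule.mkQ (LinearMap.range (P.d (N + 1) N).hom)).rTensor M z) := fun z => by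
    induction z using TensorProduct.induction_on with
    | zero => simp
    | add a b ha hb => simp only [map_add, ha, hb]
    | tmul a b => simp
  show αQ (topQ P N) M' ((Submodule.mkQ _).rTensor M' (g.hom.lTensor (P.X N) w.1)) φ = _
  rw [hz, h]
  rfl

end Groth.Agent.LeadBC
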