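import Groth.Agent.LeadBC.CxBaseChange
import Groth.Agent.LeadBC.Apps

/-!
# Exchange properties pass to base changes
-/

set_option autoImplicit false
set_option linter.style.haveILetI false
set_option linter.unusedSectionVars false

universe u

open AlgebraicGeometry CategoryTheory CategoryTheory.Limits TopologicalSpace Opposite MonoidalCategory

namespace Groth.Agent.LeadBC

open Groth.Agent.LeadFF

variable {A : Type u} [CommRing A]

/-- Isomorphic complexes have isomorphic functors `M ↦ H(P ⊗ M)`. -/
noncomputable def tfunCongr {P Q : ChainComplex (ModuleCat.{u} A) ℤ} (e : P ≅ Q) (j : ℤ) :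
    CohIII.TFun P j ≅ CohIII.TFun Q j :=
  NatIso.ofComponents
    (fun M => HomologicalComplex.homologyMapIso (((tensorRight M).mapHomologicalComplex _).mapIso e) j)
    (fun {M M'} g => by
      show HomologicalComplex.homologyMap (CohIII.tensorMap P g) j ≫
          HomologicalComplex.homologyMap (tensorφ A e.hom M') j =
        HomologicalComplex.homologyMap (tensorφ A e.hom M) j ≫
          HomologicalComplex.homologyMap (CohIII.tensorMap Q g) j
      rw [← HomologicalComplex.homologyMap_comp, tensorφ_natural, HomologicalComplex.homologyMap_comp])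

variable {X : Scheme.{u}} [X.Over (Spec (CommRingCat.of A))] {F : X.Modules} [F.IsQuasicoherent]
  {ι : Type u} [Finite ι] {U : ι → X.Opens}

/-- The functor of a shifted Čech complex. -/
noncomputable def kdIso (hU : GoodCover U) (N p : ℕ) {j : ℤ} (hj : (embN N).f p = j) :
    CohIII.TFun (KD U F N (A := A)) j ≅ CohIII.tensorAFunctor A F ⋙ HMod A p :=
  NatIso.ofComponents (fun M => eKD F hU N p hj M) fun g => eKD_natural F hU N p hj g

theorem preservesEpi_mono_baseChange (hU : GoodCover U)
    (hfl : FlatMod.IsFlatOver (X ↘ Spec (CommRingCat.of A)) F)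
    {S : Type u} [CommRing S] (φ : A →+* S) {X' : Scheme.{u}} [X'.Over (Spec (CommRingCat.of S))] {q : X' ⟶ X}
    (hsq : IsPullback q (X' ↘ Spec (CommRingCat.of S)) (X ↘ Spec (CommRingCat.of A))
      (Spec.map (CommRingCat.ofHom φ))) (p : ℕ) :
    ((CohIII.tensorAFunctor A F ⋙ CohIII.HAb X p).PreservesEpimorphisms →
        (CohIII.tensorAFunctor S (qF q F) ⋙ CohIII.HAb X' p).PreservesEpimorphisms) ∧
      ((CohIII.tensorAFunctor A F ⋙ CohIII.HAb X p).PreservesMonomorphisms →
        (CohIII.tensorAFunctor S (qF q F) ⋙ CohIII.HAb X' p).PreservesMonomorphisms) := by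
  have hU' : GoodCover (preU q U) := by
    letI := φ.toAlgebra
    exact goodCover_preU S q hsq U hU
  let j : ℤ := ((0 : ℕ) : ℤ) - p
  have hj : (embN 0).f p = j := rfl
  haveI : ∀ i, Module.Flat A ((KD U F 0 (A := A)).X i) := fun i => flat_KD F hU hfl 0 i
  let e' := (tfunCongr (δDIso φ hsq F hU 0) j) ≪≫ kdIso (A := S) (F := qF q F) hU' 0 p hj
  exact ⟨fun h => (preservesEpi_iff e').2
      (H06FlatCx.bcCx_preservesEpi_of _ φ (H06FlatCx.down_prev j) (H06FlatCx.down_next j)
        ((preservesEpi_iff (kdIso hU 0 p hj)).1 h)),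
    fun h => (preservesMono_iff e').2
      (H06FlatCx.bcCx_preservesMono_of _ φ (H06FlatCx.down_prev j) (H06FlatCx.down_next j)
        ((preservesMono_iff (kdIso hU 0 p hj)).1 h))⟩

end Groth.Agent.LeadBC
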