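import Groth.Agent.LeadBC.Seesaw
import Groth.Prelude.Def_CohBC2

/-!
# Base change to a point for modules generated from the base
-/

set_option autoImplicit false
set_option linter.style.haveILetI false
set_option linter.unusedSectionVars false

universe u

open CategoryTheory CategoryTheory.Limits AlgebraicGeometry Opposite TopologicalSpace
open scoped TensorProduct

namespace Groth.Agent.LeadBC.Seesaw

open Groth.Agent.H11Tilde Groth.Agent.LeadBC.GenBC Groth.Agent.H10Coh

attribute [local instance 10000] H10Coh.hasSheafifyAb H10Coh.hasWeakSheafifyAb H10Coh.hasExtAb H10Coh.enoughInjAb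

variable {X S : Scheme.{u}} (f : X ⟶ S)

theorem bc0Adj_eq {X' S' : Scheme.{u}} {g : S' ⟶ S} {g' : X' ⟶ X} {f' : X' ⟶ S'} (h : IsPullback g' f' f g)
    (L : X.Modules) : CohBC.bc0Adj f g f' g' h.w L = GenBC.τ₀ f L h := by
  simp only [CohBC.bc0Adj, GenBC.τ₀, FBC.τPush, Iso.trans_hom, NatTrans.comp_app, Iso.symm_hom]

/-- If a section over a neighbourhood generates, base change to a fibre with only constants is onto. -/
theorem epi_bc0_of_gen (L : X.Modules) [L.IsQuasicoherent] [IsProper f] {s : S}
    (hK : IsIso (f.fiberToSpecResidueField s).appTop)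
    {V₀ : S.Opens} (hs₀ : s ∈ V₀) {t₀ : Γ(L, f ⁻¹ᵁ V₀)} (ht₀ : IsGen L t₀) :
    Epi (CohBC.bc0 f (S.fromSpecResidueField s) (f.fiberToSpecResidueField s) (f.fiberι s) (f.fiber_fac s) L) := by
  have hsq : IsPullback (f.fiberι s) (f.fiberToSpecResidueField s) f (S.fromSpecResidueField s) :=
    IsPullback.of_hasPullback f (S.fromSpecResidueField s)
  show Epi (((Scheme.Modules.pullbackPushforwardAdjunction (S.fromSpecResidueField s)).homEquiv _ _).symm
    (CohBC.bc0Adj f (S.fromSpecResidueField s) (f.fiberToSpecResidueField s) (f.fiberι s) hsq.w L))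
  rw [bc0Adj_eq f hsq L]
  haveI : Subsingleton (Spec (S.residueField s)) := inferInstanceAs (Subsingleton (PrimeSpectrum (S.residueField s)))
  haveI : Nonempty (Spec (S.residueField s)) := inferInstanceAs (Nonempty (PrimeSpectrum (S.residueField s)))
  obtain ⟨V, hV, hs, hVV⟩ := exists_isAffineOpen_mem_and_subset (U := V₀) (x := s) hs₀
  have hle : (⊤ : (Spec (S.residueField s)).Opens) ≤ S.fromSpecResidueField s ⁻¹ᵁ V := fun z _ => by
    show S.fromSpecResidueField s z ∈ V
    rw [Scheme.fromSpecResidueField_apply]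
    exact hs
  let t : Γ(L, f ⁻¹ᵁ V) := L.presheaf.map (homOfLE (f.preimage_mono hVV)).op t₀
  have ht : IsGen L t := ht₀.res (f.preimage_mono hVV)
  letI := ((S.fromSpecResidueField s).appLE V ⊤ hle).hom.toAlgebra
  letI := Module.compHom Γ((Scheme.Modules.pushforward (f.fiberToSpecResidueField s)).obj
      ((Scheme.Modules.pullback (f.fiberι s)).obj L), ⊤)
    ((S.fromSpecResidueField s).appLE V ⊤ hle).hom
  haveI : IsScalarTower Γ(S, V) Γ(Spec (S.residueField s), ⊤)
      Γ((Scheme.Modules.pushforward (f.fiberToSpecResidueField s)).obj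
        ((Scheme.Modules.pullback (f.fiberι s)).obj L), ⊤) := .of_algebraMap_smul fun _ _ => rfl
  obtain ⟨c, -, hcf⟩ := exists_transpose_app (S.fromSpecResidueField s)
    (H10Coh.isQuasicoherent_pushforward f L) (GenBC.τ₀ f L hsq) hV (isAffineOpen_top _) hle
  refine (epi_iff_surjective_top _).2 fun y => ?_
  obtain ⟨a, ha⟩ := ((ht.pullSect (f.fiberι s)).bijective (preimage_le f hsq hle)).2 y
  obtain ⟨r, rfl⟩ := (ConcreteCategory.bijective_of_isIso (f.fiberToSpecResidueField s).appTop).2 a
  refine ⟨c (r ⊗ₜ[Γ(S, V)] (show Γ((Scheme.Modules.pushforward f).obj L, V) from t)), ?_⟩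
  refine (congrFun hcf _).symm.trans (Eq.trans ?_ ha)
  rw [LinearMap.liftBaseChange_tmul]
  exact congrArg (r • ·) (locLin_τ₀ f L hsq hle (preimage_le f hsq hle) t)

/-- If `O_S = f_* O_X`, an invertible module is the direct image of its inverse image. -/
theorem nonempty_iso_push_pull (hf : ∀ U : S.Opens, IsIso (f.app U)) {L₀ : S.Modules}
    (hL₀ : PicF.IsInvertible L₀) :
    Nonempty (L₀ ≅ (Scheme.Modules.pushforward f).obj ((Scheme.Modules.pullback f).obj L₀)) := by
  haveI : IsIso ((Scheme.Modules.pullbackPushforwardAdjunction f).unit.app L₀) := isIso_of_gen _ fun s => by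
    obtain ⟨V, e, hs, he⟩ := H11Ample.exists_gen hL₀ s
    refine ⟨V, e, hs, he, isGen_of_bijective fun W hW => ?_⟩
    haveI := hf W
    exact ((he.pullSect f).bijective (f.preimage_mono hW)).comp (ConcreteCategory.bijective_of_isIso (f.app W))
  exact ⟨asIso ((Scheme.Modules.pullbackPushforwardAdjunction f).unit.app L₀)⟩

end Groth.Agent.LeadBC.Seesaw
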