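import Groth.Agent.LeadBC.EtaleFibre2
import Groth.Agent.H8Props.FinLocFree.Sheaf
import Groth.Agent.H24GE.PushLim
import Groth.Agent.H10Coh.FlatBC.FlatSheaf
import Groth.Agent.H16Derived.KFlat.StalkTensor

/-!
# Local freeness of `f_* O_X` at points with étale fibre functions
-/

set_option autoImplicit false
set_option linter.style.haveILetI false
set_option linter.unusedSectionVars false

noncomputable section

universe u

open CategoryTheory CategoryTheory.Limits AlgebraicGeometry Opposite TopologicalSpace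
open scoped TensorProduct
open Groth.Agent.LeadFF

namespace Groth.Agent.LeadBC.Et

attribute [local instance 10000] H10Coh.hasSheafifyAb H10Coh.hasWeakSheafifyAb H10Coh.hasExtAb H10Coh.enoughInjAb

theorem appLE_spec_fromSpec {Y : Scheme.{u}} {V : Y.Opens} (hV : IsAffineOpen V) {R : CommRingCat.{u}}
    (φ : Γ(Y, V) ⟶ R) (e : (⊤ : (Spec R).Opens) ≤ (Spec.map φ ≫ hV.fromSpec) ⁻¹ᵁ V) :
    (Spec.map φ ≫ hV.fromSpec).appLE V ⊤ e = φ ≫ (Scheme.ΓSpecIso R).inv := by
  apply Spec.map_injective
  rw [← cancel_mono hV.fromSpec, IsAffineOpen.SpecMap_appLE_fromSpec _ hV (isAffineOpen_top _) e,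
    Spec.map_comp, Category.assoc, IsAffineOpen.fromSpec_top, Scheme.isoSpec_Spec_inv]

/-- Étaleness of the functions of a fibre, after a base change not changing the residue field. -/
theorem etale_fibre_baseChange {X Y X' Y' : Scheme.{u}} {f : X ⟶ Y} {g : Y' ⟶ Y} {g' : X' ⟶ X} {f' : X' ⟶ Y'}
    (hsq : IsPullback g' f' f g) [IsPreimmersion g] (y' : Y')
    [het : Algebra.Etale (Y.residueField (g y')) Γ(f.fiber (g y'), ⊤)] :
    Algebra.Etale (Y'.residueField y') Γ(f'.fiber y', ⊤) := by
  let r := g.residueFieldMap y'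
  haveI : IsIso r := by
    rw [ConcreteCategory.isIso_iff_bijective]
    refine ⟨RingHom.injective r.hom, fun z => ?_⟩
    obtain ⟨z, rfl⟩ := IsLocalRing.residue_surjective z
    obtain ⟨w, rfl⟩ := g.stalkMap_surjective y' z
    exact ⟨Y.residue (g y') w, congr($(Scheme.residue_residueFieldMap g y') w)⟩
  have hpb : IsPullback (f'.fiberι y' ≫ g') (f'.fiberToSpecResidueField y') f
      (Spec.map r ≫ Y.fromSpecResidueField (g y')) := by
    rw [Scheme.Hom.SpecMap_residueFieldMap_fromSpecResidueField]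
    exact IsPullback.paste_horiz (IsPullback.of_hasPullback f' (Y'.fromSpecResidueField y')) hsq
  let j : f'.fiber y' ⟶ f.fiber (g y') := pullback.lift (f'.fiberι y' ≫ g')
    (f'.fiberToSpecResidueField y' ≫ Spec.map r) (by rw [Category.assoc]; exact hpb.w)
  have hj : IsPullback j (f'.fiberToSpecResidueField y') (f.fiberToSpecResidueField (g y')) (Spec.map r) := by
    refine IsPullback.of_right ?_ (pullback.lift_snd _ _ _) (IsPullback.of_hasPullback f (Y.fromSpecResidueField (g y')))
    erw [pullback.lift_fst]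
    exact hpb
  haveI : IsIso j := hj.isIso_fst_of_isIso
  have hcomp : (algebraMap (Y'.residueField y') Γ(f'.fiber y', ⊤)).comp r.hom =
      j.appTop.hom.comp (algebraMap (Y.residueField (g y')) Γ(f.fiber (g y'), ⊤)) := by
    have h1 := congrArg Scheme.Hom.appTop hj.w
    rw [Scheme.Hom.comp_appTop, Scheme.Hom.comp_appTop] at h1
    have h2 : r ≫ (Scheme.ΓSpecIso _).inv ≫ (f'.fiberToSpecResidueField y').appTop =
        (Scheme.ΓSpecIso _).inv ≫ (f.fiberToSpecResidueField (g y')).appTop ≫ j.appTop := by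
      rw [h1, ← Category.assoc, ← Category.assoc, Scheme.ΓSpecIso_inv_naturality]
    exact congrArg CommRingCat.Hom.hom h2
  haveI : IsIso j.appTop := inferInstanceAs (IsIso (j.app ⊤))
  rw [← RingHom.etale_algebraMap]
  let er : Y.residueField (g y') ≃+* Y'.residueField y' := (asIso r).commRingCatIsoToRingEquiv
  have h3 : algebraMap (Y'.residueField y') Γ(f'.fiber y', ⊤) =
      ((asIso j.appTop).commRingCatIsoToRingEquiv.toRingHom.comp
        (algebraMap (Y.residueField (g y')) Γ(f.fiber (g y'), ⊤))).comp er.symm.toRingHom := RingHom.ext fun c => by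
    obtain ⟨d, rfl⟩ := er.surjective c
    show algebraMap (Y'.residueField y') Γ(f'.fiber y', ⊤) (r.hom d) =
      j.appTop.hom (algebraMap _ _ (er.symm (er d)))
    rw [RingEquiv.symm_apply_apply]
    exact RingHom.congr_fun hcomp d
  rw [h3]
  exact RingHom.Etale.respectsIso.2 _ _ (RingHom.Etale.respectsIso.1 _ _ (RingHom.etale_algebraMap.2 het))

theorem projective_of_corep {K : Type u} [CommRing K] (T : ModuleCat.{u} K ⥤ ModuleCat.{u} K) {Q : ModuleCat.{u} K}
    (e : T ≅ (linearCoyoneda K (ModuleCat.{u} K)).obj (op Q))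
    (hT : ∀ {M N : ModuleCat.{u} K} (g : M ⟶ N), Epi g → Function.Surjective (T.map g).hom) :
    Module.Projective K Q :=
  Module.Projective.of_lifting_property fun {M N} _ _ _ _ g ψ hg => by
    obtain ⟨t, ht⟩ := hT (ModuleCat.ofHom g) ((ModuleCat.epi_iff_surjective _).2 hg)
      ((e.inv.app (ModuleCat.of K N)).hom (show Q ⟶ ModuleCat.of K N from ModuleCat.ofHom ψ))
    refine ⟨((e.hom.app (ModuleCat.of K M)).hom t).hom, ?_⟩
    have h1 := ConcreteCategory.congr_hom (e.hom.naturality (ModuleCat.ofHom g)) t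
    have h2 : (e.hom.app (ModuleCat.of K N)).hom ((T.map (ModuleCat.ofHom g)).hom t) = (show Q ⟶ ModuleCat.of K N from ModuleCat.ofHom ψ) := by
      rw [ht]
      exact ConcreteCategory.congr_hom (e.inv_hom_id_app (ModuleCat.of K N)) (show Q ⟶ ModuleCat.of K N from ModuleCat.ofHom ψ)
    exact congrArg ModuleCat.Hom.hom (h1.symm.trans h2)

section Local

variable (K : Type u) [CommRing K] (X : Scheme.{u}) [X.Over (Spec (CommRingCat.of K))]

theorem surjective_map_of_natIso {C : Type*} [Category C] {F G : C ⥤ ModuleCat.{u} K} (α : F ≅ G) {M N : C}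
    (g : M ⟶ N) (h : Function.Surjective (F.map g).hom) : Function.Surjective (G.map g).hom := by
  intro z
  obtain ⟨t, ht⟩ := h ((α.inv.app N).hom z)
  refine ⟨(α.hom.app M).hom t, (ConcreteCategory.congr_hom (α.hom.naturality g) t).symm.trans ?_⟩
  exact (congrArg (α.hom.app N).hom ht).trans (ConcreteCategory.congr_hom (α.inv_hom_id_app N) z)

theorem surjective_gs_of_preservesEpi {F : X.Modules}
    (hE : (CohIII.tensorAFunctor K F ⋙ CohIII.HAb X 0).PreservesEpimorphisms) {M N : ModuleCat.{u} K}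
    (g : M ⟶ N) (hg : Epi g) :
    Function.Surjective ((CohIII.tensorAFunctor K F ⋙ CohIII.globalSectionsA K).map g).hom := by
  have h0 : Function.Surjective ((CohIII.tensorAFunctor K F ⋙ HMod K 0).map g).hom := fun z => by
    haveI := hg
    obtain ⟨t, ht⟩ := (AddCommGrpCat.epi_iff_surjective _).1 (hE.preserves g) z
    exact ⟨t, (hab_map_apply g t).symm.trans ht⟩
  exact surjective_map_of_natIso (F := CohIII.tensorAFunctor K F ⋙ HMod K 0) K
    (Functor.isoWhiskerLeft (CohIII.tensorAFunctor K F) (globalSectionsIso (A := K) (X := X))) g h0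

variable [IsNoetherianRing K] [IsLocalRing K] [IsProper (X ↘ Spec (CommRingCat.of K))]
  [Flat (X ↘ Spec (CommRingCat.of K))]

/-- Global sections are finite free over a local base when the fibre functions are étale. -/
theorem free_globalSections (y : ↥(Spec (CommRingCat.of K))) (hy : y.asIdeal = IsLocalRing.maximalIdeal K)
    [Algebra.Etale ((Spec (CommRingCat.of K)).residueField y) Γ((X ↘ Spec (CommRingCat.of K)).fiber y, ⊤)] :
    Module.Free K ((CohIII.globalSectionsA K).obj (Coh.structureModule X)) := by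
  haveI : IsLocallyNoetherian X := LocallyOfFiniteType.isLocallyNoetherian (X ↘ Spec (CommRingCat.of K))
  obtain ⟨Q, hQ, ⟨e⟩⟩ := exists_corep (Coh.structureModule X) (H10Coh.isCoh_structureModule' X)
    (isFlatOver_structureModule (X ↘ Spec (CommRingCat.of K)))
  haveI : Module.Projective K Q :=
    projective_of_corep (CohIII.tensorAFunctor K (Coh.structureModule X) ⋙ CohIII.globalSectionsA K) e
      fun g hg => surjective_gs_of_preservesEpi K X (preserves_zero K X y hy).2 g hg
  haveI : Module.Free K Q := Module.free_of_flat_of_isLocalRing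
  haveI : Module.Finite K (Q →ₗ[K] K) := inferInstance
  haveI : Module.Free K (Q →ₗ[K] K) := inferInstance
  haveI : Module.Free K (Q ⟶ ModuleCat.of K K) := Module.Free.of_equiv ModuleCat.homLinearEquiv.symm
  haveI : Module.Free K ((linearCoyoneda K (ModuleCat.{u} K)).obj (op Q) |>.obj (ModuleCat.of K K)) :=
    inferInstanceAs (Module.Free K (Q ⟶ ModuleCat.of K K))
  haveI : IsIso (uMap K (Coh.structureModule X) (ModuleCat.of K K) (1 : K)) :=
    isIso_uMap_one K (Coh.structureModule X)
  exact Module.Free.of_equiv (((CohIII.globalSectionsA K).mapIso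
      (asIso (uMap K (Coh.structureModule X) (ModuleCat.of K K) (1 : K))) ≪≫ e.app (ModuleCat.of K K))).toLinearEquiv.symm

end Local

set_option maxHeartbeats 800000 in
theorem exists_free_nhd {X Y : Scheme.{u}} (f : X ⟶ Y) [IsProper f] [Flat f] [IsLocallyNoetherian Y] (y : Y)
    (het : Algebra.Etale (Y.residueField y) Γ(f.fiber y, ⊤)) :
    ∃ (U : Y.Opens) (m : ℕ), y ∈ U ∧
      Nonempty (((Coh.push f).obj (Coh.structureModule X)).restrict U.ι ≅ FlatMod.freeMod (↑U) m) := by
  haveI : IsLocallyNoetherian X := LocallyOfFiniteType.isLocallyNoetherian f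
  obtain ⟨V, hV, hyV, -⟩ := exists_isAffineOpen_mem_and_subset (U := (⊤ : Y.Opens)) (x := y) trivial
  let R := Γ(Y, V)
  haveI : IsNoetherianRing R := IsLocallyNoetherian.component_noetherian ⟨V, hV⟩
  let p := hV.primeIdealOf ⟨y, hyV⟩
  let K := Localization.AtPrime p.asIdeal
  haveI : IsNoetherianRing K := IsLocalization.isNoetherianRing p.asIdeal.primeCompl K inferInstance
  let gS : Spec (CommRingCat.of K) ⟶ Y := Spec.map (CommRingCat.ofHom (algebraMap R K)) ≫ hV.fromSpec
  let X₁ := pullback f gS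
  let g' : X₁ ⟶ X := pullback.fst f gS
  let π : X₁ ⟶ Spec (CommRingCat.of K) := pullback.snd f gS
  letI : X₁.Over (Spec (CommRingCat.of K)) := ⟨π⟩
  have hsq : IsPullback g' π f gS := IsPullback.of_hasPullback _ _
  haveI : IsProper (X₁ ↘ Spec (CommRingCat.of K)) := MorphismProperty.of_isPullback hsq ‹IsProper f›
  haveI : Flat (X₁ ↘ Spec (CommRingCat.of K)) := MorphismProperty.of_isPullback (P := @Flat) hsq ‹Flat f›
  haveI : Flat (Spec.map (CommRingCat.ofHom (algebraMap R K))) :=
    Flat.SpecMap_iff.2 (RingHom.flat_algebraMap_iff.2 (IsLocalization.flat K p.asIdeal.primeCompl))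
  haveI : IsPreimmersion (Spec.map (CommRingCat.ofHom (algebraMap R K))) := .of_isLocalization p.asIdeal.primeCompl
  haveI : Flat gS := inferInstanceAs (Flat (_ ≫ hV.fromSpec))
  haveI : Flat g' := MorphismProperty.of_isPullback (P := @Flat) hsq.flip inferInstance
  let y₀ : ↥(Spec (CommRingCat.of K)) := IsLocalRing.closedPoint K
  have hgy : gS y₀ = y := by
    show hV.fromSpec (Spec.map (CommRingCat.ofHom (algebraMap R K)) y₀) = y
    rw [show Spec.map (CommRingCat.ofHom (algebraMap R K)) y₀ = p from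
      PrimeSpectrum.ext (IsLocalization.AtPrime.comap_maximalIdeal K p.asIdeal)]
    exact hV.fromSpec_primeIdealOf ⟨y, hyV⟩
  haveI : Algebra.Etale (Y.residueField (gS y₀)) Γ(f.fiber (gS y₀), ⊤) := by rw [hgy]; exact het
  haveI : Algebra.Etale ((Spec (CommRingCat.of K)).residueField y₀) Γ((X₁ ↘ Spec (CommRingCat.of K)).fiber y₀, ⊤) :=
    etale_fibre_baseChange hsq y₀
  haveI := free_globalSections K X₁ y₀ rfl
  let L := Coh.structureModule X
  let L₁ := (Scheme.Modules.pullback g').obj L
  haveI hfree : Module.Free K ((CohIII.globalSectionsA K).obj L₁) :=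
    Module.Free.of_equiv ((CohIII.globalSectionsA K).mapIso
      (H16Derived.KFlat.Stalk.structurePullbackIso g').symm).toLinearEquiv
  have hle : (⊤ : (Spec (CommRingCat.of K)).Opens) ≤ gS ⁻¹ᵁ V := fun z _ => by
    show hV.fromSpec (Spec.map (CommRingCat.ofHom (algebraMap R K)) z) ∈ V
    rw [← SetLike.mem_coe, ← hV.range_fromSpec]
    exact ⟨_, rfl⟩
  haveI : L.IsQuasicoherent := H10Coh.isQuasicoherent_unit
  haveI : ∀ k, Injective ((H10Coh.MRes.inj L₁).I k) := fun k => H10Coh.injective_mI _ k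
  have hbc := H10Coh.FBC.bijective_locLin_zero hsq
    (H10Coh.FBC.gres (g' := g') (H10Coh.MRes.inj L) (H10Coh.MRes.inj L₁) L rfl rfl)
    H10Coh.isQuasicoherent_unit hle hV (isAffineOpen_top _)
  let A' := Γ(Spec (CommRingCat.of K), (⊤ : (Spec (CommRingCat.of K)).Opens))
  let φ : R →+* A' := (gS.appLE V ⊤ hle).hom
  letI := φ.toAlgebra
  let P := Γ((Scheme.Modules.pushforward π).obj ((H10Coh.MRes.inj L₁).Z 0), ⊤)
  letI : Module R P := Module.compHom _ φ
  haveI : IsScalarTower R A' P := .of_algebraMap_smul fun _ _ => rfl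
  let M := Γ((Scheme.Modules.pushforward f).obj L, V)
  have hφ : φ = ((Scheme.ΓSpecIso (CommRingCat.of K)).inv.hom).comp (algebraMap R K) :=
    congrArg CommRingCat.Hom.hom (appLE_spec_fromSpec hV (CommRingCat.ofHom (algebraMap R K)) hle)
  let σ : K ≃ₗ[R] A' := LinearEquiv.ofBijective
    { toFun := (Scheme.ΓSpecIso (CommRingCat.of K)).inv.hom
      map_add' := map_add _
      map_smul' := fun r c => by
        show (Scheme.ΓSpecIso (CommRingCat.of K)).inv.hom (r • c) = φ r * (Scheme.ΓSpecIso (CommRingCat.of K)).inv.hom c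
        rw [hφ, Algebra.smul_def, map_mul]
        rfl }
    (ConcreteCategory.bijective_of_isIso (Scheme.ΓSpecIso (CommRingCat.of K)).inv)
  let ℓ := LinearMap.liftBaseChange A' (H10Coh.FBC.locLin gS (H10Coh.FBC.τPush hsq
    ((H10Coh.FBC.gres (g' := g') (H10Coh.MRes.inj L) (H10Coh.MRes.inj L₁) L rfl rfl).α 0)) hle)
  let Ψ : K ⊗[R] M →+ ((CohIII.globalSectionsA K).obj L₁) :=
    (show A' ⊗[R] M →+ ((CohIII.globalSectionsA K).obj L₁) from ℓ.toAddMonoidHom).comp
      (TensorProduct.congr σ (LinearEquiv.refl R M)).toAddMonoidHom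
  have hΨb : Function.Bijective Ψ := hbc.comp (TensorProduct.congr σ (LinearEquiv.refl R M)).bijective
  have hΨs : ∀ (c : K) (z : K ⊗[R] M), Ψ (c • z) = c • Ψ z := by
    intro c z
    induction z using TensorProduct.induction_on with
    | zero => rw [smul_zero, map_zero, smul_zero]
    | add a b ha hb => rw [smul_add, map_add, ha, hb, map_add, smul_add]
    | tmul d m =>
      refine Eq.trans ?_ (gsA_smul (R := CommRingCat.of K) π L₁ c _).symm
      show ℓ (σ (c * d) ⊗ₜ m) = (show P from scG π ⊤ c • (show Γ(L₁, ⊤) from ℓ (σ d ⊗ₜ m)))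
      refine ((congrArg ℓ (show σ (c * d) ⊗ₜ[R] m = (σ c : A') • ((σ d : A') ⊗ₜ[R] m) from
        (congrArg (fun z : A' => z ⊗ₜ[R] m) (map_mul (Scheme.ΓSpecIso (CommRingCat.of K)).inv.hom c d)).trans
          (TensorProduct.smul_tmul' (σ c) (σ d) m).symm)).trans (map_smul ℓ (σ c) _)).trans ?_
      exact congrArg (fun z : Γ(X₁, π ⁻¹ᵁ ⊤) => z • (show Γ(L₁, π ⁻¹ᵁ ⊤) from ℓ (σ d ⊗ₜ m))) (scG_top π c).symm
  haveI : Module.Free K (K ⊗[R] M) :=
    Module.Free.of_equiv (LinearEquiv.ofBijective ({ toFun := Ψ, map_add' := map_add Ψ, map_smul' := hΨs } :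
      K ⊗[R] M →ₗ[K] ((CohIII.globalSectionsA K).obj L₁)) hΨb).symm
  haveI : Module.Free K (LocalizedModule p.asIdeal.primeCompl M) :=
    Module.Free.of_equiv (LocalizedModule.equivTensorProduct p.asIdeal.primeCompl M).symm
  have hcoh : Coh.IsCoh ((Scheme.Modules.pushforward f).obj L) :=
    H24GE.isCoh_pushforward f (H10Coh.isCoh_structureModule' X)
  haveI : ((Scheme.Modules.pushforward f).obj L).IsQuasicoherent := hcoh.1
  haveI : Module.Finite R M := H10Coh.finite_sections _ hcoh.2 hV
  haveI : Module.FinitePresentation R M := Module.finitePresentation_of_finite R M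
  obtain ⟨a, k, m, ha, hs, hi⟩ := H8Props.FinLocFree.exists_basis_upTo (R := R) (M := M) p.asIdeal
  haveI := H8Props.FinLocFree.isIso_basicHom ((Scheme.Modules.pushforward f).obj L) hcoh.1 hV a m hs hi
  refine ⟨Y.basicOpen a, k, ?_, ⟨(asIso (H29Fitt.basicHom ((Scheme.Modules.pushforward f).obj L) a m)).symm⟩⟩
  exact (Y.mem_basicOpen a y hyV).2 ((H29Blow.mem_primeIdealOf_iff hV ⟨y, hyV⟩ a).not_left.1 ha)

end Groth.Agent.LeadBC.Et
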