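import Groth.Agent.H10Coh.TensorTilde
import Groth.Agent.H29Fitt.Sheaf
import Groth.Agent.H29Blow.PointsOfAffine
import Groth.Agent.H8Props.RelFP.PullSections
import Mathlib.RingTheory.Localization.BaseChange

/-!
# Sections of a tensor product over an affine open

For quasi-coherent `F`, `G` and an affine open `U`, `Γ(F, U) ⊗ Γ(G, U) → Γ(F ⊗ G, U)` is bijective.
-/

set_option autoImplicit false
set_option linter.style.haveILetI false
set_option linter.unusedSectionVars false

universe u

open AlgebraicGeometry CategoryTheory TopologicalSpace Opposite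
open Groth.Agent.H11Ample
open scoped TensorProduct

namespace Groth.Agent.LeadBC

variable {X : Scheme.{u}} (F G : X.Modules) (U : X.Opens)

/-- The multiplication of sections. -/
noncomputable def mulSect : Γ(F, U) ⊗[Γ(X, U)] Γ(G, U) →ₗ[Γ(X, U)] Γ(CohB1.tensorMod F G, U) :=
  TensorProduct.lift (LinearMap.mk₂ Γ(X, U) (fun m n => tm m n) tm_add_left tm_smul_left tm_add_right
    tm_smul_right)

theorem mulSect_tmul (m : Γ(F, U)) (n : Γ(G, U)) : mulSect F G U (m ⊗ₜ n) = tm m n :=
  TensorProduct.lift.tmul _ _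

theorem bijective_mulSect [F.IsQuasicoherent] [G.IsQuasicoherent] (hU : IsAffineOpen U) :
    Function.Bijective (mulSect F G U) := by
  haveI hT : (CohB1.tensorMod F G).IsQuasicoherent := H10Coh.TT.isQCoh_tensorMod F G
  refine H8Props.PullSections.bijective_of_localizations (mulSect F G U) fun P _ => ?_
  obtain ⟨x, hx⟩ := H29Blow.exists_primeIdealOf_eq hU ⟨P, inferInstance⟩
  have hP : (hU.primeIdealOf x).asIdeal = P := by rw [hx]
  subst hP
  let S := (hU.primeIdealOf x).asIdeal.primeCompl
  let O := X.presheaf.stalk x.1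
  letI : Algebra Γ(X, U) O := TopCat.Presheaf.algebra_section_stalk X.presheaf x
  letI : Module Γ(X, U) (F.presheaf.stalk x.1) := Module.compHom _ (algebraMap Γ(X, U) O)
  letI : Module Γ(X, U) (G.presheaf.stalk x.1) := Module.compHom _ (algebraMap Γ(X, U) O)
  letI : Module Γ(X, U) ((CohB1.tensorMod F G).presheaf.stalk x.1) := Module.compHom _ (algebraMap Γ(X, U) O)
  haveI : IsScalarTower Γ(X, U) O (F.presheaf.stalk x.1) := .of_algebraMap_smul fun _ _ => rfl
  haveI : IsScalarTower Γ(X, U) O (G.presheaf.stalk x.1) := .of_algebraMap_smul fun _ _ => rfl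
  haveI : IsScalarTower Γ(X, U) O ((CohB1.tensorMod F G).presheaf.stalk x.1) := .of_algebraMap_smul fun _ _ => rfl
  haveI : IsLocalization S O := hU.isLocalization_stalk x
  let gF := H29Fitt.germLin F x
  let gG := H29Fitt.germLin G x
  let gT := H29Fitt.germLin (CohB1.tensorMod F G) x
  haveI : IsLocalizedModule S gF := H29Fitt.isLocalizedModule_germLin F inferInstance hU x
  haveI : IsLocalizedModule S gG := H29Fitt.isLocalizedModule_germLin G inferInstance hU x
  haveI : IsLocalizedModule S gT := H29Fitt.isLocalizedModule_germLin _ hT hU x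
  let e : F.presheaf.stalk x.1 ⊗[Γ(X, U)] G.presheaf.stalk x.1 ≃ₗ[O]
      F.presheaf.stalk x.1 ⊗[O] G.presheaf.stalk x.1 :=
    (IsLocalization.moduleTensorEquiv S O (F.presheaf.stalk x.1) (G.presheaf.stalk x.1)).symm
  have he : ∀ a b, e (a ⊗ₜ b) = a ⊗ₜ b := fun a b => by
    rw [LinearEquiv.symm_apply_eq]; rfl
  let θ := e ≪≫ₗ H16Derived.KFlat.Stalk.stalkEquiv F G x.1
  have key : ∀ z, gT (mulSect F G U z) = θ (TensorProduct.map gF gG z) := by
    intro z
    induction z using TensorProduct.induction_on with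
    | zero => rw [map_zero, map_zero, map_zero, map_zero]; rfl
    | add a b ha hb => rw [map_add, map_add, map_add, map_add, ha, hb]; rfl
    | tmul m n =>
      rw [mulSect_tmul, TensorProduct.map_tmul, LinearEquiv.trans_apply, he]
      exact ((H16Derived.KFlat.Stalk.toStalk_tmul F G x.1 _ _).trans
        (H16Derived.KFlat.Stalk.pair_germ F G x.1 U x.2 m n)).symm
  haveI : IsLocalizedModule S (TensorProduct.map gF gG) := inferInstance
  refine ⟨fun z hz => ?_, fun n => ?_⟩
  · have h0 : TensorProduct.map gF gG z = TensorProduct.map gF gG 0 := θ.injective (by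
      rw [← key, ← key, hz, map_zero, map_zero]
      exact (map_zero gT).symm)
    obtain ⟨s, hs⟩ := IsLocalizedModule.exists_of_eq (S := S) h0
    exact ⟨s.1, s.2, by rwa [smul_zero] at hs⟩
  · obtain ⟨⟨z, s⟩, hzs⟩ := IsLocalizedModule.surj S (TensorProduct.map gF gG) (θ.symm (gT n))
    have h0 : gT (mulSect F G U z) = gT ((s : Γ(X, U)) • n) := by
      rw [key, map_smul gT, ← hzs]
      show θ (algebraMap Γ(X, U) O s.1 • θ.symm (gT n)) = algebraMap Γ(X, U) O s.1 • gT n
      rw [map_smul]
      exact congrArg (algebraMap Γ(X, U) O s.1 • ·) (θ.apply_symm_apply (gT n))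
    obtain ⟨t, ht⟩ := IsLocalizedModule.exists_of_eq (S := S) h0
    refine ⟨t.1 * s.1, S.mul_mem t.2 s.2, (t : Γ(X, U)) • z, ?_⟩
    rw [map_smul, mul_smul]
    exact ht

theorem tm_natural {G' : X.Modules} (f : G ⟶ G') (V : X.Opens) (m : Γ(F, V)) (n : Γ(G, V)) :
    (KoszTw.tensorMap (𝟙 F) f).app V (tm m n) = tm m (f.app V n) :=
  KoszTw.tensorMap_tmul (𝟙 F) f V m n

end Groth.Agent.LeadBC
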