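import Groth.Agent.LeadFF.Gen
import Groth.Agent.H15Site.CechTop
import Groth.Agent.H10Coh.LerayNat
import Groth.Agent.H10Coh.Affine
import Groth.Agent.H10Coh.Bounded
import Groth.Agent.H06FlatCx.HomologyClass

/-!
# The Čech complex of a module as a complex over the base ring

For `X` over `Spec A` and a family of opens, the Čech complex of an O_X-module as a complex of `A`-modules;
for a cover with affine intersections its cohomology is, `A`-linearly and naturally, that of the module.
-/

set_option autoImplicit false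
set_option linter.style.haveILetI false
set_option linter.unusedSectionVars false

universe u

open AlgebraicGeometry CategoryTheory CategoryTheory.Limits TopologicalSpace Opposite

namespace Groth.Agent.LeadBC

open Groth.Agent.LeadFF Groth.Agent.H15Site

variable (A : Type u) [CommRing A] {X : Scheme.{u}} [X.Over (Spec (CommRingCat.of A))]
  {ι : Type u} (U : ι → X.Opens)

/-- The scalars of `A` on sections. -/
noncomputable abbrev sc (V : X.Opens) : A →+* Γ(X, V) := scal (X ↘ Spec (CommRingCat.of A)) V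

/-- Sections as an `A`-module. -/
noncomputable abbrev sec (G : X.Modules) (V : X.Opens) : ModuleCat.{u} A :=
  (ModuleCat.restrictScalars (sc A V)).obj (ModuleCat.of Γ(X, V) Γ(G, V))

/-- Restriction. -/
noncomputable def resL (G : X.Modules) {V W : X.Opens} (h : W ≤ V) : sec A G V →ₗ[A] sec A G W where
  toFun := fun x => (G.presheaf.map (homOfLE h).op (show Γ(G, V) from x) : Γ(G, W))
  map_add' x y := map_add _ _ _
  map_smul' a x := by
    show G.presheaf.map (homOfLE h).op (sc A V a • (show Γ(G, V) from x)) =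
      sc A W a • G.presheaf.map (homOfLE h).op (show Γ(G, V) from x)
    rw [Scheme.Modules.map_smul, map_scal]

/-- The map on sections of a morphism. -/
noncomputable def appL {G G' : X.Modules} (f : G ⟶ G') (V : X.Opens) : sec A G V →ₗ[A] sec A G' V where
  toFun := fun x => (f.app V (show Γ(G, V) from x) : Γ(G', V))
  map_add' x y := map_add _ _ _
  map_smul' a x := Scheme.Modules.Hom.app_smul f (sc A V a) (show Γ(G, V) from x)

/-- The terms of the Čech complex. -/
noncomputable abbrev Kp (G : X.Modules) (p : ℕ) : Type u := ∀ a : Fin (p + 1) → ι, sec A G (CechTop.cap U a)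

/-- The differential. -/
noncomputable def dK (G : X.Modules) (p : ℕ) : Kp A U G p →ₗ[A] Kp A U G (p + 1) :=
  LinearMap.pi fun c => ∑ j : Fin (p + 2), ((-1 : ℤ) ^ (j : ℕ)) •
    (resL A G (CechTop.cap_comp_le U c j.succAbove)).comp (LinearMap.proj (c ∘ j.succAbove))

theorem dK_apply (G : X.Modules) (p : ℕ) (x : Kp A U G p) (c : Fin (p + 2) → ι) :
    dK A U G p x c = ∑ j : Fin (p + 2), ((-1 : ℤ) ^ (j : ℕ)) •
      resL A G (CechTop.cap_comp_le U c j.succAbove) (x (c ∘ j.succAbove)) := by
  simp [dK]

/-- Comparison with the Čech complex of the underlying presheaf. -/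
noncomputable def ψ (G : X.Modules) (p : ℕ) : CechTop.C U G.presheaf p ≃+ Kp A U G p :=
  AddEquiv.ofBijective
    ({ toFun := fun x a => (CechTop.proj U G.presheaf a).hom x
       map_zero' := funext fun a => map_zero _
       map_add' := fun x y => funext fun a => map_add _ _ _ } : CechTop.C U G.presheaf p →+ Kp A U G p)
    ⟨fun _ _ h => CechTop.hom_ext U _ fun a => congrFun h a, fun v => by
      obtain ⟨x, hx⟩ := CechTop.exists_proj_eq U G.presheaf (fun a => (v a : Γ(G, CechTop.cap U a)))
      exact ⟨x, funext hx⟩⟩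

theorem ψ_apply (G : X.Modules) (p : ℕ) (x : CechTop.C U G.presheaf p) (a : Fin (p + 1) → ι) :
    ψ A U G p x a = (CechTop.proj U G.presheaf a).hom x := rfl

theorem ψ_d (G : X.Modules) (p : ℕ) (x : CechTop.C U G.presheaf p) :
    ψ A U G (p + 1) ((CechTop.d U G.presheaf p).hom x) = dK A U G p (ψ A U G p x) := by
  funext c
  rw [dK_apply, ψ_apply, CechTop.proj_d]
  rfl

theorem dK_dK (G : X.Modules) (p : ℕ) : dK A U G (p + 1) ∘ₗ dK A U G p = 0 := LinearMap.ext fun x => by
  obtain ⟨y, rfl⟩ := (ψ A U G p).surjective x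
  rw [LinearMap.comp_apply, ← ψ_d, ← ψ_d, CechTop.d_d, map_zero]
  rfl

/-- The map on Čech terms of a morphism. -/
noncomputable def mapK {G G' : X.Modules} (f : G ⟶ G') (p : ℕ) : Kp A U G p →ₗ[A] Kp A U G' p :=
  LinearMap.pi fun a => (appL A f (CechTop.cap U a)).comp (LinearMap.proj a)

theorem mapK_apply {G G' : X.Modules} (f : G ⟶ G') (p : ℕ) (x : Kp A U G p) (a : Fin (p + 1) → ι) :
    mapK A U f p x a = appL A f (CechTop.cap U a) (x a) := rfl

theorem ψ_map {G G' : X.Modules} (f : G ⟶ G') (p : ℕ) (x : CechTop.C U G.presheaf p) :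
    ψ A U G' p ((CechTop.mapC U G.presheaf f.mapPresheaf p).hom x) = mapK A U f p (ψ A U G p x) := by
  funext a
  rw [ψ_apply, CechTop.proj_mapC]
  rfl

theorem mapK_dK {G G' : X.Modules} (f : G ⟶ G') (p : ℕ) :
    dK A U G' p ∘ₗ mapK A U f p = mapK A U f (p + 1) ∘ₗ dK A U G p := LinearMap.ext fun x => by
  obtain ⟨y, rfl⟩ := (ψ A U G p).surjective x
  rw [LinearMap.comp_apply, LinearMap.comp_apply, ← ψ_map, ← ψ_d, ← ψ_d, ← ψ_map, CechTop.d_mapC]

/-- The Čech complex over `A`. -/
noncomputable def KC (G : X.Modules) : CochainComplex (ModuleCat.{u} A) ℕ :=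
  CochainComplex.of (fun p => ModuleCat.of A (Kp A U G p)) (fun p => ModuleCat.ofHom (dK A U G p))
    fun p => ModuleCat.hom_ext (dK_dK A U G p)

theorem KC_d (G : X.Modules) (p : ℕ) : (KC A U G).d p (p + 1) = ModuleCat.ofHom (dK A U G p) :=
  CochainComplex.of_d (fun p => ModuleCat.of A (Kp A U G p)) (fun p => ModuleCat.ofHom (dK A U G p)) p

/-- The Čech complex as a functor. -/
noncomputable def KCF : X.Modules ⥤ CochainComplex (ModuleCat.{u} A) ℕ where
  obj := KC A U
  map {G G'} f :=
    { f := fun p => ModuleCat.ofHom (mapK A U f p)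
      comm' := fun i j h => by
        obtain rfl : i + 1 = j := h
        refine (congrArg (ModuleCat.ofHom (mapK A U f i) ≫ ·) (KC_d A U G' i)).trans ?_
        refine Eq.trans ?_ (congrArg (· ≫ ModuleCat.ofHom (mapK A U f (i + 1))) (KC_d A U G i)).symm
        exact ModuleCat.hom_ext (mapK_dK A U f i) }
  map_id G := HomologicalComplex.hom_ext _ _ fun p => ModuleCat.hom_ext (LinearMap.ext fun x => funext fun a => rfl)
  map_comp f g := HomologicalComplex.hom_ext _ _ fun p => ModuleCat.hom_ext (LinearMap.ext fun x => funext fun a => rfl)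

theorem KCF_map_smulMod (G : X.Modules) (a : A) :
    (KCF A U).map (Formal.smulMod A G a) = a • 𝟙 (KC A U G) :=
  HomologicalComplex.hom_ext _ _ fun p => ModuleCat.hom_ext (LinearMap.ext fun x => funext fun b => rfl)

/-- The underlying complex of groups is Mathlib's Čech complex. -/
noncomputable def eAb (G : X.Modules) :
    ((forget₂ (ModuleCat.{u} A) AddCommGrpCat.{u}).mapHomologicalComplex (ComplexShape.up ℕ)).obj (KC A U G) ≅
      (cechComplexFunctor U).obj G.presheaf :=
  HomologicalComplex.Hom.isoOfComponents (fun p => (ψ A U G p).symm.toAddCommGrpIso) fun i j h => by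
    obtain rfl : i + 1 = j := h
    refine ConcreteCategory.hom_ext _ _ fun x => ?_
    obtain ⟨y, rfl⟩ := (ψ A U G i).surjective x
    show (CechTop.d U G.presheaf i).hom ((ψ A U G i).symm (ψ A U G i y)) =
      (ψ A U G (i + 1)).symm (((KC A U G).d i (i + 1)).hom (ψ A U G i y))
    rw [KC_d, AddEquiv.symm_apply_apply]
    show _ = (ψ A U G (i + 1)).symm (dK A U G i (ψ A U G i y))
    rw [← ψ_d, AddEquiv.symm_apply_apply]

theorem eAb_natural {G G' : X.Modules} (f : G ⟶ G') :
    ((forget₂ (ModuleCat.{u} A) AddCommGrpCat.{u}).mapHomologicalComplex (ComplexShape.up ℕ)).map ((KCF A U).map f) ≫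
        (eAb A U G').hom = (eAb A U G).hom ≫ (cechComplexFunctor U).map f.mapPresheaf :=
  HomologicalComplex.hom_ext _ _ fun p => ConcreteCategory.hom_ext _ _ fun x => by
    obtain ⟨y, rfl⟩ := (ψ A U G p).surjective x
    show (ψ A U G' p).symm (mapK A U f p (ψ A U G p y)) =
      (CechTop.mapC U G.presheaf f.mapPresheaf p).hom ((ψ A U G p).symm (ψ A U G p y))
    rw [← ψ_map, AddEquiv.symm_apply_apply, AddEquiv.symm_apply_apply]

/-- Its homology is Čech cohomology. -/
noncomputable def eCech (G : X.Modules) (p : ℕ) :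
    (forget₂ (ModuleCat.{u} A) AddCommGrpCat.{u}).obj ((KC A U G).homology p) ≅
      CohTop.cechH (H10Coh.sh G).obj U p :=
  (((KC A U G).sc p).mapHomologyIso (forget₂ (ModuleCat.{u} A) AddCommGrpCat.{u})).symm ≪≫
    HomologicalComplex.homologyMapIso (eAb A U G) p

theorem eCech_natural {G G' : X.Modules} (f : G ⟶ G') (p : ℕ) (x : (KC A U G).homology p) :
    (eCech A U G' p).hom.hom ((HomologicalComplex.homologyMap ((KCF A U).map f) p).hom x) =
      H10Coh.LerayNat.cmap ((H10Coh.shF X).map f) p ((eCech A U G p).hom.hom x) := by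
  have h1 := ShortComplex.mapHomologyIso_hom_naturality
    ((HomologicalComplex.shortComplexFunctor _ _ p).map ((KCF A U).map f))
    (forget₂ (ModuleCat.{u} A) AddCommGrpCat.{u})
  have h2 : (eCech A U G p).hom ≫ HomologicalComplex.homologyMap ((cechComplexFunctor U).map f.mapPresheaf) p =
      (forget₂ (ModuleCat.{u} A) AddCommGrpCat.{u}).map (HomologicalComplex.homologyMap ((KCF A U).map f) p) ≫
        (eCech A U G' p).hom := by
    refine (Category.assoc ((KC A U G).sc p |>.mapHomologyIso (forget₂ (ModuleCat.{u} A) AddCommGrpCat.{u})).inv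
      (HomologicalComplex.homologyMap (eAb A U G).hom p) _).trans ?_
    refine (congrArg (_ ≫ ·) ((HomologicalComplex.homologyMap_comp _ _ p).symm.trans
      ((congrArg (fun φ => HomologicalComplex.homologyMap φ p) (eAb_natural A U f).symm).trans
        (HomologicalComplex.homologyMap_comp _ _ p)))).trans ?_
    refine (Category.assoc _ _ _).symm.trans (Eq.trans ?_ (Category.assoc _ _ _))
    refine congrArg (· ≫ HomologicalComplex.homologyMap (eAb A U G').hom p) ?_
    exact (Iso.inv_comp_eq _).2 (((Iso.eq_comp_inv _).2 h1).trans (Category.assoc _ _ _))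
  exact (ConcreteCategory.congr_hom h2 x).symm

variable {U}

/-- A finite affine cover with affine intersections. -/
structure GoodCover (U : ι → X.Opens) : Prop where
  affine : ∀ (p : ℕ) (a : Fin (p + 1) → ι), IsAffineOpen (CechTop.cap U a)
  cover : (⊤ : X.Opens) ≤ iSup U

variable (hU : GoodCover U)

theorem acy (G : X.Modules) [G.IsQuasicoherent] (hU : GoodCover U) :
    H10Coh.LerayNat.Acy U (H10Coh.sh G) :=
  fun p a q => H10Coh.subsingleton_HnM_of_isAffineOpen G (hU.affine p a) q

/-- The comparison with cohomology, additively. -/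
noncomputable def eHH₀ (G : X.Modules) [G.IsQuasicoherent] (p : ℕ) :
    (KC A U G).homology p ≃+ Coh.HH X G p :=
  ((eCech A U G p).addCommGroupIsoToAddEquiv.trans
    ((H10Coh.LerayNat.lv (V := (⊤ : X.Opens)) (fun _ => le_top) hU.cover p).e (H10Coh.sh G) (acy G hU))).trans
    (H10Coh.HHEquiv G p).symm

theorem eHH₀_natural {G G' : X.Modules} [G.IsQuasicoherent] [G'.IsQuasicoherent] (f : G ⟶ G') (p : ℕ)
    (x : (KC A U G).homology p) :
    eHH₀ A hU G' p ((HomologicalComplex.homologyMap ((KCF A U).map f) p).hom x) = Hm f p (eHH₀ A hU G p x) := by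
  let L := H10Coh.LerayNat.lv (U := U) (V := (⊤ : X.Opens)) (fun _ => le_top) hU.cover p
  refine (H10Coh.HHEquiv G' p).injective ?_
  refine ((H10Coh.HHEquiv G' p).apply_symm_apply _).trans ?_
  show L.e _ (acy G' hU) ((eCech A U G' p).hom.hom _) = H10Coh.topEquiv (H10Coh.sh G') p (Sheaf.H.map _ p _)
  rw [eCech_natural, L.nat _ (acy G hU) (acy G' hU), H10Coh.topEquiv_map, H10Coh.LerayNat.hmap_apply]
  exact congrArg (fun z : H10Coh.HnM G p ⊤ => z.comp (Abelian.Ext.mk₀ ((H10Coh.shF X).map f)) (add_zero p))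
    ((H10Coh.HHEquiv G p).apply_symm_apply _).symm

/-- The comparison with cohomology. -/
noncomputable def eHH (G : X.Modules) [G.IsQuasicoherent] (p : ℕ) :
    (KC A U G).homology p ≃ₗ[A] Coh.HH X G p :=
  { eHH₀ A hU G p with
    map_smul' := fun a x => by
      show eHH₀ A hU G p (a • x) = a • eHH₀ A hU G p x
      rw [← Hm_smulMod, ← eHH₀_natural, KCF_map_smulMod]
      refine congrArg (eHH₀ A hU G p) ?_
      obtain ⟨z, rfl⟩ := H06FlatCx.cls_surjective (KC A U G) (j := p) (k := p + 1) (CochainComplex.next ℕ p) x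
      exact ((H06FlatCx.homologyMap_cls (a • 𝟙 (KC A U G)) (CochainComplex.next ℕ p) z).trans
        (map_smul (H06FlatCx.cls (KC A U G) (CochainComplex.next ℕ p)) a z)).symm }

theorem eHH_natural {G G' : X.Modules} [G.IsQuasicoherent] [G'.IsQuasicoherent] (f : G ⟶ G') (p : ℕ)
    (x : (KC A U G).homology p) :
    eHH A hU G' p ((HomologicalComplex.homologyMap ((KCF A U).map f) p).hom x) = Hm f p (eHH A hU G p x) :=
  eHH₀_natural A hU f p x

end Groth.Agent.LeadBC
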