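import Groth.Agent.LeadBC.Vanishing

/-!
# Vanishing near a point and local freeness of higher direct images from the fibres
-/

set_option autoImplicit false
set_option linter.style.haveILetI false
set_option linter.unusedSectionVars false

universe u

open AlgebraicGeometry CategoryTheory CategoryTheory.Limits TopologicalSpace Opposite
open scoped TensorProduct

namespace Groth.Agent.LeadBC

open Groth.Agent.H06FlatCx

variable {X Y : Scheme.{u}} (f : X ⟶ Y) [IsProper f] [IsLocallyNoetherian Y]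

theorem affine_around (y : Y) {U : Y.Opens} (hy : y ∈ U) : ∃ V : Y.Opens, IsAffineOpen V ∧ y ∈ V ∧ V ≤ U := by
  obtain ⟨_, ⟨V, hV : IsAffineOpen V, rfl⟩, hyV, hle⟩ := Y.isBasis_affineOpens.exists_subset_of_mem_open hy U.isOpen
  exact ⟨V, hV, hyV, hle⟩

variable {f}

/-- A zero fibre gives a zero value of the model at that point of the chart. -/
theorem Model.subsingleton_chart_point {F : X.Modules} [F.IsQuasicoherent] {V : Y.Opens} {hV : IsAffineOpen V}
    {ι : Type u} [Finite ι] {U : ι → (chartX f hV).Opens} (hU : GoodCover U)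
    (m : Model (A := Γ(Y, V)) (chartX f hV) (chartF f hV F) U) (y : Y) (hy : y ∈ V) (p : ℕ)
    (h : Subsingleton (CohIII.fiberH f F y p)) :
    Subsingleton (CohIII.T m.P ((m.N : ℤ) - p)
      (ModuleCat.of Γ(Y, V) (hV.primeIdealOf ⟨y, hy⟩).asIdeal.ResidueField)) := by
  let x := hV.primeIdealOf ⟨y, hy⟩
  let K := x.asIdeal.ResidueField
  have h0 : CohIII.fiberRank f F p y = 0 := Module.finrank_zero_of_subsingleton
  rw [m.fiberRank_chart hU hy p] at h0
  haveI := (m.finite_flat ((m.N : ℤ) - p)).1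
  have h1 : hqRank K m.P ((m.N : ℤ) - p + 1) ((m.N : ℤ) - p) ((m.N : ℤ) - p - 1) = 0 :=
    (hqRank_eq m.P (down_prev _) (down_next _)).trans h0
  have h2 := Module.finrank_zero_iff.1 h1
  obtain ⟨e, -⟩ := exists_homQuot_equiv (B := K) m.P (down_prev ((m.N : ℤ) - p)) (down_next ((m.N : ℤ) - p))
  exact e.symm.toEquiv.subsingleton

variable [HasInjectiveResolutions X.Modules] {F : X.Modules}

/-- Vanishing near a point. -/
theorem isZero_near (hF : Coh.IsCoh F) (hfl : FlatMod.IsFlatOver f F) (y : Y) (n : ℕ)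
    (hvan : Subsingleton (CohIII.fiberH f F y n)) :
    ∃ U : Y.Opens, y ∈ U ∧ IsZero (((Coh.Rpush f n).obj F).restrict U.ι) := by
  haveI : F.IsQuasicoherent := hF.1
  obtain ⟨V, hV, hy, -⟩ := affine_around y (U := ⊤) trivial
  obtain ⟨ι, hι, U, hU, ⟨m⟩⟩ := exists_chart_model (f := f) (hV := hV) hF hfl
  haveI : (chartF f hV F).IsQuasicoherent := H29Fitt.isQCoh_pullback _ F hF.1
  haveI : IsNoetherianRing Γ(Y, V) := IsLocallyNoetherian.component_noetherian ⟨V, hV⟩
  obtain ⟨-, -, h3⟩ := local_of_dRank_zero m.P m.finite_flat _ _ (m.subsingleton_chart_point hU y hy n hvan)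
  obtain ⟨a, ha, hkill⟩ := exists_smul_h0_eq_zero m.P m.finite_flat _ _ h3
  obtain ⟨e⟩ := m.exists_sections_equiv hU n
  exact ⟨Y.basicOpen a, (H29Blow.mem_primeIdealOf_iff hV ⟨y, hy⟩ a).not_left.1 ha |> fun h => by
      exact (Y.mem_basicOpen a y hy).2 h,
    isZero_restrict_basicOpen _ (H10Coh.isQuasicoherent_rpush f F n) hV a fun z => by
      obtain ⟨w, rfl⟩ := e.surjective z
      rw [← map_smul, hkill, map_zero]⟩

/-- Local freeness with the rank of the fibres, from exactness on every chart. -/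
theorem finLocFree_of_charts (hF : Coh.IsCoh F) (hfl : FlatMod.IsFlatOver f F) (p : ℕ)
    (h : ∀ (V : Y.Opens) (hV : IsAffineOpen V) (ι : Type u) (_ : Finite ι) (U : ι → (chartX f hV).Opens)
      (_ : GoodCover U) (m : Model (A := Γ(Y, V)) (chartX f hV) (chartF f hV F) U),
      (CohIII.TFun m.P ((m.N : ℤ) - p)).PreservesEpimorphisms ∧
        (CohIII.TFun m.P ((m.N : ℤ) - p)).PreservesMonomorphisms) :
    FlatMod.IsFinLocFree ((Coh.Rpush f p).obj F) ∧
      ∀ y : Y, ∃ U : Y.Opens, y ∈ U ∧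
        Nonempty (((Coh.Rpush f p).obj F).restrict U.ι ≅ FlatMod.freeMod (↑U) (CohIII.fiberRank f F p y)) := by
  haveI : F.IsQuasicoherent := hF.1
  have key : ∀ (V : Y.Opens) (hV : IsAffineOpen V),
      (Module.FinitePresentation Γ(Y, V) Γ((Coh.Rpush f p).obj F, V) ∧
        Module.Flat Γ(Y, V) Γ((Coh.Rpush f p).obj F, V)) ∧ ∀ y, ∀ hy : y ∈ V,
        CohIII.fiberRank f F p y = fibDim Γ((Coh.Rpush f p).obj F, V) (hV.primeIdealOf ⟨y, hy⟩) := by
    intro V hV
    obtain ⟨ι, hι, U, hU, ⟨m⟩⟩ := exists_chart_model (f := f) (hV := hV) hF hfl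
    haveI : (chartF f hV F).IsQuasicoherent := H29Fitt.isQCoh_pullback _ F hF.1
    haveI : IsNoetherianRing Γ(Y, V) := IsLocallyNoetherian.component_noetherian ⟨V, hV⟩
    obtain ⟨hE, hM⟩ := h V hV ι hι U hU m
    obtain ⟨e⟩ := m.exists_sections_equiv hU p
    let j := (m.N : ℤ) - p
    haveI := (m.finite_flat (j - 1)).2
    haveI := (m.finite_flat j).1
    haveI : Module.Finite Γ(Y, V) (H0 m.P (j + 1) j (j - 1)) := finite_h0 m.P (j + 1) j (j - 1)
    haveI : Module.Flat Γ(Y, V) (H0 m.P (j + 1) j (j - 1)) :=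
      (flat_h0_iff_mono m.P (down_prev j) (down_next j) hE).1 hM
    haveI : Module.Finite Γ(Y, V) Γ((Coh.Rpush f p).obj F, V) := Module.Finite.equiv e
    refine ⟨⟨Module.finitePresentation_of_finite _ _, Module.Flat.of_linearEquiv e.symm⟩, fun y hy => ?_⟩
    rw [m.fiberRank_chart hU hy p, dRank_eq_fibDim_of_epi m.P (down_prev j) (down_next j)
      ((preservesEpi_iff_epiLift m.P (down_prev j) (down_next j)).1 hE)]
    exact fibDim_congr _ e _
  have hflf : FlatMod.IsFinLocFree ((Coh.Rpush f p).obj F) :=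
    H8Props.FinLocFree.isFinLocFree_of_sections _ (H10Coh.isQuasicoherent_rpush f F p) fun y => by
      obtain ⟨V, hV, hy, -⟩ := affine_around y (U := ⊤) trivial
      exact ⟨V, hV, hy, (key V hV).1⟩
  refine ⟨hflf, fun y => ?_⟩
  obtain ⟨U, r, hyU, ⟨e⟩⟩ := hflf y
  obtain ⟨V, hV, hy, hle⟩ := affine_around y hyU
  haveI := (key V hV).1.2
  haveI : Nontrivial Γ(Y, V) := (hV.primeIdealOf ⟨y, hy⟩).nontrivial
  obtain ⟨b⟩ := H8Props.FinLocFree.exists_basis_of_chart _ e hle
  haveI := Module.Free.of_basis b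
  haveI := Module.Finite.of_basis b
  have hr : CohIII.fiberRank f F p y = r := by
    rw [(key V hV).2 y hy, fibDim_eq_rankAtStalk, Module.rankAtStalk_eq_finrank_of_free,
      Module.finrank_eq_card_basis b, Fintype.card_fin]
    rfl
  exact ⟨U, hyU, ⟨hr ▸ e⟩⟩

/-- Concentrated fibres make all cokernels of the model flat. -/
theorem Model.flat_cok_of_concentrated {V : Y.Opens} {hV : IsAffineOpen V}
    [F.IsQuasicoherent] {ι : Type u} [Finite ι] {U : ι → (chartX f hV).Opens} (hU : GoodCover U)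
    (m : Model (A := Γ(Y, V)) (chartX f hV) (chartF f hV F) U) (i0 : ℕ)
    (hconc : ∀ y : Y, ∀ i : ℕ, i ≠ i0 → Subsingleton (CohIII.fiberH f F y i)) (j : ℤ) :
    Module.Flat Γ(Y, V) (Cok m.P j) := by
  haveI : IsNoetherianRing Γ(Y, V) := IsLocallyNoetherian.component_noetherian ⟨V, hV⟩
  haveI := (m.finite_flat j).1
  refine flat_of_forall_localization m.P m.finite_flat fun x => ?_
  have hT : ∀ k : ℤ, k ≠ (m.N : ℤ) - i0 →
      Subsingleton (CohIII.T m.P k (ModuleCat.of Γ(Y, V) x.asIdeal.ResidueField)) := by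
    intro k hk
    by_cases hk' : (m.N : ℤ) < k
    · exact m.subsingleton_above hk' _
    obtain ⟨i, rfl⟩ : ∃ i : ℕ, (m.N : ℤ) - i = k := ⟨((m.N : ℤ) - k).toNat, by omega⟩
    let y : Y := hV.fromSpec.base x
    have hy : y ∈ V := by
      show hV.fromSpec.base x ∈ V
      rw [← SetLike.mem_coe, ← hV.range_fromSpec]
      exact ⟨x, rfl⟩
    have hx : hV.primeIdealOf ⟨y, hy⟩ = x := hV.fromSpec.isOpenEmbedding.injective (hV.fromSpec_primeIdealOf ⟨y, hy⟩)
    have := m.subsingleton_chart_point hU y hy i (hconc y i (fun h => hk (by rw [h])))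
    rwa [hx] at this
  by_cases hj : j = (m.N : ℤ) - i0
  · have h := (local_of_dRank_zero m.P m.finite_flat (j + 1) x (hT _ (by omega))).2.1
    rw [add_sub_cancel_right] at h
    exact h
  · exact (local_of_dRank_zero m.P m.finite_flat j x (hT _ hj)).1

end Groth.Agent.LeadBC
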