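import Groth.Agent.LeadBC.Apps
import Groth.Agent.LeadBC.Corep
import Groth.Agent.LeadBC.Basic
import Mathlib.RingTheory.Filtration

/-!
# Two more exchange criteria
-/

set_option autoImplicit false
set_option linter.style.haveILetI false
set_option linter.unusedSectionVars false

universe u

open CategoryTheory CategoryTheory.Limits Opposite LinearMap
open scoped TensorProduct

namespace Groth.Agent.LeadBC

open Groth.Agent.H06FlatCx

variable {A : Type u} [CommRing A] {P : ChainComplex (ModuleCat.{u} A) ℤ}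

section corep

variable {N : ℤ} (hP : ∀ i, Module.Finite A (P.X i) ∧ Module.Free A (P.X i))
  (hE : (CohIII.TFun P (N + 1)).PreservesEpimorphisms)

include hP hE in
theorem finite_projective_topQ_of_epi : Module.Finite A (topQ P N) ∧ Module.Projective A (topQ P N) := by
  haveI := (hP N).1
  haveI := (hP N).2
  haveI : Module.Flat A (P.X ((N + 1) - 1)) := by rw [add_sub_cancel_right]; infer_instance
  haveI : Module.Flat A (topQ P N) := (H06FlatCx.epi_iff_flat_cok P rfl).1 hE
  haveI : Module.Finite A (P.X (N + 1)) := (hP (N + 1)).1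
  haveI : Module.FinitePresentation A (P.X N) := Module.finitePresentation_of_projective A _
  haveI : Module.FinitePresentation A (topQ P N) := Module.finitePresentation_of_surjective (Submodule.mkQ _)
    (Submodule.mkQ_surjective _) (by rw [Submodule.ker_mkQ]; exact Module.Finite.iff_fg.1 (Module.Finite.range _))
  exact ⟨inferInstance, Module.Flat.projective_of_finitePresentation⟩

include hP hE in
theorem topG_spec_of_epi (M : ModuleCat.{u} A) :
    Function.Surjective (topG (P := P) (N := N) M) ∧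
      LinearMap.ker (topG (P := P) (N := N) M) =
        LinearMap.ker (H06FlatCx.tcls P (H06FlatCx.down_next N) M) := by
  haveI := (finite_projective_topQ_of_epi hP hE).1
  haveI := (finite_projective_topQ_of_epi hP hE).2
  haveI := (hP (N - 1)).1
  haveI := (hP (N - 1)).2
  have hα := bijective_αQ (A := A) (topQ P N) M
  have hexact := rTensor_exact M (LinearMap.exact_map_mkQ_range (P.d (N + 1) N).hom) (Submodule.mkQ_surjective _)
  constructor
  · intro ψ
    obtain ⟨y, hy⟩ := hα.2 (ψ ∘ₗ Submodule.mkQ _)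
    obtain ⟨w, rfl⟩ := LinearMap.rTensor_surjective M (Submodule.mkQ_surjective _) y
    have hw : (P.d N (N - 1)).hom.rTensor M w = 0 := by
      refine (bijective_αQ (A := A) (P.X (N - 1)) M).1 ?_
      rw [← topD_mkQ, rTensor_comp_apply, map_zero]
      show αQ (P.X (N - 1)) M (TensorProduct.map (topD P N) LinearMap.id _) = 0
      rw [αQ_natural, hy]
      refine LinearMap.ext fun φ => ?_
      show ψ (Submodule.Quotient.mk ((topD P N).dualMap φ)) = 0
      rw [show (Submodule.Quotient.mk ((topD P N).dualMap φ) : topR P N) = 0 from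
        (Submodule.Quotient.mk_eq_zero _).2 (LinearMap.mem_range_self _ φ), map_zero]
    exact ⟨⟨w, hw⟩, Submodule.linearMap_qext _ hy⟩
  · ext w
    rw [LinearMap.mem_ker, LinearMap.mem_ker, H06FlatCx.tcls_eq_zero_iff P (H06FlatCx.down_prev N)]
    refine Iff.trans ?_ (hexact w.1)
    constructor
    · intro h
      refine hα.1 (LinearMap.ext fun φ => ?_)
      rw [map_zero, LinearMap.zero_apply, ← topG_mk, h, LinearMap.zero_apply]
    · intro h
      refine Submodule.linearMap_qext _ (LinearMap.ext fun φ => ?_)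
      show αQ (topQ P N) M ((Submodule.mkQ _).rTensor M w.1) φ = 0
      rw [h, map_zero, LinearMap.zero_apply]

variable (P N) in
/-- `H_N(P ⊗ M) ≅ Hom(R, M)` when the functor above is right exact. -/
noncomputable def topEquivHom' (M : ModuleCat.{u} A) (hP : ∀ i, Module.Finite A (P.X i) ∧ Module.Free A (P.X i))
    (hE : (CohIII.TFun P (N + 1)).PreservesEpimorphisms) :
    (CohIII.TFun P N).obj M ≃ₗ[A] (topR P N →ₗ[A] M) :=
  ((H06FlatCx.tcls P (H06FlatCx.down_next N) M).quotKerEquivOfSurjective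
      (H06FlatCx.tcls_surjective P _ M)).symm ≪≫ₗ
    Submodule.quotEquivOfEq _ _ (topG_spec_of_epi hP hE M).2.symm ≪≫ₗ
      (topG M).quotKerEquivOfSurjective (topG_spec_of_epi hP hE M).1

theorem topEquivHom'_tcls (M : ModuleCat.{u} A) (w : LinearMap.ker ((P.d N (N - 1)).hom.rTensor M)) :
    topEquivHom' P N M hP hE (H06FlatCx.tcls P (H06FlatCx.down_next N) M w) = topG M w := by
  simp only [topEquivHom', LinearEquiv.trans_apply]
  rw [show ((H06FlatCx.tcls P (H06FlatCx.down_next N) M).quotKerEquivOfSurjective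
      (H06FlatCx.tcls_surjective P _ M)).symm (H06FlatCx.tcls P (H06FlatCx.down_next N) M w) =
      Submodule.Quotient.mk w from (LinearEquiv.symm_apply_eq _).2 rfl]
  rfl

include hP hE in
theorem nonempty_corep_of_epi :
    Nonempty (CohIII.TFun P N ≅ (linearCoyoneda A (ModuleCat.{u} A)).obj (op (ModuleCat.of A (topR P N)))) := by
  refine ⟨NatIso.ofComponents
    (fun M => (topEquivHom' P N M hP hE ≪≫ₗ
      (ModuleCat.homLinearEquiv (R := A) (S := A) (M := ModuleCat.of A (topR P N)) (N := M)).symm).toModuleIso)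
    fun {M M'} g => ?_⟩
  refine ModuleCat.hom_ext (LinearMap.ext fun t => ?_)
  obtain ⟨w, rfl⟩ := H06FlatCx.tcls_surjective P (H06FlatCx.down_next N) M t
  show ModuleCat.ofHom (topEquivHom' P N M' hP hE (((CohIII.TFun P N).map g).hom (H06FlatCx.tcls P _ M w))) =
    ModuleCat.ofHom (topEquivHom' P N M hP hE (H06FlatCx.tcls P _ M w)) ≫ g
  rw [H06FlatCx.map_tcls, topEquivHom'_tcls, topEquivHom'_tcls]
  refine ModuleCat.hom_ext (Submodule.linearMap_qext _ (LinearMap.ext fun φ => ?_))
  show topG M' _ (Submodule.Quotient.mk φ) = g.hom (topG M w (Submodule.Quotient.mk φ))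
  rw [topG_mk, topG_mk]
  have h := αQ_natural (LinearMap.id : topQ P N →ₗ[A] topQ P N) g.hom
    ((Submodule.mkQ (LinearMap.range (P.d (N + 1) N).hom)).rTensor M w.1)
  have hz : ∀ z : P.X N ⊗[A] M, (Submodule.mkQ (LinearMap.range (P.d (N + 1) N).hom)).rTensor M'
      (g.hom.lTensor (P.X N) z) = TensorProduct.map LinearMap.id g.hom
        ((Submodule.mkQ (LinearMap.range (P.d (N + 1) N).hom)).rTensor M z) := fun z => by
    induction z using TensorProduct.induction_on with
    | zero => simp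
    | add a b ha hb => simp only [map_add, ha, hb]
    | tmul a b => simp
  show αQ (topQ P N) M' ((Submodule.mkQ _).rTensor M' (g.hom.lTensor (P.X N) w.1)) φ = _
  rw [hz, h]
  rfl

end corep

theorem tmul_mk_eq_zero_iff {M : Type u} [AddCommGroup M] [Module A M] (I : Ideal A) (x : M) :
    x ⊗ₜ[A] (Submodule.Quotient.mk (1 : A) : A ⧸ I) = 0 ↔ x ∈ I • (⊤ : Submodule A M) := by
  rw [← (TensorProduct.tensorQuotEquivQuotSMul M I).map_eq_zero_iff,
    show TensorProduct.tensorQuotEquivQuotSMul M I (x ⊗ₜ[A] (Submodule.Quotient.mk (1 : A) : A ⧸ I)) =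
      Submodule.Quotient.mk ((1 : A) • x) from TensorProduct.tensorQuotEquivQuotSMul_tmul_mk I x (1 : A),
    one_smul, Submodule.Quotient.mk_eq_zero]

theorem exists_tmul_mk {M : Type u} [AddCommGroup M] [Module A M] (I : Ideal A) (z : M ⊗[A] (A ⧸ I)) :
    ∃ x : M, x ⊗ₜ[A] (Submodule.Quotient.mk (1 : A) : A ⧸ I) = z := by
  obtain ⟨w, rfl⟩ := LinearMap.lTensor_surjective M (Submodule.mkQ_surjective I) z
  obtain ⟨x, rfl⟩ := (TensorProduct.rid A M).symm.surjective w
  exact ⟨x, by rw [TensorProduct.rid_symm_apply, LinearMap.lTensor_tmul]; rfl⟩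

/-- Lifting classes from all infinitesimal neighbourhoods gives lifting of classes. -/
theorem surjective_residue_of_modPow [IsNoetherianRing A] [IsLocalRing A] (j : ℤ)
    [Module.Finite A (P.X (j - 1))]
    (h : ∀ n : ℕ, Function.Surjective ((CohIII.TFun P j).map (ModuleCat.ofHom
      (Ideal.Quotient.factorₐ A (Ideal.pow_le_self (I := IsLocalRing.maximalIdeal A)
        (Nat.succ_ne_zero n))).toLinearMap :
        ModuleCat.of A (A ⧸ IsLocalRing.maximalIdeal A ^ (n + 1)) ⟶
          ModuleCat.of A (A ⧸ IsLocalRing.maximalIdeal A))).hom) :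
    Function.Surjective ((CohIII.TFun P j).map
      (ModuleCat.ofHom (Algebra.linearMap A (IsLocalRing.ResidueField A)))).hom := by
  intro t
  let m := IsLocalRing.maximalIdeal A
  let D := (P.d j (j - 1)).hom
  obtain ⟨c, hc⟩ := Ideal.exists_pow_inf_eq_pow_smul m (LinearMap.range D)
  obtain ⟨s, hs⟩ := h c t
  obtain ⟨w, rfl⟩ := H06FlatCx.tcls_surjective P (H06FlatCx.down_next j) _ s
  obtain ⟨w₀, hw₀⟩ := exists_tmul_mk (m ^ (c + 1)) (w : P.X j ⊗[A] (A ⧸ m ^ (c + 1)))
  have hd : D w₀ ∈ m ^ (c + 1) • (⊤ : Submodule A (P.X (j - 1))) := by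
    rw [← tmul_mk_eq_zero_iff]
    have := LinearMap.mem_ker.1 w.2
    rw [← hw₀, LinearMap.rTensor_tmul] at this
    exact this
  have hd' : D w₀ ∈ m • LinearMap.range D := by
    have h2 : D w₀ ∈ m ^ (c + 1) • (⊤ : Submodule A (P.X (j - 1))) ⊓ LinearMap.range D :=
      ⟨hd, LinearMap.mem_range_self _ _⟩
    rw [hc (c + 1) (Nat.le_succ c), Nat.add_sub_cancel_left, pow_one] at h2
    exact Submodule.smul_mono le_rfl inf_le_right h2
  rw [LinearMap.range_eq_map, ← Submodule.map_smul''] at hd'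
  obtain ⟨v, hv, hvd⟩ := hd'
  have hu : (P.d j (j - 1)).hom.rTensor (ModuleCat.of A A) ((w₀ - v) ⊗ₜ[A] (1 : A)) = 0 := by
    rw [LinearMap.rTensor_tmul]
    show (D (w₀ - v)) ⊗ₜ[A] (1 : A) = 0
    rw [map_sub, hvd, sub_self, TensorProduct.zero_tmul]
  refine ⟨H06FlatCx.tcls P (H06FlatCx.down_next j) (ModuleCat.of A A) ⟨_, hu⟩, ?_⟩
  rw [← hs, H06FlatCx.map_tcls, H06FlatCx.map_tcls]
  refine congrArg _ (Subtype.ext ?_)
  simp only [← hw₀, LinearMap.lTensor_tmul]
  show (w₀ - v) ⊗ₜ[A] (Submodule.Quotient.mk (1 : A) : A ⧸ m) = w₀ ⊗ₜ[A] (Submodule.Quotient.mk (1 : A) : A ⧸ m)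
  rw [TensorProduct.sub_tmul, (tmul_mk_eq_zero_iff m v).2 hv, sub_zero]

end Groth.Agent.LeadBC
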