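import Groth.Agent.LeadBC.BaseChange

/-!
# The fibres: dimension and vanishing in terms of the model
-/

set_option autoImplicit false
set_option linter.style.haveILetI false
set_option linter.unusedSectionVars false

universe u

open AlgebraicGeometry CategoryTheory CategoryTheory.Limits TopologicalSpace Opposite
open scoped TensorProduct

namespace Groth.Agent.LeadBC

open Groth.Agent.LeadFF Groth.Agent.H15Site Groth.Agent.H06FlatCx

section Algebra

variable {A : Type u} [CommRing A] {B : Type u} [CommRing B] [Algebra A B] {ι : Type} {c : ComplexShape ι}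
  (P : HomologicalComplex (ModuleCat.{u} A) c) {i j k : ι}

theorem comm_baseChange {M N : Type u} [AddCommGroup M] [Module A M] [AddCommGroup N] [Module A N]
    (g : M →ₗ[A] N) (z : B ⊗[A] M) :
    TensorProduct.comm A B N (g.baseChange B z) = g.rTensor B (TensorProduct.comm A B M z) := by
  induction z using TensorProduct.induction_on with
  | zero => simp
  | add a b ha hb => simp [ha, hb]
  | tmul s m => simp

theorem comm_smul {M : Type u} [AddCommGroup M] [Module A M] (s : B) (z : B ⊗[A] M) :
    TensorProduct.comm A B M (s • z) = (LinearMap.mulLeft A s).lTensor M (TensorProduct.comm A B M z) := by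
  induction z using TensorProduct.induction_on with
  | zero => simp
  | add a b ha hb => simp [ha, hb]
  | tmul t m => simp [TensorProduct.smul_tmul']

/-- `H_j` of the base change is `H_j(P ⊗ B)`, compatibly with multiplication by `B`. -/
theorem exists_homQuot_equiv (hij : c.prev j = i) (hjk : c.next j = k) :
    ∃ e : homQuot (baseChange_comp_zero B (d_comp_d P i j k)) ≃+ CohIII.T P j (ModuleCat.of A B),
      ∀ (s : B) x, e (s • x) = ((CohIII.TFun P j).map (mulS B A s)).hom (e x) := by
  let M := ModuleCat.of A B
  let g₀ : LinearMap.ker ((P.d j k).hom.baseChange B) →+ CohIII.T P j M :=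
    { toFun := fun z => tcls P hjk M ⟨TensorProduct.comm A B (P.X j) z, by
          rw [LinearMap.mem_ker]
          exact (comm_baseChange (P.d j k).hom z.1).symm.trans
            ((congrArg (TensorProduct.comm A B (P.X k)) (LinearMap.mem_ker.1 z.2)).trans (map_zero _))⟩
      map_zero' := (congrArg (tcls P hjk M) (Subtype.ext (map_zero (TensorProduct.comm A B (P.X j))))).trans
        (map_zero _)
      map_add' := fun a b => (congrArg (tcls P hjk M)
        (Subtype.ext (map_add (TensorProduct.comm A B (P.X j)) (a : B ⊗[A] P.X j) b))).trans (map_add _ _ _) }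
  have hker : ∀ z, g₀ z = 0 ↔ z ∈ (LinearMap.range (toKer (baseChange_comp_zero B (d_comp_d P i j k)))) := by
    intro z
    refine (tcls_eq_zero_iff P hij hjk M _).trans ⟨?_, ?_⟩
    · rintro ⟨w, hw⟩
      refine ⟨(TensorProduct.comm A B (P.X i)).symm w, Subtype.ext ((TensorProduct.comm A B (P.X j)).injective ?_)⟩
      refine (comm_baseChange (P.d i j).hom _).trans ?_
      rw [LinearEquiv.apply_symm_apply]
      exact hw
    · rintro ⟨w, rfl⟩
      exact ⟨TensorProduct.comm A B (P.X i) w, (comm_baseChange (P.d i j).hom w).symm⟩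
  let G := QuotientAddGroup.lift
    (LinearMap.range (toKer (baseChange_comp_zero B (d_comp_d P i j k)))).toAddSubgroup g₀
    (fun z hz => (hker z).2 hz)
  refine ⟨AddEquiv.ofBijective G ⟨(injective_iff_map_eq_zero G).2 ?_, ?_⟩, ?_⟩
  · intro x hx
    induction x using QuotientAddGroup.induction_on with
    | H z => exact (QuotientAddGroup.eq_zero_iff z).2 ((hker z).1 hx)
  · intro t
    obtain ⟨⟨w, hw⟩, rfl⟩ := tcls_surjective P hjk M t
    refine ⟨QuotientAddGroup.mk (⟨(TensorProduct.comm A B (P.X j)).symm w, ?_⟩ :
      LinearMap.ker ((P.d j k).hom.baseChange B)), congrArg (tcls P hjk M) (Subtype.ext ?_)⟩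
    · rw [LinearMap.mem_ker]
      apply (TensorProduct.comm A B (P.X k)).injective
      rw [comm_baseChange, LinearEquiv.apply_symm_apply, map_zero]
      exact LinearMap.mem_ker.1 hw
    · exact LinearEquiv.apply_symm_apply _ w
  · intro s x
    induction x using Submodule.Quotient.induction_on with
    | _ z =>
      show g₀ (s • z) = ((CohIII.TFun P j).map (mulS B A s)).hom (g₀ z)
      exact (congrArg (tcls P hjk M) (Subtype.ext (comm_smul s (z : B ⊗[A] P.X j)))).trans
        (map_tcls P hjk (mulS B A s) _).symm

/-- A semilinear identification of `H_j(P ⊗ B)` transports the rank of the base change. -/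
theorem finrank_bcCx_eq {H : Type u} [AddCommGroup H] [Module B H] (hij : c.prev j = i) (hjk : c.next j = k)
    (e : CohIII.T P j (ModuleCat.of A B) ≃+ H)
    (he : ∀ (s : B) t, e (((CohIII.TFun P j).map (mulS B A s)).hom t) = s • e t) :
    Module.finrank B H = Module.finrank B (homQuot (baseChange_comp_zero B (d_comp_d P i j k))) := by
  obtain ⟨e₀, he₀⟩ := exists_homQuot_equiv (B := B) P hij hjk
  let L : homQuot (baseChange_comp_zero B (d_comp_d P i j k)) ≃ₗ[B] H :=
    { e₀.trans e with
      map_smul' := fun s x => (congrArg e (he₀ s x)).trans (he s (e₀ x)) }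
  exact L.finrank_eq.symm

end Algebra

section Fibre

variable {A : Type u} [CommRing A] {X : Scheme.{u}} [X.Over (Spec (CommRingCat.of A))] {ι : Type u} [Finite ι]
  {U : ι → X.Opens} {F : X.Modules} [F.IsQuasicoherent]

/-- The residue field of a point of `Spec A`. -/
abbrev resK (y : ↑(Spec (CommRingCat.of A))) : Type u := (Spec (CommRingCat.of A)).residueField y

/-- The point as a prime. -/
abbrev primeOf (y : ↑(Spec (CommRingCat.of A))) : PrimeSpectrum A := y

/-- `κ(y)` of the ring to `κ(y)` of the scheme. -/
noncomputable def kToResK (y : ↑(Spec (CommRingCat.of A))) : (primeOf y).asIdeal.ResidueField →+* resK y :=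
  (Scheme.Spec.residueFieldIso (CommRingCat.of A) y).inv.hom

noncomputable instance algebraResK (y : ↑(Spec (CommRingCat.of A))) : Algebra A (resK y) :=
  ((kToResK y).comp (algebraMap A (primeOf y).asIdeal.ResidueField)).toAlgebra

theorem specMap_resK (y : ↑(Spec (CommRingCat.of A))) :
    Spec.map (CommRingCat.ofHom (algebraMap A (resK y))) = (Spec (CommRingCat.of A)).fromSpecResidueField y := by
  refine Eq.trans ?_ (Scheme.Spec.map_residueFieldIso_inv_eq_fromSpecResidueField (CommRingCat.of A) y)
  exact Spec.map_comp (CommRingCat.ofHom (algebraMap A (primeOf y).asIdeal.ResidueField))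
    (Scheme.Spec.residueFieldIso (CommRingCat.of A) y).inv

noncomputable local instance fiberOverK (y : ↑(Spec (CommRingCat.of A))) :
    ((X ↘ Spec (CommRingCat.of A)).fiber y).Over (Spec (CommRingCat.of (resK y))) :=
  ⟨(X ↘ Spec (CommRingCat.of A)).fiberToSpecResidueField y⟩

theorem fiber_isPullback (y : ↑(Spec (CommRingCat.of A))) :
    IsPullback ((X ↘ Spec (CommRingCat.of A)).fiberι y)
      (((X ↘ Spec (CommRingCat.of A)).fiber y) ↘ Spec (CommRingCat.of (resK y))) (X ↘ Spec (CommRingCat.of A))
      (Spec.map (CommRingCat.ofHom (algebraMap A (resK y)))) := by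
  rw [specMap_resK]
  exact IsPullback.of_hasPullback _ _

variable (hU : GoodCover U) (m : Model (A := A) X F U)
include hU

theorem Model.exists_fibreEquiv (y : ↑(Spec (CommRingCat.of A))) (p : ℕ) :
    ∃ e : CohIII.T m.P ((m.N : ℤ) - p) (ModuleCat.of A (resK y)) ≃+ CohIII.fiberH (X ↘ Spec (CommRingCat.of A)) F y p,
      ∀ (s : resK y) t, e (((CohIII.TFun m.P ((m.N : ℤ) - p)).map (mulS (resK y) A s)).hom t) = s • e t := by
  obtain ⟨e, he⟩ := Model.exists_bcEquiv (resK y) (fiber_isPullback y) hU m p
  exact ⟨e, he⟩

/-- The rank of the fibre cohomology is that of the model. -/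
theorem Model.fiberRank_eq (y : ↑(Spec (CommRingCat.of A))) (p : ℕ) :
    CohIII.fiberRank (X ↘ Spec (CommRingCat.of A)) F p y = CohIII.dRank m.P ((m.N : ℤ) - p) (primeOf y) := by
  obtain ⟨e, he⟩ := m.exists_fibreEquiv hU y p
  have hij := H06FlatCx.down_prev ((m.N : ℤ) - p)
  have hjk := H06FlatCx.down_next ((m.N : ℤ) - p)
  refine ((finrank_bcCx_eq m.P hij hjk e he).trans
    ((bcH m.P (algebraMap A (resK y)) hij hjk).finrank_eq).symm).trans ?_
  exact bcCx_finrank_field_ext m.P (algebraMap A (primeOf y).asIdeal.ResidueField) (kToResK y) hij hjk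

theorem Model.subsingleton_fiberH_iff (y : ↑(Spec (CommRingCat.of A))) (p : ℕ) :
    Subsingleton (CohIII.fiberH (X ↘ Spec (CommRingCat.of A)) F y p) ↔
      Subsingleton (CohIII.T m.P ((m.N : ℤ) - p) (ModuleCat.of A (resK y))) := by
  obtain ⟨e, -⟩ := m.exists_fibreEquiv hU y p
  exact e.toEquiv.subsingleton_congr.symm

/-- Vanishing on the fibre, tested on the residue field of the ring. -/
theorem Model.subsingleton_fiberH_iff' (y : ↑(Spec (CommRingCat.of A))) (p : ℕ) :
    Subsingleton (CohIII.fiberH (X ↘ Spec (CommRingCat.of A)) F y p) ↔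
      Subsingleton (CohIII.T m.P ((m.N : ℤ) - p) (ModuleCat.of A (primeOf y).asIdeal.ResidueField)) := by
  refine (m.subsingleton_fiberH_iff hU y p).trans ?_
  let E : ModuleCat.of A (primeOf y).asIdeal.ResidueField ≅ ModuleCat.of A (resK y) :=
    LinearEquiv.toModuleIso
      { RingEquiv.ofBijective (kToResK y) (ConcreteCategory.bijective_of_isIso
          (Scheme.Spec.residueFieldIso (CommRingCat.of A) y).inv) with
        map_smul' := fun a x => by
          show kToResK y (a • x) = a • kToResK y x
          rw [Algebra.smul_def, Algebra.smul_def, map_mul]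
          rfl }
  exact ((CohIII.TFun m.P ((m.N : ℤ) - p)).mapIso E).toLinearEquiv.toEquiv.subsingleton_congr.symm

end Fibre

end Groth.Agent.LeadBC
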