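import Groth.Agent.LeadBC.Exchange
import Groth.Agent.LeadBC.Exch2
import Groth.Agent.LeadBC.Gamma
import Groth.Agent.LeadBC.Fibre
import Groth.Agent.LeadBC.Apps
import Groth.Agent.LeadR1.Main
import Mathlib.Dynamics.Newton
import Mathlib.RingTheory.Etale.Field

/-!
# Global functions of the closed fibre lift to the infinitesimal neighbourhoods when they form an étale algebra
-/

set_option autoImplicit false
set_option linter.style.haveILetI false
set_option linter.unusedSectionVars false

noncomputable section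

universe u

open CategoryTheory CategoryTheory.Limits AlgebraicGeometry Opposite TopologicalSpace Polynomial
open Groth.Agent.LeadFF
open scoped TensorProduct

namespace Groth.Agent.LeadBC.Et

/-- Elements of an étale algebra over a field are roots of separable polynomials. -/
theorem exists_separable_aeval {k E : Type u} [Field k] [CommRing E] [Algebra k E] [Algebra.Etale k E] (a : E) :
    ∃ g : k[X], aeval a g = 0 ∧ IsUnit (aeval a (derivative g)) := by
  classical
  obtain ⟨I, hI, Ai, hF, hA, e, hsep⟩ := (Algebra.FormallyEtale.iff_exists_algEquiv_prod (K := k) (A := E)).1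
    inferInstance
  haveI := Fintype.ofFinite I
  let mp : I → k[X] := fun i => minpoly k (e a i)
  have hsi : ∀ i, (mp i).Separable := fun i => haveI := hsep i; Algebra.IsSeparable.isSeparable k (e a i)
  have hirr : ∀ i, Irreducible (mp i) ∧ (mp i).Monic := fun i =>
    haveI := hsep i
    ⟨minpoly.irreducible (Algebra.IsIntegral.isIntegral _), minpoly.monic (Algebra.IsIntegral.isIntegral _)⟩
  let g : k[X] := ∏ q ∈ Finset.univ.image mp, q
  have hg : g.Separable := by
    refine Polynomial.separable_prod' (fun x hx y hy hxy => ?_) fun x hx => ?_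
    · obtain ⟨i, -, rfl⟩ := Finset.mem_image.1 hx
      obtain ⟨j, -, rfl⟩ := Finset.mem_image.1 hy
      exact ((hirr i).1.coprime_iff_not_dvd).2 fun hd =>
        hxy (Polynomial.eq_of_monic_of_associated (hirr i).2 (hirr j).2
          ((hirr i).1.associated_of_dvd (hirr j).1 hd))
    · obtain ⟨i, -, rfl⟩ := Finset.mem_image.1 hx
      exact hsi i
  have h0 : aeval a g = 0 := e.injective (funext fun i => by
    rw [map_zero, ← aeval_algHom_apply e, Pi.zero_apply]
    show (Pi.evalAlgHom k Ai i) (aeval (e a) g) = 0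
    rw [← aeval_algHom_apply, map_prod]
    exact Finset.prod_eq_zero (Finset.mem_image_of_mem mp (Finset.mem_univ i)) (minpoly.aeval k (e a i)))
  obtain ⟨u, v, huv⟩ := hg
  refine ⟨g, h0, IsUnit.of_mul_eq_one (aeval a v) ?_⟩
  have := congrArg (aeval a) huv
  rw [map_add, map_mul, map_mul, h0, mul_zero, zero_add, map_one, mul_comm] at this
  exact this

/-- Roots lift uniquely along a surjection with nilpotent kernel. -/
theorem existsUnique_root {A R R₀ : Type u} [CommRing A] [CommRing R] [CommRing R₀] [Algebra A R]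
    (π : R →+* R₀) (hπ : Function.Surjective π) (hnil : ∀ r, π r = 0 → IsNilpotent r) (P : A[X]) {b : R₀}
    (hb : eval₂ (π.comp (algebraMap A R)) b P = 0)
    (hb' : IsUnit (eval₂ (π.comp (algebraMap A R)) b (derivative P))) :
    ∃! r, π r = b ∧ aeval r P = 0 := by
  obtain ⟨x, rfl⟩ := hπ b
  have he : ∀ Q : A[X], π (aeval x Q) = eval₂ (π.comp (algebraMap A R)) (π x) Q := fun Q => hom_eval₂ _ _ _ _
  have hu : IsUnit (aeval x (derivative P)) := by
    obtain ⟨w, hw⟩ := hb'
    obtain ⟨v, hv⟩ := hπ ↑w⁻¹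
    refine isUnit_of_mul_isUnit_left (y := v) ?_
    have h1 : IsNilpotent (aeval x (derivative P) * v - 1) := hnil _ (by
      rw [map_sub, map_mul, map_one, he, hv, ← hw, Units.mul_inv, sub_self])
    simpa using h1.isUnit_one_add
  obtain ⟨r, ⟨hr1, hr2⟩, hr⟩ := existsUnique_nilpotent_sub_and_aeval_eq_zero (P := P)
    (hnil _ ((he P).trans hb)) hu
  have hr' : ∀ s, π s = π x → IsNilpotent (x - s) := fun s hs => hnil _ (by rw [map_sub, hs, sub_self])
  obtain ⟨n, hn⟩ := hr1
  refine ⟨r, ⟨?_, hr2⟩, fun s hs => hr s ⟨hr' s hs.1, hs.2⟩⟩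
  by_contra hne
  obtain ⟨r', hr'1, hr'2⟩ : ∃ r', π r' = π x ∧ aeval r' P = 0 := by
    obtain ⟨k, hk⟩ := (hnil _ ((he P).trans hb))
    refine ⟨P.newtonMap^[k] x, ?_, ?_⟩
    · have : ∀ j, π (P.newtonMap^[j] x) = π x := by
        intro j
        induction j with
        | zero => rfl
        | succ j ih =>
          rw [Function.iterate_succ_apply', newtonMap_apply, map_sub, map_mul, ih]
          have : π (aeval (P.newtonMap^[j] x) P) = 0 := by rw [aeval_def, hom_eval₂, ih]; exact hb
          rw [this, mul_zero, sub_zero]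
      exact this k
    · rw [← zero_dvd_iff, ← pow_eq_zero_of_le (k.lt_two_pow_self).le hk]
      exact aeval_pow_two_pow_dvd_aeval_iterate_newtonMap (hnil _ ((he P).trans hb)) hu k
  exact hne ((hr r' ⟨hr' r' hr'1, hr'2⟩) ▸ hr'1)

variable {A : Type u} [CommRing A] {X : Scheme.{u}} [X.Over (Spec (CommRingCat.of A))]

local notation "πX" => (X ↘ Spec (CommRingCat.of A))

instance isQCoh_strMod : (Coh.structureModule X).IsQuasicoherent := H10Coh.isQuasicoherent_unit

/-- Gluing sections given on the affine opens. -/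
theorem exists_glue_affine {Y : Scheme.{u}} (M : Y.Modules) (s : ∀ V : Y.Opens, IsAffineOpen V → Γ(M, V))
    (hs : ∀ (V W : Y.Opens) (hV : IsAffineOpen V) (hW : IsAffineOpen W) (h : W ≤ V),
      M.presheaf.map (homOfLE h).op (s V hV) = s W hW) :
    ∃ t : Γ(M, ⊤), ∀ (V : Y.Opens) (hV : IsAffineOpen V), M.presheaf.map (homOfLE (le_top : V ≤ ⊤)).op t = s V hV := by
  obtain ⟨t, ht, -⟩ := TopCat.Sheaf.existsUnique_gluing' (H10Coh.sheafOf M)
    (fun V : {V : Y.Opens // IsAffineOpen V} => V.1) ⊤ (fun _ => homOfLE le_top)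
    (fun x _ => by
      obtain ⟨V, hV, hxV, -⟩ := exists_isAffineOpen_mem_and_subset (U := (⊤ : Y.Opens)) (x := x) trivial
      exact Opens.mem_iSup.2 ⟨⟨V, hV⟩, hxV⟩)
    (fun V => s V.1 V.2) (fun V W => by
      refine TopCat.Sheaf.eq_of_locally_eq' (H10Coh.sheafOf M)
        (fun Z : {Z : Y.Opens // IsAffineOpen Z ∧ Z ≤ V.1 ⊓ W.1} => Z.1) _ (fun Z => homOfLE Z.2.2) ?_ _ _
        fun Z => ?_
      · intro x hx
        obtain ⟨Z, hZ, hxZ, hle⟩ := exists_isAffineOpen_mem_and_subset (U := V.1 ⊓ W.1) hx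
        exact Opens.mem_iSup.2 ⟨⟨Z, hZ, hle⟩, hxZ⟩
      · exact ((H10Coh.mres_mres M inf_le_left Z.2.2 (s V.1 V.2)).trans (hs V.1 Z.1 V.2 Z.2.1 _)).trans
          ((H10Coh.mres_mres M inf_le_right Z.2.2 (s W.1 W.2)).trans (hs W.1 Z.1 W.2 Z.2.1 _)).symm)
  exact ⟨t, fun V hV => ht ⟨V, hV⟩⟩

/-- `A/I`. -/
abbrev QI (I : Ideal A) : ModuleCat.{u} A := ModuleCat.of A (A ⧸ I)

variable (X) in
/-- `O_X → f^*((A/I)~) ⊗ O_X`. -/
abbrev qMap (I : Ideal A) : Coh.structureModule X ⟶ (CohIII.tensorAFunctor A (Coh.structureModule X)).obj (QI I) :=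
  uMap A (Coh.structureModule X) (QI I) (Submodule.Quotient.mk (1 : A))

variable (X) in
/-- The value of `qMap` on a function. -/
abbrev qv (I : Ideal A) (V : X.Opens) (r : Γ(X, V)) :
    Γ((CohIII.tensorAFunctor A (Coh.structureModule X)).obj (QI I), V) :=
  (qMap X I).app V (show Γ(Coh.structureModule X, V) from r)

theorem qv_res (I : Ideal A) {V W : X.Opens} (h : W ≤ V) (r : Γ(X, V)) :
    ((CohIII.tensorAFunctor A (Coh.structureModule X)).obj (QI I)).presheaf.map (homOfLE h).op (qv X I V r) =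
      qv X I W (X.presheaf.map (homOfLE h).op r) :=
  (congr($((Scheme.Modules.Hom.mapPresheaf (qMap X I)).naturality (homOfLE h).op) (show Γ(Coh.structureModule X, V) from r))).symm

theorem qv_surjective (I : Ideal A) {V : X.Opens} (hV : IsAffineOpen V) : Function.Surjective (qv X I V) := fun y => by
  obtain ⟨z, rfl⟩ := (bijective_τ₀ A (Coh.structureModule X) (QI I) hV).2 y
  obtain ⟨w, rfl⟩ := LinearMap.lTensor_surjective (sec A (Coh.structureModule X) V) (Submodule.mkQ_surjective I) z
  obtain ⟨x, rfl⟩ := (TensorProduct.rid A (sec A (Coh.structureModule X) V)).symm.surjective w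
  exact ⟨x, (uMap_app A (Coh.structureModule X) (QI I) _ hV x).trans
    (congrArg (τ₀ A (Coh.structureModule X) (QI I) V) (LinearMap.lTensor_tmul _ (Submodule.mkQ I) x (1 : A)).symm)⟩

theorem qv_eq_zero_iff (I : Ideal A) {V : X.Opens} (hV : IsAffineOpen V) (r : Γ(X, V)) :
    qv X I V r = 0 ↔ r ∈ I.map (scal πX V) := by
  constructor
  · intro h0
    have h1 : (show sec A (Coh.structureModule X) V from r) ⊗ₜ[A] (Submodule.Quotient.mk (1 : A) : A ⧸ I) = 0 :=
      (bijective_τ₀ A (Coh.structureModule X) (QI I) hV).1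
        (((uMap_app A (Coh.structureModule X) (QI I) _ hV r).symm.trans h0).trans (map_zero _).symm)
    refine Submodule.smul_induction_on
      (p := fun w : sec A (Coh.structureModule X) V => (show Γ(X, V) from w) ∈ I.map (scal πX V))
      ((tmul_mk_eq_zero_iff I (show sec A (Coh.structureModule X) V from r)).1 h1) (fun a ha z _ => ?_)
      fun a b ha hb => add_mem ha hb
    exact Ideal.mul_mem_right (show Γ(X, V) from z) _ (Ideal.mem_map_of_mem _ ha)
  · intro h
    refine Submodule.span_induction (p := fun w _ => qv X I V w = 0) ?_ ?_ ?_ ?_ h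
    · rintro _ ⟨a, ha, rfl⟩
      refine (congrArg (qv X I V) (mul_one (scal πX V a)).symm).trans ?_
      refine (uMap_app A (Coh.structureModule X) (QI I) _ hV _).trans ?_
      refine (congrArg (τ₀ A (Coh.structureModule X) (QI I) V) ?_).trans (map_zero _)
      show (a • (show sec A (Coh.structureModule X) V from (1 : Γ(X, V)))) ⊗ₜ[A] (Submodule.Quotient.mk (1 : A) : A ⧸ I) = 0
      rw [TensorProduct.smul_tmul, ← Submodule.Quotient.mk_smul, smul_eq_mul, mul_one,
        (Submodule.Quotient.mk_eq_zero _).2 ha, TensorProduct.tmul_zero]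
    · exact map_zero _
    · intro a b _ _ ha hb
      exact (map_add ((qMap X I).app V).hom a b).trans ((congrArg₂ (· + ·) ha hb).trans (add_zero 0))
    · intro c a _ ha
      exact ((qMap X I).app_smul c a).trans ((congrArg (c • ·) ha).trans (smul_zero c))

theorem qv_natural {I J : Ideal A} (h : I ≤ J) (V : X.Opens) (r : Γ(X, V)) :
    ((CohIII.tensorAFunctor A (Coh.structureModule X)).map
      (ModuleCat.ofHom (Ideal.Quotient.factorₐ A h).toLinearMap : QI I ⟶ QI J)).app V (qv X I V r) = qv X J V r :=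
  congr($(congrArg (fun k => Scheme.Modules.Hom.app k V) (uMap_natural A (Coh.structureModule X)
    (ModuleCat.ofHom (Ideal.Quotient.factorₐ A h).toLinearMap : QI I ⟶ QI J) (Submodule.Quotient.mk (1 : A))))
      (show Γ(Coh.structureModule X, V) from r))

section Fibre

variable [IsNoetherianRing A] [IsLocalRing A] (y : ↑(Spec (CommRingCat.of A)))
  (hy : y.asIdeal = IsLocalRing.maximalIdeal A)

include hy

theorem surjective_resK : Function.Surjective (algebraMap A (resK y)) := by
  haveI : (primeOf y).asIdeal.IsMaximal := by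
    rw [show (primeOf y).asIdeal = IsLocalRing.maximalIdeal A from hy]
    exact IsLocalRing.maximalIdeal.isMaximal A
  exact (ConcreteCategory.bijective_of_isIso (Scheme.Spec.residueFieldIso (CommRingCat.of A) y).inv).2.comp
    (Ideal.algebraMap_residueField_surjective (primeOf y).asIdeal)

theorem ker_resK : RingHom.ker (algebraMap A (resK y)) = IsLocalRing.maximalIdeal A := by
  ext a
  show kToResK y (algebraMap A (primeOf y).asIdeal.ResidueField a) = 0 ↔ _
  rw [map_eq_zero_iff (kToResK y)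
      (ConcreteCategory.bijective_of_isIso (Scheme.Spec.residueFieldIso (CommRingCat.of A) y).inv).1,
    Ideal.algebraMap_residueField_eq_zero, ← hy]

theorem fiber_ker {V : X.Opens} (hV : IsAffineOpen V) (r : Γ(X, V)) :
    ((πX).fiberι y).app V r = 0 ↔ r ∈ (IsLocalRing.maximalIdeal A).map (scal πX V) := by
  refine ⟨fun h => ker_resK y hy ▸ LeadR1.ker_app_of_surjective (surjective_resK y hy) (fiber_isPullback y) hV r h,
    fun h => ?_⟩
  refine Submodule.span_induction (p := fun w _ => ((πX).fiberι y).app V w = 0) ?_ (map_zero _)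
    (fun a b _ _ ha hb => by rw [map_add, ha, hb, add_zero]) (fun c a _ ha => ?_) h
  · rintro _ ⟨a, ha, rfl⟩
    refine (app_scal (fiber_isPullback y) V a).trans ?_
    rw [RingHom.mem_ker.1 ((ker_resK y hy).ge ha), map_zero]
  · rw [smul_eq_mul, map_mul, ha, mul_zero]

/-- A function on the closed fibre, seen as a family of roots, lifts to a thickening. -/
theorem exists_lift (n : ℕ) [Algebra.Etale ((Spec (CommRingCat.of A)).residueField y) Γ((πX).fiber y, ⊤)]
    (a : Γ((πX).fiber y, ⊤)) :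
    ∃ s : Γ((CohIII.tensorAFunctor A (Coh.structureModule X)).obj (QI (IsLocalRing.maximalIdeal A ^ (n + 1))), ⊤),
      ∀ (V : X.Opens), IsAffineOpen V → ∃ r : Γ(X, V),
        ((CohIII.tensorAFunctor A (Coh.structureModule X)).obj _).presheaf.map (homOfLE (le_top : V ≤ ⊤)).op s =
          qv X _ V r ∧
        ((πX).fiberι y).app V r = ((πX).fiber y).presheaf.map (homOfLE (le_top : (πX).fiberι y ⁻¹ᵁ V ≤ ⊤)).op a := by
  let ι := (πX).fiberι y
  haveI : IsClosedImmersion (Spec.map (CommRingCat.ofHom (algebraMap A (resK y)))) :=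
    IsClosedImmersion.spec_of_surjective _ (surjective_resK y hy)
  haveI : IsClosedImmersion ι :=
    MorphismProperty.of_isPullback (P := @IsClosedImmersion) (fiber_isPullback y).flip inferInstance
  obtain ⟨g, hg0, hgu⟩ := exists_separable_aeval (k := (Spec (CommRingCat.of A)).residueField y) a
  obtain ⟨P, rfl⟩ := Polynomial.map_surjective (algebraMap A (resK y)) (surjective_resK y hy) g
  let m := IsLocalRing.maximalIdeal A
  let res : ∀ V : X.Opens, Γ((πX).fiber y, ⊤) →+* Γ((πX).fiber y, ι ⁻¹ᵁ V) := fun V =>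
    (((πX).fiber y).presheaf.map (homOfLE (le_top : ι ⁻¹ᵁ V ≤ ⊤)).op).hom
  let b : ∀ V : X.Opens, Γ((πX).fiber y, ι ⁻¹ᵁ V) := fun V => res V a
  have hcomp : ∀ (V : X.Opens), (ι.app V).hom.comp (scal πX V) =
      (res V).comp ((algebraMap _ Γ((πX).fiber y, ⊤)).comp (algebraMap A (resK y))) := fun V => RingHom.ext fun c => by
    refine (app_scal (fiber_isPullback y) V c).trans ?_
    refine (map_scal ((πX).fiberToSpecResidueField y) (le_top : ι ⁻¹ᵁ V ≤ ⊤) (algebraMap A (resK y) c)).symm.trans ?_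
    refine congrArg (res V) ?_
    show ((πX).fiberToSpecResidueField y).appLE ⊤ ⊤ le_top _ = ((πX).fiberToSpecResidueField y).appTop _
    rw [Scheme.Hom.appTop, Scheme.Hom.app_eq_appLE]
    rfl
  have key : ∀ (V : X.Opens), IsAffineOpen V →
      (∃ r, ι.app V r = b V ∧ eval₂ (scal πX V) r P ∈ (m ^ (n + 1)).map (scal πX V)) ∧
      ∀ r r', ι.app V r = b V → eval₂ (scal πX V) r P ∈ (m ^ (n + 1)).map (scal πX V) →
        ι.app V r' = b V → eval₂ (scal πX V) r' P ∈ (m ^ (n + 1)).map (scal πX V) →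
        r - r' ∈ (m ^ (n + 1)).map (scal πX V) := fun V hV => by
    let J := (m ^ (n + 1)).map (scal πX V)
    letI : Algebra A (Γ(X, V) ⧸ J) := ((Ideal.Quotient.mk J).comp (scal πX V)).toAlgebra
    have hle : J ≤ RingHom.ker (ι.app V).hom := fun r hr =>
      RingHom.mem_ker.2 ((fiber_ker y hy hV r).2 (Ideal.map_mono (Ideal.pow_le_self (Nat.succ_ne_zero n)) hr))
    let π' : Γ(X, V) ⧸ J →+* Γ((πX).fiber y, ι ⁻¹ᵁ V) := Ideal.Quotient.lift J (ι.app V).hom hle
    have hπ' : Function.Surjective π' := Ideal.Quotient.lift_surjective_of_surjective _ _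
      (ι.app_surjective V hV)
    have hnil : ∀ r, π' r = 0 → IsNilpotent r := fun r hr => by
      obtain ⟨r, rfl⟩ := Ideal.Quotient.mk_surjective r
      refine ⟨n + 1, ?_⟩
      rw [← map_pow, Ideal.Quotient.eq_zero_iff_mem]
      show r ^ (n + 1) ∈ (m ^ (n + 1)).map _
      rw [Ideal.map_pow]
      exact Ideal.pow_mem_pow ((fiber_ker y hy hV r).1 hr) _
    have hmap : ∀ Q : A[X], eval₂ (π'.comp (algebraMap A (Γ(X, V) ⧸ J))) (b V) Q =
        res V (aeval a (Q.map (algebraMap A (resK y)))) := fun Q => by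
      rw [show π'.comp (algebraMap A (Γ(X, V) ⧸ J)) = (ι.app V).hom.comp (scal πX V) from rfl, hcomp,
        aeval_def, eval₂_map, hom_eval₂]
    have hev : ∀ r : Γ(X, V), aeval (Ideal.Quotient.mk J r) P = Ideal.Quotient.mk J (eval₂ (scal πX V) r P) :=
      fun r => (hom_eval₂ P (scal πX V) (Ideal.Quotient.mk J) r).symm
    obtain ⟨r₀, ⟨hr₀, hr₀'⟩, huniq⟩ := existsUnique_root π' hπ' hnil P (b := b V)
      (by rw [hmap, hg0, map_zero]) (by
        rw [hmap, ← derivative_map]
        exact hgu.map _)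
    refine ⟨?_, fun r r' h1 h2 h3 h4 => ?_⟩
    · obtain ⟨r, rfl⟩ := Ideal.Quotient.mk_surjective r₀
      exact ⟨r, hr₀, Ideal.Quotient.eq_zero_iff_mem.1 ((hev r).symm.trans hr₀')⟩
    · have e1 := huniq (Ideal.Quotient.mk J r) ⟨h1, (hev r).trans (Ideal.Quotient.eq_zero_iff_mem.2 h2)⟩
      have e2 := huniq (Ideal.Quotient.mk J r') ⟨h3, (hev r').trans (Ideal.Quotient.eq_zero_iff_mem.2 h4)⟩
      exact Ideal.Quotient.eq.1 (e1.trans e2.symm)
  choose r hr1 hr2 using fun V hV => (key V hV).1
  obtain ⟨s, hs⟩ := exists_glue_affine _ (fun V hV => qv X (m ^ (n + 1)) V (r V hV)) fun V W hV hW h => by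
    rw [qv_res, ← sub_eq_zero]
    refine (map_sub ((qMap X (m ^ (n + 1))).app W).hom _ _).symm.trans ((qv_eq_zero_iff _ hW _).2
      ((key W hW).2 _ _ ?_ ?_ (hr1 W hW) (hr2 W hW)))
    · refine (congr($(ι.naturality (homOfLE h).op) (r V hV))).trans ?_
      show ((πX).fiber y).presheaf.map _ (ι.app V (r V hV)) = _
      rw [hr1 V hV]
      show ((πX).fiber y).presheaf.map _ (((πX).fiber y).presheaf.map _ a) = ((πX).fiber y).presheaf.map _ a
      rw [← CommRingCat.comp_apply, ← Functor.map_comp]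
      rfl
    · rw [← show (X.presheaf.map (homOfLE h).op).hom.comp (scal πX V) = scal πX W from
        RingHom.ext fun c => map_scal πX h c, ← hom_eval₂, ← Ideal.map_map]
      exact Ideal.mem_map_of_mem _ (hr2 V hV)
  exact ⟨s, fun V hV => ⟨r V hV, hs V hV, hr1 V hV⟩⟩

/-- The sections of the reduction to the closed fibre lift to each thickening. -/
theorem surjective_top (n : ℕ) [Algebra.Etale ((Spec (CommRingCat.of A)).residueField y) Γ((πX).fiber y, ⊤)] :
    Function.Surjective (((CohIII.tensorAFunctor A (Coh.structureModule X)).map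
      (ModuleCat.ofHom (Ideal.Quotient.factorₐ A (Ideal.pow_le_self (I := IsLocalRing.maximalIdeal A)
        (Nat.succ_ne_zero n))).toLinearMap : QI (IsLocalRing.maximalIdeal A ^ (n + 1)) ⟶
          QI (IsLocalRing.maximalIdeal A))).app ⊤) := by
  intro t
  let m := IsLocalRing.maximalIdeal A
  let ι := (πX).fiberι y
  let T := (CohIII.tensorAFunctor A (Coh.structureModule X)).obj (QI m)
  choose r' hr' using fun V hV => qv_surjective (X := X) m hV (T.presheaf.map (homOfLE (le_top : V ≤ ⊤)).op t)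
  obtain ⟨a, ha⟩ := exists_glue_affine ((Scheme.Modules.pushforward ι).obj (Coh.structureModule ((πX).fiber y)))
    (fun V hV => ι.app V (r' V hV)) fun V W hV hW h => by
      refine (congr($(ι.naturality (homOfLE h).op) (r' V hV))).symm.trans ?_
      show ι.app W (X.presheaf.map (homOfLE h).op (r' V hV)) = ι.app W (r' W hW)
      rw [← sub_eq_zero, ← map_sub, fiber_ker y hy hW, ← qv_eq_zero_iff m hW]
      refine (map_sub ((qMap X m).app W).hom _ _).trans (sub_eq_zero.2 ?_)
      refine (qv_res m h (r' V hV)).symm.trans ?_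
      refine Eq.trans ?_ (hr' W hW).symm
      exact (congrArg _ (hr' V hV)).trans (H10Coh.mres_mres T _ h t)
  obtain ⟨s, hs⟩ := exists_lift y hy n (show Γ((πX).fiber y, ⊤) from a)
  refine ⟨s, TopCat.Sheaf.eq_of_locally_eq' (H10Coh.sheafOf T)
    (fun V : {V : X.Opens // IsAffineOpen V} => V.1) ⊤ (fun _ => homOfLE le_top) ?_ _ _ fun V => ?_⟩
  · intro x _
    obtain ⟨V, hV, hxV, -⟩ := exists_isAffineOpen_mem_and_subset (U := (⊤ : X.Opens)) (x := x) trivial
    exact Opens.mem_iSup.2 ⟨⟨V, hV⟩, hxV⟩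
  obtain ⟨r, hr1, hr2⟩ := hs V.1 V.2
  refine (congr($((Scheme.Modules.Hom.mapPresheaf ((CohIII.tensorAFunctor A (Coh.structureModule X)).map
    (ModuleCat.ofHom (Ideal.Quotient.factorₐ A (Ideal.pow_le_self (I := m) (Nat.succ_ne_zero n))).toLinearMap :
      QI (m ^ (n + 1)) ⟶ QI m))).naturality (homOfLE (le_top : V.1 ≤ ⊤)).op) s)).symm.trans ?_
  refine (congrArg _ hr1).trans ((qv_natural _ V.1 r).trans ?_)
  refine Eq.trans ?_ (hr' V.1 V.2)
  rw [← sub_eq_zero]
  refine (map_sub ((qMap X m).app V.1).hom _ _).symm.trans ((qv_eq_zero_iff m V.2 _).2 ((fiber_ker y hy V.2 _).1 ?_))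
  exact (map_sub (((πX).fiberι y).app V.1).hom r (r' V.1 V.2)).trans (sub_eq_zero.2 (hr2.trans (ha V.1 V.2)))

end Fibre

end Groth.Agent.LeadBC.Et
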