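import Groth.Agent.LeadBC.Chase
import Groth.Agent.H06FlatCx.Comparison

/-!
# A finite free complex computing the universal homology of a flat complex

For a chain complex `K` of flat modules over a Noetherian ring, universally exact in negative degrees and with
finitely generated homology, there is a complex of finite free modules in non-negative degrees with a map to `K`
that is an isomorphism on homology after tensoring with any module.
-/

set_option autoImplicit false
set_option linter.unusedSectionVars false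

universe u

open CategoryTheory CategoryTheory.Limits TensorProduct LinearMap

namespace Groth.Agent.LeadBC

open H06FlatCx

variable {A : Type u} [CommRing A] (K : ChainComplex (ModuleCat.{u} A) ℤ)

/-- Finitely many cycles spanning the homology at `j`. -/
def FinHom (i j k : ℤ) : Prop :=
  ∃ (b : ℕ) (y : Fin b → K.X j), (∀ t, (K.d j k).hom (y t) = 0) ∧
    ∀ x, (K.d j k).hom x = 0 → ∃ c : Fin b → A, x - Fintype.linearCombination A y c ∈ range (K.d i j).hom

theorem finHom_of_finite (i j k : ℤ) [Module.Finite A (H0 K i j k)] : FinHom K i j k := by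
  obtain ⟨b, q, hq⟩ := Module.Finite.exists_fin (R := A) (M := H0 K i j k)
  choose y hy using fun t => Submodule.mkQ_surjective _ (q t)
  refine ⟨b, fun t => (y t).1, fun t => (y t).2, fun x hx => ?_⟩
  have hmem : (range (toKer (H06FlatCx.d_comp_d K i j k))).mkQ ⟨x, hx⟩ ∈ Submodule.span A (Set.range q) :=
    hq ▸ Submodule.mem_top
  obtain ⟨c, hc⟩ := (Submodule.mem_span_range_iff_exists_fun A).1 hmem
  refine ⟨c, ?_⟩
  have hmk : (range (toKer (H06FlatCx.d_comp_d K i j k))).mkQ (⟨x, hx⟩ - ∑ t, c t • y t) = 0 := by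
    rw [map_sub, map_sum, ← hc, sub_eq_zero]
    exact Finset.sum_congr rfl fun t _ => by rw [map_smul, hy]
  obtain ⟨v, hv⟩ := (Submodule.Quotient.mk_eq_zero _).1 hmk
  refine ⟨v, (congrArg Subtype.val hv).trans ?_⟩
  rw [Fintype.linearCombination_apply, Submodule.coe_sub, Submodule.coe_sum]
  rfl

/-- The state of the construction in degree `k`. -/
structure St (k : ℕ) where
  /-- The rank. -/
  r : ℕ
  /-- The map to `K`. -/
  φ : (Fin r → A) →ₗ[A] K.X k
  /-- The cycles. -/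
  Z : Submodule A (Fin r → A)
  hZ : ∀ z ∈ Z, (K.d (k : ℤ) ((k : ℤ) - 1)).hom (φ z) = 0
  hs : ∀ x, (K.d (k : ℤ) ((k : ℤ) - 1)).hom x = 0 → ∃ z ∈ Z, x - φ z ∈ range (K.d ((k + 1 : ℕ) : ℤ) k).hom

variable {K} (hfin : ∀ k : ℕ, FinHom K ((k + 1 : ℕ) : ℤ) k ((k : ℤ) - 1))

include hfin in
theorem exists_init : ∃ s : St K 0, s.Z = ⊤ := by
  obtain ⟨b, y, hy, hgen⟩ := hfin 0
  exact ⟨⟨b, Fintype.linearCombination A y, ⊤, fun z _ => by
    rw [Fintype.linearCombination_apply, map_sum]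
    exact Finset.sum_eq_zero fun t _ => by rw [map_smul, hy, smul_zero], fun x hx => by
    obtain ⟨c, hc⟩ := hgen x hx
    exact ⟨c, trivial, hc⟩⟩, rfl⟩

/-- `t` continues `s`. -/
def Next {k : ℕ} (s : St K k) (t : St K (k + 1)) (D : (Fin t.r → A) →ₗ[A] (Fin s.r → A)) : Prop :=
  (∀ v, D v ∈ s.Z) ∧ s.φ ∘ₗ D = (K.d ((k + 1 : ℕ) : ℤ) k).hom ∘ₗ t.φ ∧ t.Z = ker D ∧
    ∀ z ∈ s.Z, s.φ z ∈ range (K.d ((k + 1 : ℕ) : ℤ) k).hom → z ∈ range D

include hfin in
theorem exists_next [IsNoetherianRing A] {k : ℕ} (s : St K k) :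
    ∃ (t : St K (k + 1)) (D : (Fin t.r → A) →ₗ[A] (Fin s.r → A)), Next s t D := by
  let W : Submodule A (Fin s.r → A) := s.Z ⊓ (range (K.d ((k + 1 : ℕ) : ℤ) k).hom).comap s.φ
  haveI : Module.Finite A W := Module.Finite.of_fg (IsNoetherian.noetherian W)
  obtain ⟨a, w, hw⟩ := Module.Finite.exists_fin (R := A) (M := W)
  have hc : ∀ t, ∃ c, (K.d ((k + 1 : ℕ) : ℤ) k).hom c = s.φ (w t).1 := fun t => (w t).2.2
  choose c hc using hc
  obtain ⟨b, y, hy, hgen⟩ := hfin (k + 1)
  have hk : (((k + 1 : ℕ) : ℤ) - 1) = (k : ℤ) := by omega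
  let D := Fintype.linearCombination A (Fin.append (fun t => (w t).1) (0 : Fin b → Fin s.r → A))
  let φ' := Fintype.linearCombination A (Fin.append c y)
  have hsplit : ∀ v : Fin (a + b) → A,
      D v = Fintype.linearCombination A (fun t => (w t).1) (v ∘ Fin.castAdd b) ∧
      φ' v = Fintype.linearCombination A c (v ∘ Fin.castAdd b) +
        Fintype.linearCombination A y (v ∘ Fin.natAdd a) := fun v => by
    simp [D, φ', Fintype.linearCombination_apply, Fin.sum_univ_add]
  have hcomm : s.φ ∘ₗ D = (K.d ((k + 1 : ℕ) : ℤ) k).hom ∘ₗ φ' := LinearMap.ext fun v => by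
    have hy' : ∀ t, (K.d ((k + 1 : ℕ) : ℤ) k).hom (y t) = 0 := fun t => by
      have := hy t
      rwa [hk] at this
    rw [LinearMap.comp_apply, LinearMap.comp_apply, (hsplit v).1, (hsplit v).2, map_add,
      Fintype.linearCombination_apply, Fintype.linearCombination_apply, Fintype.linearCombination_apply,
      map_sum, map_sum, map_sum, Finset.sum_eq_zero (f := fun t => (K.d ((k + 1 : ℕ) : ℤ) k).hom
        ((v ∘ Fin.natAdd a) t • y t)) (fun t _ => by rw [map_smul, hy', smul_zero]), add_zero]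
    exact Finset.sum_congr rfl fun t _ => by rw [map_smul, map_smul, hc]
  refine ⟨⟨a + b, φ', ker D, fun z hz => ?_, fun x hx => ?_⟩, D, fun v => ?_, hcomm, rfl, fun z hz hzr => ?_⟩
  · rw [hk, ← LinearMap.comp_apply, ← hcomm, LinearMap.comp_apply, LinearMap.mem_ker.1 hz, map_zero]
  · obtain ⟨cf, hcf⟩ := hgen x hx
    refine ⟨Fin.append 0 cf, ?_, ?_⟩
    · rw [LinearMap.mem_ker, (hsplit _).1]
      simp [Fintype.linearCombination_apply]
    · rw [(hsplit _).2]
      simpa [Fintype.linearCombination_apply] using hcf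
  · rw [(hsplit v).1, Fintype.linearCombination_apply]
    exact s.Z.sum_mem fun t _ => s.Z.smul_mem _ (w t).2.1
  · obtain ⟨cf, hcf⟩ := (Submodule.mem_span_range_iff_exists_fun A).1
      (hw ▸ Submodule.mem_top : (⟨z, hz, hzr⟩ : W) ∈ Submodule.span A (Set.range w))
    refine ⟨Fin.append cf 0, ?_⟩
    rw [(hsplit _).1]
    have := congrArg Subtype.val hcf
    simpa [Fintype.linearCombination_apply] using this

variable [IsNoetherianRing A]

/-- The sequence of states. -/
noncomputable def st : ∀ k, St K k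
  | 0 => (exists_init hfin).choose
  | k + 1 => (exists_next hfin (st k)).choose

/-- The differentials. -/
noncomputable def Dk (k : ℕ) : (Fin (st hfin (k + 1)).r → A) →ₗ[A] (Fin (st hfin k).r → A) :=
  (exists_next hfin (st hfin k)).choose_spec.choose

theorem next_spec (k : ℕ) : Next (st hfin k) (st hfin (k + 1)) (Dk hfin k) :=
  (exists_next hfin (st hfin k)).choose_spec.choose_spec

/-- The terms. -/
noncomputable def PX : ℤ → ModuleCat.{u} A
  | .ofNat k => ModuleCat.of A (Fin (st hfin k).r → A)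
  | .negSucc _ => ModuleCat.of A PUnit

/-- The differential between neighbours. -/
noncomputable def Pd : ∀ i : ℤ, PX hfin (i + 1) ⟶ PX hfin i
  | .ofNat k => ModuleCat.ofHom (Dk hfin k)
  | .negSucc _ => 0

theorem Pd_Pd : ∀ i : ℤ, Pd hfin (i + 1) ≫ Pd hfin i = 0
  | .ofNat k => ModuleCat.hom_ext (LinearMap.ext fun v => by
      show Dk hfin k (Dk hfin (k + 1) v) = 0
      have h := (next_spec hfin (k + 1)).1 v
      rw [(next_spec hfin k).2.2.1] at h
      exact h)
  | .negSucc _ => comp_zero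

/-- The free complex. -/
noncomputable def P : ChainComplex (ModuleCat.{u} A) ℤ := ChainComplex.of (PX hfin) (Pd hfin) (Pd_Pd hfin)

/-- The components of the map to `K`. -/
noncomputable def Pf : ∀ i : ℤ, PX hfin i ⟶ K.X i
  | .ofNat k => ModuleCat.ofHom (st hfin k).φ
  | .negSucc _ => 0

theorem Pf_comm : ∀ i : ℤ, Pf hfin (i + 1) ≫ K.d (i + 1) i = Pd hfin i ≫ Pf hfin i
  | .ofNat k => ModuleCat.hom_ext (next_spec hfin k).2.1.symm
  | .negSucc 0 => ModuleCat.hom_ext (LinearMap.ext fun v => by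
      have hZ : (st hfin 0).Z = ⊤ := (exists_init hfin).choose_spec
      have h := (st hfin 0).hZ v (hZ ▸ Submodule.mem_top)
      exact h)
  | .negSucc (_ + 1) => zero_comp.trans zero_comp.symm

/-- The map to `K`. -/
noncomputable def Pφ : P hfin ⟶ K where
  f := Pf hfin
  comm' i j h := by
    obtain rfl : j + 1 = i := h
    exact (Pf_comm hfin j).trans (congrArg (· ≫ Pf hfin j) (ChainComplex.of_d (PX hfin) (Pd hfin) j).symm)

theorem finite_free : ∀ i : ℤ, Module.Finite A ((P hfin).X i) ∧ Module.Free A ((P hfin).X i)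
  | .ofNat k => ⟨inferInstanceAs (Module.Finite A (Fin _ → A)), inferInstanceAs (Module.Free A (Fin _ → A))⟩
  | .negSucc _ => ⟨inferInstanceAs (Module.Finite A PUnit.{u + 1}), inferInstanceAs (Module.Free A PUnit.{u + 1})⟩

theorem subsingleton_neg : ∀ {i : ℤ}, i < 0 → Subsingleton ((P hfin).X i)
  | .ofNat k, h => absurd h (by simp)
  | .negSucc _, _ => inferInstanceAs (Subsingleton PUnit.{u + 1})

theorem isZero_neg {i : ℤ} (h : i < 0) : IsZero ((P hfin).X i) :=
  haveI := subsingleton_neg hfin h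
  ModuleCat.isZero_of_subsingleton _

theorem P_d (k : ℕ) : (P hfin).d ((k + 1 : ℕ) : ℤ) k = ModuleCat.ofHom (Dk hfin k) :=
  ChainComplex.of_d (PX hfin) (Pd hfin) (k : ℤ)

theorem P_d_apply (k : ℕ) (v : Fin (st hfin (k + 1)).r → A) :
    ((P hfin).d ((k + 1 : ℕ) : ℤ) k).hom v = Dk hfin k v :=
  congrArg (fun f => ModuleCat.Hom.hom f v) (P_d hfin k)

theorem qis0 (k : ℕ) :
    (∀ z, (K.d (k : ℤ) ((k : ℤ) - 1)).hom z = 0 → ∃ w, ((P hfin).d (k : ℤ) ((k : ℤ) - 1)).hom w = 0 ∧
      z - ((Pφ hfin).f (k : ℤ)).hom w ∈ range (K.d ((k + 1 : ℕ) : ℤ) k).hom) ∧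
    ∀ w, ((P hfin).d (k : ℤ) ((k : ℤ) - 1)).hom w = 0 →
      ((Pφ hfin).f (k : ℤ)).hom w ∈ range (K.d ((k + 1 : ℕ) : ℤ) k).hom →
      w ∈ range ((P hfin).d ((k + 1 : ℕ) : ℤ) k).hom := by
  have hker : ∀ w : Fin (st hfin k).r → A, ((P hfin).d (k : ℤ) ((k : ℤ) - 1)).hom w = 0 ↔ w ∈ (st hfin k).Z := by
    rcases k with - | k
    · intro w
      haveI := subsingleton_neg hfin (show ((0 : ℕ) : ℤ) - 1 < 0 by simp)
      refine ⟨fun _ => ?_, fun _ => Subsingleton.elim _ _⟩
      rw [show (st hfin 0).Z = ⊤ from (exists_init hfin).choose_spec]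
      trivial
    · intro w
      rw [show (((k + 1 : ℕ) : ℤ) - 1) = (k : ℤ) by omega, (next_spec hfin k).2.2.1, LinearMap.mem_ker]
      exact Iff.of_eq (congrArg (· = 0) (P_d_apply hfin k w))
  refine ⟨fun z hz => ?_, fun w hw hwr => ?_⟩
  · obtain ⟨w, hw, h⟩ := (st hfin k).hs z hz
    exact ⟨w, (hker w).2 hw, h⟩
  · obtain ⟨v, hv⟩ := (next_spec hfin k).2.2.2 w ((hker w).1 hw) hwr
    exact ⟨v, (P_d_apply hfin k v).trans hv⟩

/-- Universal quasi-isomorphism. -/
theorem qis (hflat : ∀ i, Module.Flat A (K.X i))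
    (hlow : ∀ i j k : ℤ, j + 1 = i → k + 1 = j → j < 0 → ∀ (M : Type u) [AddCommGroup M] [Module A M],
      ∀ z : K.X j ⊗[A] M, (K.d j k).hom.rTensor M z = 0 → z ∈ range ((K.d i j).hom.rTensor M))
    (i j k : ℤ) (hij : j + 1 = i) (hjk : k + 1 = j) (M : Type u) [AddCommGroup M] [Module A M] :
    QSurj ((P hfin).d j k).hom (K.d i j).hom (K.d j k).hom ((Pφ hfin).f j).hom M ∧
      QInj ((P hfin).d i j).hom ((P hfin).d j k).hom (K.d i j).hom ((Pφ hfin).f j).hom M := by
  haveI := hflat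
  have hflatP : ∀ i, Module.Flat A ((P hfin).X i) := fun i => by
    haveI := (finite_free hfin i).2
    infer_instance
  haveI := hflatP
  have low : ∀ i j k : ℤ, j + 1 = i → k + 1 = j → j < 0 → ∀ (M : Type u) [AddCommGroup M] [Module A M],
      QSurj ((P hfin).d j k).hom (K.d i j).hom (K.d j k).hom ((Pφ hfin).f j).hom M ∧
      QInj ((P hfin).d i j).hom ((P hfin).d j k).hom (K.d i j).hom ((Pφ hfin).f j).hom M := by
    intro i j k hij hjk hj M _ _
    haveI := subsingleton_neg hfin hj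
    exact ⟨fun z hz => ⟨0, map_zero _, by rw [map_zero, sub_zero]; exact hlow i j k hij hjk hj M z hz⟩,
      fun w _ _ => by rw [show w = 0 from Subsingleton.elim _ _]; exact zero_mem _⟩
  have main : ∀ n : ℕ, ∀ i j k : ℤ, j + 1 = i → k + 1 = j → j + 1 = n →
      ∀ (M : Type u) [AddCommGroup M] [Module A M],
      QSurj ((P hfin).d j k).hom (K.d i j).hom (K.d j k).hom ((Pφ hfin).f j).hom M ∧
      QInj ((P hfin).d i j).hom ((P hfin).d j k).hom (K.d i j).hom ((Pφ hfin).f j).hom M := by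
    intro n
    induction n with
    | zero => intro i j k hij hjk hn; exact low i j k hij hjk (by omega)
    | succ n ih =>
      intro i j k hij hjk hn
      obtain rfl : j = (n : ℤ) := by omega
      obtain rfl : i = ((n + 1 : ℕ) : ℤ) := by omega
      obtain rfl : k = (n : ℤ) - 1 := by omega
      have hq := qis0 hfin n
      have hc := fun a b : ℤ => congrArg ModuleCat.Hom.hom ((Pφ hfin).comm a b).symm
      have hk := fun (M : Type u) [AddCommGroup M] [Module A M] =>
        ih (n : ℤ) ((n : ℤ) - 1) ((n : ℤ) - 1 - 1) (by omega) (by omega) (by omega) M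
      have hS := fun (M : Type u) [AddCommGroup M] [Module A M] =>
        qSurj_step ((P hfin).d (n : ℤ) ((n : ℤ) - 1)).hom ((P hfin).d ((n : ℤ) - 1) ((n : ℤ) - 1 - 1)).hom
          (K.d ((n + 1 : ℕ) : ℤ) n).hom (K.d (n : ℤ) ((n : ℤ) - 1)).hom (K.d ((n : ℤ) - 1) ((n : ℤ) - 1 - 1)).hom
          ((Pφ hfin).f n).hom ((Pφ hfin).f ((n : ℤ) - 1)).hom (hc _ _) (H06FlatCx.d_comp_d K _ _ _) hq.1
          (fun M => (hk M).1) (fun M => (hk M).2) M
      intro M _ _
      exact ⟨hS M, qInj_step ((P hfin).d ((n + 1 : ℕ) : ℤ) n).hom ((P hfin).d (n : ℤ) ((n : ℤ) - 1)).hom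
        ((P hfin).d ((n : ℤ) - 1) ((n : ℤ) - 1 - 1)).hom (K.d ((n + 1 : ℕ) : ℤ) n).hom
        (K.d (n : ℤ) ((n : ℤ) - 1)).hom ((Pφ hfin).f n).hom ((Pφ hfin).f ((n : ℤ) - 1)).hom
        ((Pφ hfin).f ((n + 1 : ℕ) : ℤ)).hom (H06FlatCx.d_comp_d (P hfin) _ _ _)
        (H06FlatCx.d_comp_d (P hfin) _ _ _) (H06FlatCx.d_comp_d K _ _ _) (hc _ _) (hc _ _) hq.2
        (fun M => hS M) (fun M => (hk M).2) M⟩
  by_cases hj : j < 0
  · exact low i j k hij hjk hj M
  · exact main (j + 1).toNat i j k hij hjk (by omega) M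

end Groth.Agent.LeadBC
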