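import Groth.Agent.LeadBC.TensorCech
import Groth.Agent.LeadBC.FreeApprox
import Groth.Agent.H10Coh.Proper2
import Mathlib.Algebra.Homology.Embedding.ExtendHomology

/-!
# A complex of finite free modules computing `M ↦ H^p(X, f^*(M~) ⊗ F)`
-/

set_option autoImplicit false
set_option linter.style.haveILetI false
set_option linter.unusedSectionVars false

universe u

open AlgebraicGeometry CategoryTheory CategoryTheory.Limits TopologicalSpace Opposite ZeroObject MonoidalCategory
open scoped TensorProduct

namespace Groth.Agent.LeadBC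

open Groth.Agent.LeadFF Groth.Agent.H15Site

section Extend

variable {C D : Type*} [Category C] [Category D] [Preadditive C] [Preadditive D] [HasZeroObject C] [HasZeroObject D]
  {κ κ' : Type*} {c : ComplexShape κ} {c' : ComplexShape κ'}

/-- An additive functor on the terms of an extended complex. -/
noncomputable def mapExtendX (G : C ⥤ D) [G.Additive] (K : HomologicalComplex C c) : ∀ o : Option κ,
    G.obj (HomologicalComplex.extend.X K o) ≅ HomologicalComplex.extend.X ((G.mapHomologicalComplex c).obj K) o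
  | some _ => Iso.refl _
  | none => (G.map_isZero (isZero_zero C)).isoZero

theorem mapExtendX_d (G : C ⥤ D) [G.Additive] (K : HomologicalComplex C c) : ∀ o o' : Option κ,
    (mapExtendX G K o).hom ≫ HomologicalComplex.extend.d ((G.mapHomologicalComplex c).obj K) o o' =
      G.map (HomologicalComplex.extend.d K o o') ≫ (mapExtendX G K o').hom
  | some _, some _ => (Category.id_comp _).trans (Category.comp_id _).symm
  | some _, none => (isZero_zero D).eq_of_tgt _ _
  | none, _ => (G.map_isZero (isZero_zero C)).eq_of_src _ _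

/-- An additive functor commutes with extension. -/
noncomputable def mapExtend (G : C ⥤ D) [G.Additive] (K : HomologicalComplex C c) (e : c.Embedding c') :
    (G.mapHomologicalComplex c').obj (K.extend e) ≅ ((G.mapHomologicalComplex c).obj K).extend e :=
  HomologicalComplex.Hom.isoOfComponents (fun i => mapExtendX G K (e.r i)) fun _ _ _ => mapExtendX_d G K _ _

theorem mapExtend_natural {G G' : C ⥤ D} [G.Additive] [G'.Additive] (α : G ⟶ G') (K : HomologicalComplex C c)
    (e : c.Embedding c') :
    (NatTrans.mapHomologicalComplex α c').app (K.extend e) ≫ (mapExtend G' K e).hom =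
      (mapExtend G K e).hom ≫ HomologicalComplex.extendMap ((NatTrans.mapHomologicalComplex α c).app K) e := by
  refine HomologicalComplex.hom_ext _ _ fun i => ?_
  show α.app (HomologicalComplex.extend.X K (e.r i)) ≫ (mapExtendX G' K (e.r i)).hom =
    (mapExtendX G K (e.r i)).hom ≫
      HomologicalComplex.extend.mapX ((NatTrans.mapHomologicalComplex α c).app K) (e.r i)
  generalize e.r i = o
  cases o with
  | none => exact (isZero_zero D).eq_of_tgt _ _
  | some p => exact (Category.comp_id _).trans (Category.id_comp _).symm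

end Extend

/-- Degree `p` goes to degree `N - p`. -/
def embN (N : ℕ) : (ComplexShape.up ℕ).Embedding (ComplexShape.down ℤ) :=
  ComplexShape.Embedding.mk' _ _ (fun p => (N : ℤ) - p) (fun a b h => by simpa using h)
    (fun i j => by simp only [ComplexShape.up_Rel, ComplexShape.down_Rel]; omega)

instance (N : ℕ) : (embN N).IsRelIff :=
  ⟨fun i j h => by
    change (N : ℤ) - j + 1 = (N : ℤ) - i at h
    change i + 1 = j
    omega⟩

theorem embN_f (N p : ℕ) : (embN N).f p = (N : ℤ) - p := rfl

variable (A : Type u) [CommRing A]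

section Generic

variable {P K : ChainComplex (ModuleCat.{u} A) ℤ} (φ : P ⟶ K)

/-- `φ ⊗ M`. -/
noncomputable abbrev tensorφ (M : ModuleCat.{u} A) : CohIII.tensorObj P M ⟶ CohIII.tensorObj K M :=
  ((tensorRight M).mapHomologicalComplex (ComplexShape.down ℤ)).map φ

theorem tensorφ_natural {M M' : ModuleCat.{u} A} (g : M ⟶ M') :
    CohIII.tensorMap P g ≫ tensorφ A φ M' = tensorφ A φ M ≫ CohIII.tensorMap K g :=
  ((NatTrans.mapHomologicalComplex ((tensoringRight (ModuleCat.{u} A)).map g) (ComplexShape.down ℤ)).naturality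
    φ).symm

theorem tensorφ_f (M : ModuleCat.{u} A) (j : ℤ) :
    ((tensorφ A φ M).f j).hom = (φ.f j).hom.rTensor M := rfl

theorem bijective_homologyMap_tensor {i j k : ℤ} (hij : j + 1 = i) (hjk : k + 1 = j) (M : ModuleCat.{u} A)
    (hS : QSurj (P.d j k).hom (K.d i j).hom (K.d j k).hom (φ.f j).hom M)
    (hI : QInj (P.d i j).hom (P.d j k).hom (K.d i j).hom (φ.f j).hom M) :
    Function.Bijective (HomologicalComplex.homologyMap (tensorφ A φ M) j).hom := by
  have hi : (ComplexShape.down ℤ).prev j = i := ComplexShape.prev_eq' _ hij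
  have hk : (ComplexShape.down ℤ).next j = k := ComplexShape.next_eq' _ hjk
  have hmap : ∀ w : LinearMap.ker ((P.d j k).hom.rTensor M),
      ∃ hw, (HomologicalComplex.homologyMap (tensorφ A φ M) j).hom (H06FlatCx.tcls P hk M w) =
        H06FlatCx.tcls K hk M ⟨(φ.f j).hom.rTensor M w, hw⟩ := fun w =>
    ⟨_, H06FlatCx.homologyMap_cls (tensorφ A φ M) hk w⟩
  refine ⟨(injective_iff_map_eq_zero _).2 fun t ht => ?_, fun s => ?_⟩
  · obtain ⟨w, rfl⟩ := H06FlatCx.tcls_surjective P hk M t
    obtain ⟨hw, h⟩ := hmap w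
    exact (H06FlatCx.tcls_eq_zero_iff P hi hk M w).2
      (hI w w.2 ((H06FlatCx.tcls_eq_zero_iff K hi hk M _).1 (h.symm.trans ht)))
  · obtain ⟨z, rfl⟩ := H06FlatCx.tcls_surjective K hk M s
    obtain ⟨w, hw, h⟩ := hS z z.2
    obtain ⟨hw', h'⟩ := hmap ⟨w, hw⟩
    refine ⟨H06FlatCx.tcls P hk M ⟨w, hw⟩, h'.trans ?_⟩
    refine (H06FlatCx.cls_eq_iff (CohIII.tensorObj K M) hi hk _ _).2 ?_
    obtain ⟨v, hv⟩ := h
    exact ⟨-v, (map_neg ((K.d i j).hom.rTensor M) v).trans ((congrArg Neg.neg hv).trans (neg_sub _ _))⟩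

end Generic

variable {X : Scheme.{u}} [X.Over (Spec (CommRingCat.of A))]

/-- Cohomology as `A`-modules. -/
noncomputable def HMod (p : ℕ) : X.Modules ⥤ ModuleCat.{u} A where
  obj G := ModuleCat.of A (Coh.HH X G p)
  map {G G'} f := ModuleCat.ofHom
    { Hm f p with
      map_smul' := fun a x => by
        show Hm f p (a • x) = a • Hm f p x
        rw [← Hm_smulMod, ← Hm_smulMod, ← Hm_comp, ← Hm_comp, smulMod_natural] }
  map_id G := ModuleCat.hom_ext (LinearMap.ext fun x => Hm_id G p x)
  map_comp f g := ModuleCat.hom_ext (LinearMap.ext fun x => Hm_comp f g p x)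

/-- Its underlying group is the frozen functor. -/
noncomputable def hModForget (p : ℕ) : HMod A (X := X) p ⋙ forget₂ (ModuleCat.{u} A) AddCommGrpCat.{u} ≅ CohIII.HAb X p :=
  NatIso.ofComponents (fun _ => Iso.refl _) fun _ => rfl

variable {A} {ι : Type u} {U : ι → X.Opens} (F : X.Modules)

variable (U) in
/-- The Čech complex of `F` placed in chain degrees `N, N - 1, …`. -/
noncomputable abbrev KD (N : ℕ) : ChainComplex (ModuleCat.{u} A) ℤ := (KC A U F).extend (embN N)

theorem flat_KD [F.IsQuasicoherent] [Finite ι] (hU : GoodCover U)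
    (hfl : FlatMod.IsFlatOver (X ↘ Spec (CommRingCat.of A)) F) (N : ℕ) (i : ℤ) :
    Module.Flat A ((KD U F N (A := A)).X i) := by
  by_cases h : ∃ p, (embN N).f p = i
  · obtain ⟨p, hp⟩ := h
    haveI := flat_Kp A hU hfl p
    exact Module.Flat.of_linearEquiv ((KC A U F).extendXIso (embN N) hp).toLinearEquiv
  · haveI : Subsingleton ((KD U F N (A := A)).X i) := ModuleCat.subsingleton_of_isZero
      ((KC A U F).isZero_extend_X (embN N) i fun p hp => h ⟨p, hp⟩)
    infer_instance

variable [F.IsQuasicoherent] [Finite ι] (hU : GoodCover U)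

/-- `H_j(KD ⊗ M) ≅ H^p(X, f^*(M~) ⊗ F)`, `j = N - p`. -/
noncomputable def eKD (N p : ℕ) {j : ℤ} (hj : (embN N).f p = j) (M : ModuleCat.{u} A) :
    CohIII.T (KD U F N) j M ≅ (CohIII.tensorAFunctor A F ⋙ HMod A p).obj M :=
  haveI := isQCoh_GM A F M
  haveI := isIso_τC A F hU M
  HomologicalComplex.homologyMapIso (mapExtend (tensorRight M) (KC A U F) (embN N)) j ≪≫
    HomologicalComplex.extendHomologyIso _ (embN N) hj ≪≫
      HomologicalComplex.homologyMapIso (asIso (τC A F M)) p ≪≫ (eHH A hU _ p).toModuleIso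

theorem eKD_natural (N p : ℕ) {j : ℤ} (hj : (embN N).f p = j) {M M' : ModuleCat.{u} A} (g : M ⟶ M') :
    HomologicalComplex.homologyMap (CohIII.tensorMap (KD U F N) g) j ≫ (eKD F hU N p hj M').hom =
      (eKD F hU N p hj M).hom ≫ (CohIII.tensorAFunctor A F ⋙ HMod A p).map g := by
  haveI := isQCoh_GM A F M
  haveI := isQCoh_GM A F M'
  haveI := isIso_τC A F hU M
  haveI := isIso_τC A F hU M'
  simp only [eKD, Iso.trans_hom, HomologicalComplex.homologyMapIso_hom, asIso_hom, Category.assoc]
  have h1 := mapExtend_natural ((tensoringRight (ModuleCat.{u} A)).map g) (KC A U F) (embN N)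
  rw [← Category.assoc, ← HomologicalComplex.homologyMap_comp]
  erw [h1]
  rw [HomologicalComplex.homologyMap_comp, Category.assoc]
  refine congrArg (_ ≫ ·) ?_
  rw [← Category.assoc, HomologicalComplex.extendHomologyIso_hom_naturality, Category.assoc]
  refine congrArg (_ ≫ ·) ?_
  have h2 : HomologicalComplex.homologyMap (CohIII.tensorMap (KC A U F) g) p ≫
      HomologicalComplex.homologyMap (τC A F M') p = HomologicalComplex.homologyMap (τC A F M) p ≫
      HomologicalComplex.homologyMap ((KCF A U).map ((CohIII.tensorAFunctor A F).map g)) p :=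
    (HomologicalComplex.homologyMap_comp _ _ p).symm.trans
      ((congrArg (fun φ => HomologicalComplex.homologyMap φ p) (τC_natural A F g)).trans
        (HomologicalComplex.homologyMap_comp _ _ p))
  have h3 : HomologicalComplex.homologyMap ((KCF A U).map ((CohIII.tensorAFunctor A F).map g)) p ≫
      (eHH A hU ((CohIII.tensorAFunctor A F).obj M') p).toModuleIso.hom =
      (eHH A hU ((CohIII.tensorAFunctor A F).obj M) p).toModuleIso.hom ≫
        (CohIII.tensorAFunctor A F ⋙ HMod A p).map g :=
    ModuleCat.hom_ext (LinearMap.ext fun x => eHH_natural A hU _ p x)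
  exact (Category.assoc _ _ _).symm.trans ((congrArg (· ≫ _) h2).trans ((Category.assoc _ _ _).trans
    ((congrArg (_ ≫ ·) h3).trans (Category.assoc _ _ _).symm)))

variable (A) in
/-- Vanishing of the cohomology of quasi-coherent modules from degree `N` on. -/
def HBound (X : Scheme.{u}) (N : ℕ) : Prop :=
  ∀ G : X.Modules, G.IsQuasicoherent → ∀ p, N ≤ p → Subsingleton (Coh.HH X G p)

include hU in
theorem universallyExact_neg {N : ℕ} (hN : HBound X N) (i j k : ℤ) (hij : j + 1 = i) (hjk : k + 1 = j)
    (hj : j < 0) (M : Type u) [AddCommGroup M] [Module A M] (z : (KD U F N (A := A)).X j ⊗[A] M)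
    (hz : ((KD U F N (A := A)).d j k).hom.rTensor M z = 0) :
    z ∈ LinearMap.range (((KD U F N (A := A)).d i j).hom.rTensor M) := by
  obtain ⟨p, rfl⟩ : ∃ p : ℕ, (N : ℤ) - p = j := ⟨((N : ℤ) - j).toNat, by omega⟩
  have hp : N ≤ p := by omega
  have hsub : Subsingleton (Coh.HH X ((CohIII.tensorAFunctor A F).obj (ModuleCat.of A M)) p) :=
    hN _ (isQCoh_GM A F _) p hp
  have hsub' : Subsingleton (CohIII.T (KD U F N (A := A)) ((N : ℤ) - p) (ModuleCat.of A M)) :=
    (eKD F hU N p rfl (ModuleCat.of A M)).toLinearEquiv.toEquiv.subsingleton_congr.2 hsub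
  exact (H06FlatCx.tcls_eq_zero_iff (KD U F N (A := A)) (ComplexShape.prev_eq' _ hij)
    (ComplexShape.next_eq' _ hjk) (ModuleCat.of A M) ⟨z, hz⟩).1 (hsub'.elim _ _)

/-- The structure of a model of the cohomology of the twists of `F`. -/
structure Model (X : Scheme.{u}) [X.Over (Spec (CommRingCat.of A))] (F : X.Modules) (U : ι → X.Opens) where
  /-- The bound. -/
  N : ℕ
  bound : HBound X N
  /-- The complex. -/
  P : ChainComplex (ModuleCat.{u} A) ℤ
  finite_free : ∀ i, Module.Finite A (P.X i) ∧ Module.Free A (P.X i)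
  isZero_neg : ∀ i, i < 0 → IsZero (P.X i)
  /-- The map to the Čech complex. -/
  φ : P ⟶ KD U F N
  qis : ∀ (j : ℤ) (M : ModuleCat.{u} A), Function.Bijective (HomologicalComplex.homologyMap (tensorφ A φ M) j).hom

theorem exists_bound_HH (A : Type u) [CommRing A] (X : Scheme.{u}) [X.Over (Spec (CommRingCat.of A))]
    [QuasiCompact (X ↘ Spec (CommRingCat.of A))] [QuasiSeparated (X ↘ Spec (CommRingCat.of A))] :
    ∃ N, HBound X N :=
  haveI : CompactSpace X := QuasiCompact.compactSpace_of_compactSpace (X ↘ Spec (CommRingCat.of A))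
  haveI : QuasiSeparatedSpace X := quasiSeparatedSpace_of_quasiSeparated (X ↘ Spec (CommRingCat.of A))
  H10Coh.exists_bound

/-- Models exist when the cohomology of `F` is finite. -/
theorem nonempty_model [IsNoetherianRing A] (hU : GoodCover U)
    (hfl : FlatMod.IsFlatOver (X ↘ Spec (CommRingCat.of A)) F)
    (hfin : ∀ p, Module.Finite A (Coh.HH X F p)) {N : ℕ} (hN : HBound X N) :
    Nonempty (Model (A := A) X F U) := by
  have hfin' : ∀ k : ℕ, FinHom (KD U F N (A := A)) ((k + 1 : ℕ) : ℤ) k ((k : ℤ) - 1) := fun k => by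
    have hi : (ComplexShape.down ℤ).prev (k : ℤ) = ((k + 1 : ℕ) : ℤ) :=
      (H06FlatCx.down_prev _).trans (by omega)
    haveI : Module.Finite A ((KD U F N (A := A)).homology (k : ℤ)) := by
      by_cases hk : k ≤ N
      · obtain ⟨p, hp⟩ : ∃ p : ℕ, (N : ℤ) - p = k := ⟨N - k, by omega⟩
        haveI := hfin p
        exact Module.Finite.equiv (((KC A U F).extendHomologyIso (embN N) hp ≪≫
          (eHH A hU F p).toModuleIso).toLinearEquiv).symm
      · haveI : Subsingleton ((KD U F N (A := A)).homology (k : ℤ)) := ModuleCat.subsingleton_of_isZero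
          ((HomologicalComplex.exactAt_iff_isZero_homology _ _).1
            ((KC A U F).extend_exactAt (embN N) (k : ℤ) fun p hp => by rw [embN_f] at hp; omega))
        infer_instance
    haveI : Module.Finite A (H06FlatCx.H0 (KD U F N (A := A)) ((k + 1 : ℕ) : ℤ) k ((k : ℤ) - 1)) :=
      Module.Finite.equiv (H06FlatCx.h0Equiv _ hi (H06FlatCx.down_next _)).symm
    exact finHom_of_finite _ _ _ _
  refine ⟨{ N := N, bound := hN, P := P hfin', finite_free := finite_free hfin',
            isZero_neg := fun i hi => isZero_neg hfin' hi, φ := Pφ hfin', qis := fun j M => ?_ }⟩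
  have h := qis hfin' (fun i => flat_KD F hU hfl N i)
    (fun i j k hij hjk hj M _ _ z hz => universallyExact_neg F hU hN i j k hij hjk hj M z hz)
    (j + 1) j (j - 1) rfl (sub_add_cancel j 1) M
  exact bijective_homologyMap_tensor A (Pφ hfin') rfl (sub_add_cancel j 1) M h.1 h.2

variable {F}

/-- The natural isomorphism given by a model. -/
noncomputable def Model.iso (m : Model (A := A) X F U) (hU : GoodCover U) (p : ℕ) :
    CohIII.TFun m.P ((m.N : ℤ) - p) ≅ CohIII.tensorAFunctor A F ⋙ HMod A p :=
  NatIso.ofComponents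
    (fun M => (LinearEquiv.ofBijective _ (m.qis ((m.N : ℤ) - p) M)).toModuleIso ≪≫ eKD F hU m.N p rfl M)
    (fun {M M'} g => by
      show HomologicalComplex.homologyMap (CohIII.tensorMap m.P g) _ ≫
          HomologicalComplex.homologyMap (tensorφ A m.φ M') _ ≫ (eKD F hU m.N p rfl M').hom =
        (HomologicalComplex.homologyMap (tensorφ A m.φ M) _ ≫ (eKD F hU m.N p rfl M).hom) ≫ _
      rw [← Category.assoc, ← HomologicalComplex.homologyMap_comp, tensorφ_natural,
        HomologicalComplex.homologyMap_comp, Category.assoc, eKD_natural, Category.assoc])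

end Groth.Agent.LeadBC
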