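import Groth.Agent.LeadBC.GenBC.AppIso
import Groth.Agent.LeadBC.GenBC.Rank
import Groth.Agent.H10Coh.Pn.Results
import Groth.Agent.H11Ample.Counit
import Groth.Agent.H11Ample.Tensor
import Groth.Agent.H10Coh.SheafHom.Flat
import Groth.Agent.H23Para.Restrict
import Groth.Prelude.Def_ega3

/-!
# Invertible modules trivial on the fibres come from the base, over a reduced base
-/

set_option autoImplicit false
set_option linter.style.haveILetI false
set_option linter.unusedSectionVars false

universe u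

open CategoryTheory CategoryTheory.Limits AlgebraicGeometry Opposite TopologicalSpace
open scoped TensorProduct

namespace Groth.Agent.LeadBC.Seesaw

open Groth.Agent.H11Tilde Groth.Agent.LeadBC.GenBC Groth.Agent.H10Coh

attribute [local instance 10000] H10Coh.hasSheafifyAb H10Coh.hasWeakSheafifyAb H10Coh.hasExtAb H10Coh.enoughInjAb

variable {X S : Scheme.{u}} (f : X ⟶ S) (L : X.Modules)

/-- A trivial invertible module on a fibre with only constants has one dimensional sections. -/
theorem fiberRank_eq_one {s : S} (hK : IsIso (f.fiberToSpecResidueField s).appTop)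
    (e : CohIII.fiberMod f L s ≅ Coh.structureModule (f.fiber s)) : CohIII.fiberRank f L 0 s = 1 := by
  let g : Γ(CohIII.fiberMod f L s, ⊤) := e.inv.app ⊤ (H11Ample.one ⊤)
  have hg : IsGen _ g := H11Ample.isGen_map_iso e.symm (H11Ample.isGen_one ⊤)
  have hb : Function.Bijective fun c : Γ(f.fiber s, ⊤) => c • g := by
    refine Eq.mpr (congrArg Function.Bijective (funext fun c => ?_)) (hg.bijective le_rfl)
    rw [H10Coh.mres_self]
  have hk : Function.Bijective (algebraMap (S.residueField s) Γ(f.fiber s, ⊤)) :=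
    show Function.Bijective ((f.fiberToSpecResidueField s).appTop ∘ (Scheme.ΓSpecIso (S.residueField s)).inv) from
      (ConcreteCategory.bijective_of_isIso (f.fiberToSpecResidueField s).appTop).comp
        (ConcreteCategory.bijective_of_isIso (Scheme.ΓSpecIso (S.residueField s)).inv)
  let E := H10Coh.HH0Equiv (CohIII.fiberMod f L s)
  let ψ : S.residueField s →ₗ[S.residueField s] CohIII.fiberH f L s 0 :=
    LinearMap.toSpanSingleton _ _ (E.symm g)
  have hψ : Function.Bijective ψ := by
    refine (Function.Bijective.of_comp_iff' E.bijective _).1 ?_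
    refine Eq.mpr (congrArg Function.Bijective (funext fun c => ?_)) (hb.comp hk)
    refine (H10Coh.HH0Equiv_smul (CohIII.fiberMod f L s) (algebraMap _ Γ(f.fiber s, ⊤) c) (E.symm g)).trans ?_
    exact congrArg (algebraMap _ Γ(f.fiber s, ⊤) c • ·) (E.apply_symm_apply g)
  exact (LinearEquiv.ofBijective ψ hψ).finrank_eq.symm.trans (Module.finrank_self _)

/-- The degree zero base change on a section is the pulled back section. -/
theorem locLin_τ₀ {X' S' : Scheme.{u}} {g : S' ⟶ S} {g' : X' ⟶ X} {f' : X' ⟶ S'} (h : IsPullback g' f' f g)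
    {V : S.Opens} {W : S'.Opens} (hle : W ≤ g ⁻¹ᵁ V) (hle' : f' ⁻¹ᵁ W ≤ g' ⁻¹ᵁ (f ⁻¹ᵁ V))
    (m : Γ((Scheme.Modules.pushforward f).obj L, V)) :
    H10Coh.rs ((Scheme.Modules.pushforward f').obj ((Scheme.Modules.pullback g').obj L)) hle ((GenBC.τ₀ f L h).app V m) =
      (show Γ((Scheme.Modules.pushforward f').obj ((Scheme.Modules.pullback g').obj L), W) from
      H10Coh.rs ((Scheme.Modules.pullback g').obj L) hle' (OmegaSh.pullSect g' L (f ⁻¹ᵁ V) m)) := by
  refine Eq.trans (congrArg _ (FBC.τPush_app h _ V m)) ?_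
  exact H10Coh.rs_rs ((Scheme.Modules.pullback g').obj L) (FBC.preimage_swap h V).le (f'.preimage_mono hle) _

/-- Germs do not see restriction. -/
theorem germ_rs {N : X.Modules} {U V : X.Opens} (h : V ≤ U) (t : Γ(N, U)) (x : X) (hx : x ∈ V) :
    N.presheaf.germ V x hx (H10Coh.rs N h t) = N.presheaf.germ U x (h hx) t :=
  TopCat.Presheaf.germ_res_apply N.presheaf (homOfLE h) x hx t

variable [IsProper f] [Flat f] [LocallyOfFinitePresentation f]

/-- An invertible module trivial on one fibre whose sections spread out there is generated by one section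
near that fibre. -/
theorem exists_gen_nhd_at (hL : PicF.IsInvertible L) {s : S} (hK : IsIso (f.fiberToSpecResidueField s).appTop)
    (hE : ∃ (W : S.Opens) (hW : IsAffineOpen W), s ∈ W ∧ EpiOn f L hW 0)
    (htriv : Nonempty (CohIII.fiberMod f L s ≅ Coh.structureModule (f.fiber s))) :
    ∃ (V : S.Opens) (t : Γ(L, f ⁻¹ᵁ V)), s ∈ V ∧ IsGen L t := by
  have hlf := H23Para.isFinLocFree_of_isInvertible hL
  have hfp : CohB1.IsFP L := H8Props.FinLocFree.isFP_of_isFinLocFree L hlf
  have hfl : FlatMod.IsFlatOver f L := H10Coh.SheafHom.isFlatOver_of_isFinLocFree f L hlf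
  haveI : L.IsQuasicoherent := H29Fitt.isQCoh_of_isFP L hfp
  haveI := H10Coh.enoughInjMod X
  obtain ⟨V, hV, hs, -⟩ := exists_isAffineOpen_mem_and_subset (U := (⊤ : S.Opens)) (x := s) trivial
  have hsq : IsPullback (f.fiberι s) (f.fiberToSpecResidueField s) f (S.fromSpecResidueField s) :=
    IsPullback.of_hasPullback f (S.fromSpecResidueField s)
  haveI : Subsingleton (Spec (S.residueField s)) := inferInstanceAs (Subsingleton (PrimeSpectrum (S.residueField s)))
  have hle : (⊤ : (Spec (S.residueField s)).Opens) ≤ S.fromSpecResidueField s ⁻¹ᵁ V := fun z _ => by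
    show S.fromSpecResidueField s z ∈ V
    rw [Scheme.fromSpecResidueField_apply]
    exact hs
  haveI := isIso_bc_zero f L hsq hfp hfl fun z => by
    rw [Scheme.fromSpecResidueField_apply]; exact hE
  letI := ((S.fromSpecResidueField s).appLE V ⊤ hle).hom.toAlgebra
  letI := Module.compHom Γ((Scheme.Modules.pushforward (f.fiberToSpecResidueField s)).obj
      ((Scheme.Modules.pullback (f.fiberι s)).obj L), ⊤)
    ((S.fromSpecResidueField s).appLE V ⊤ hle).hom
  haveI : IsScalarTower Γ(S, V) Γ(Spec (S.residueField s), ⊤)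
      Γ((Scheme.Modules.pushforward (f.fiberToSpecResidueField s)).obj
        ((Scheme.Modules.pullback (f.fiberι s)).obj L), ⊤) := .of_algebraMap_smul fun _ _ => rfl
  obtain ⟨c, hc, hcf⟩ := exists_transpose_app (S.fromSpecResidueField s)
    (H10Coh.isQuasicoherent_pushforward f L) (GenBC.τ₀ f L hsq) hV (isAffineOpen_top _) hle
  have hsurj : Function.Surjective (LinearMap.liftBaseChange Γ(Spec (S.residueField s), ⊤)
      (FBC.locLin (S.fromSpecResidueField s) (GenBC.τ₀ f L hsq) hle)) := by
    rw [hcf]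
    exact ((ConcreteCategory.bijective_of_isIso _).comp hc).2
  obtain ⟨e⟩ := htriv
  let N' : (f.fiber s).Modules := CohIII.fiberMod f L s
  let g : Γ(N', ⊤) := e.inv.app ⊤ (H11Ample.one ⊤)
  have hg : IsGen N' g := H11Ample.isGen_map_iso e.symm (H11Ample.isGen_one ⊤)
  have hgb : Function.Bijective fun c : Γ(f.fiber s, ⊤) => c • g := by
    refine Eq.mpr (congrArg Function.Bijective (funext fun c => ?_)) (hg.bijective le_rfl)
    rw [H10Coh.mres_self]
  haveI := hK
  have hF : IsField Γ(f.fiber s, ⊤) :=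
    ((asIso (f.fiberToSpecResidueField s).appTop).symm ≪≫ Scheme.ΓSpecIso (S.residueField s)).commRingCatIsoToRingEquiv
      |>.toMulEquiv.isField (Field.toIsField (S.residueField s))
  haveI : Nontrivial Γ(f.fiber s, ⊤) := hF.nontrivial
  -- some section over `V` does not vanish on the fibre
  obtain ⟨b, hb⟩ : ∃ b : Γ(L, f ⁻¹ᵁ V),
      H10Coh.rs N' (preimage_le f hsq hle) (OmegaSh.pullSect (f.fiberι s) L (f ⁻¹ᵁ V) b) ≠ 0 := by
    by_contra h
    push Not at h
    obtain ⟨z, hz⟩ := hsurj (show Γ((Scheme.Modules.pushforward (f.fiberToSpecResidueField s)).obj N', ⊤) from g)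
    have hz0 : LinearMap.liftBaseChange Γ(Spec (S.residueField s), ⊤)
        (FBC.locLin (S.fromSpecResidueField s) (GenBC.τ₀ f L hsq) hle) z = 0 := by
      clear hz
      induction z using TensorProduct.induction_on with
      | zero => exact map_zero _
      | add x y hx hy => rw [map_add, hx, hy, add_zero]
      | tmul r m =>
        rw [LinearMap.liftBaseChange_tmul]
        refine (congrArg (r • ·) ((locLin_τ₀ f L hsq hle (preimage_le f hsq hle) m).trans
          (show _ = (0 : Γ((Scheme.Modules.pushforward (f.fiberToSpecResidueField s)).obj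
            ((Scheme.Modules.pullback (f.fiberι s)).obj L), ⊤)) from h m))).trans ?_
        exact smul_zero _
    have hg0 : g = 0 := hz.symm.trans hz0
    exact zero_ne_one (hgb.1 (show (0 : Γ(f.fiber s, ⊤)) • g = (1 : Γ(f.fiber s, ⊤)) • g by
      rw [hg0, smul_zero, smul_zero]))
  obtain ⟨a₀, ha₀⟩ := hgb.2 (H10Coh.rs N' (preimage_le f hsq hle) (OmegaSh.pullSect (f.fiberι s) L (f ⁻¹ᵁ V) b))
  have hu : IsUnit a₀ := by
    obtain ⟨a', ha'⟩ := hF.mul_inv_cancel (a := a₀) fun h0 => hb (by rw [← ha₀, h0]; exact zero_smul Γ(f.fiber s, ⊤) g)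
    exact IsUnit.of_mul_eq_one a' ha'
  have hbgen : IsGen N' (a₀ • g) := by
    have := H11Ample.isGen_res hg le_rfl hu
    rwa [H10Coh.mres_self] at this
  -- so it generates near the fibre
  let T : Set X.Opens := {U | ∃ hU : U ≤ f ⁻¹ᵁ V, IsGen L (L.presheaf.map (homOfLE hU).op b)}
  have hfib : ∀ x : X, f x = s → x ∈ sSup T := fun x hx => by
    obtain ⟨x', rfl⟩ : x ∈ Set.range (f.fiberι s) := (f.range_fiberι s).ge hx
    obtain ⟨U, e₀, hxU, he₀⟩ := H11Ample.exists_gen hL (f.fiberι s x')
    let U' : X.Opens := U ⊓ f ⁻¹ᵁ V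
    have hxU' : f.fiberι s x' ∈ U' := ⟨hxU, by show f _ ∈ V; rw [hx]; exact hs⟩
    have he' := he₀.res (inf_le_left : U' ≤ U)
    obtain ⟨a, ha⟩ := H11Ample.exists_coeff he' (L.presheaf.map (homOfLE (inf_le_right : U' ≤ f ⁻¹ᵁ V)).op b)
    have hxa : f.fiberι s x' ∈ X.basicOpen a := by
      have hp := he'.pullSect (f.fiberι s)
      have hy : x' ∈ f.fiberι s ⁻¹ᵁ U' := hxU'
      show x' ∈ f.fiberι s ⁻¹ᵁ X.basicOpen a
      rw [Scheme.preimage_basicOpen]
      refine (H11Ample.bijective_smul_iff hp _ hy).1 ?_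
      rw [← OmegaSh.pullSect_smul, ← ha, pullSect_res]
      have hgerm := hbgen x' (trivial : x' ∈ (⊤ : (f.fiber s).Opens))
      rw [TopCat.Presheaf.germ_res_apply]
      exact (congrArg (fun t => Function.Bijective fun r : (f.fiber s).presheaf.stalk x' => r • t)
        ((congrArg (N'.presheaf.germ ⊤ x' trivial) ha₀).trans
          (germ_rs (preimage_le f hsq hle) (OmegaSh.pullSect (f.fiberι s) L (f ⁻¹ᵁ V) b) x' trivial))).mp hgerm
    refine Opens.mem_sSup.2 ⟨X.basicOpen a, ⟨(X.basicOpen_le a).trans inf_le_right, ?_⟩, hxa⟩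
    have := H11Ample.isGen_basicOpen he' a
    rwa [← ha, H10Coh.mres_mres] at this
  let Z : Set S := f '' ((sSup T : X.Opens) : Set X)ᶜ
  have hZ : IsClosed Z := f.isClosedMap _ (sSup T : X.Opens).isOpen.isClosed_compl
  let V' : S.Opens := V ⊓ ⟨Zᶜ, hZ.isOpen_compl⟩
  refine ⟨V', L.presheaf.map (homOfLE (f.preimage_mono inf_le_left)).op b,
    ⟨hs, fun ⟨x, hx, hfx⟩ => hx (hfib x hfx)⟩, fun y hy => ?_⟩
  obtain ⟨U, ⟨hU, hgen⟩, hyU⟩ := Opens.mem_sSup.1 (show y ∈ sSup T from by_contra fun hn => hy.2 ⟨y, hn, rfl⟩)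
  have := hgen y hyU
  rw [TopCat.Presheaf.germ_res_apply] at this ⊢
  exact this

/-- An invertible module trivial on the fibres whose sections spread out is, near each point of the base,
generated by one section. -/
theorem exists_gen_nhd_of_epiOn (hL : PicF.IsInvertible L) (hK : ∀ s : S, IsIso (f.fiberToSpecResidueField s).appTop)
    (hE : ∀ s : S, ∃ (W : S.Opens) (hW : IsAffineOpen W), s ∈ W ∧ EpiOn f L hW 0)
    (htriv : ∀ s : S, Nonempty (CohIII.fiberMod f L s ≅ Coh.structureModule (f.fiber s))) (s : S) :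
    ∃ (V : S.Opens) (t : Γ(L, f ⁻¹ᵁ V)), s ∈ V ∧ IsGen L t :=
  exists_gen_nhd_at f L hL (hK s) (hE s) (htriv s)

/-- The seesaw principle, if sections spread out. -/
theorem invertible_and_counit_of_epiOn (hL : PicF.IsInvertible L)
    (hK : ∀ s : S, IsIso (f.fiberToSpecResidueField s).appTop)
    (hE : ∀ s : S, ∃ (W : S.Opens) (hW : IsAffineOpen W), s ∈ W ∧ EpiOn f L hW 0)
    (htriv : ∀ s : S, Nonempty (CohIII.fiberMod f L s ≅ Coh.structureModule (f.fiber s))) :
    PicF.IsInvertible ((Scheme.Modules.pushforward f).obj L) ∧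
      IsIso ((Scheme.Modules.pullbackPushforwardAdjunction f).counit.app L) := by
  have key : ∀ {V : S.Opens} {t : Γ(L, f ⁻¹ᵁ V)}, IsGen L t →
      IsGen ((Scheme.Modules.pushforward f).obj L) (H11Ample.pushSec f L V t) := fun {V t} ht =>
    isGen_of_bijective fun W hW => by
      haveI := isIso_app_of_fibres f hK W
      exact (ht.bijective (f.preimage_mono hW)).comp (ConcreteCategory.bijective_of_isIso (f.app W))
  refine ⟨H11Ample.isInvertible_of_gen fun s => ?_, isIso_of_gen _ fun x => ?_⟩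
  · obtain ⟨V, t, hs, ht⟩ := exists_gen_nhd_of_epiOn f L hL hK hE htriv s
    exact ⟨V, _, hs, key ht⟩
  · obtain ⟨V, t, hs, ht⟩ := exists_gen_nhd_of_epiOn f L hL hK hE htriv (f x)
    refine ⟨f ⁻¹ᵁ V, _, hs, (key ht).pullSect f, ?_⟩
    rw [H11Ample.counit_app_pullSect]
    exact ht

/-- Fibrewise trivial over a reduced base gives spreading out. -/
theorem exists_epiOn_of_triv [IsReduced S] (hL : PicF.IsInvertible L)
    (hK : ∀ s : S, IsIso (f.fiberToSpecResidueField s).appTop)
    (htriv : ∀ s : S, Nonempty (CohIII.fiberMod f L s ≅ Coh.structureModule (f.fiber s))) (s : S) :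
    ∃ (W : S.Opens) (hW : IsAffineOpen W), s ∈ W ∧ EpiOn f L hW 0 := by
  have hlf := H23Para.isFinLocFree_of_isInvertible hL
  have hfp : CohB1.IsFP L := H8Props.FinLocFree.isFP_of_isFinLocFree L hlf
  have hfl : FlatMod.IsFlatOver f L := H10Coh.SheafHom.isFlatOver_of_isFinLocFree f L hlf
  haveI : L.IsQuasicoherent := H29Fitt.isQCoh_of_isFP L hfp
  haveI := H10Coh.enoughInjMod X
  have hrank : IsLocallyConstant (CohIII.fiberRank f L 0) := IsLocallyConstant.of_constant _ fun a b => by
    obtain ⟨ea⟩ := htriv a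
    obtain ⟨eb⟩ := htriv b
    rw [fiberRank_eq_one f L (hK a) ea, fiberRank_eq_one f L (hK b) eb]
  obtain ⟨W, hW, hsW, -⟩ := exists_isAffineOpen_mem_and_subset (U := (⊤ : S.Opens)) (x := s) trivial
  exact ⟨W, hW, hsW, (exact_of_rank_const f L hfp hfl hW 0 hrank).1⟩

/-- An invertible module trivial on the fibres over a reduced base is locally generated by one section. -/
theorem exists_gen_nhd [IsReduced S] (hL : PicF.IsInvertible L)
    (hK : ∀ s : S, IsIso (f.fiberToSpecResidueField s).appTop)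
    (htriv : ∀ s : S, Nonempty (CohIII.fiberMod f L s ≅ Coh.structureModule (f.fiber s))) (s : S) :
    ∃ (V : S.Opens) (t : Γ(L, f ⁻¹ᵁ V)), s ∈ V ∧ IsGen L t :=
  exists_gen_nhd_of_epiOn f L hL hK (exists_epiOn_of_triv f L hL hK htriv) htriv s

/-- The seesaw principle over a reduced base. -/
theorem invertible_and_counit [IsReduced S] (hL : PicF.IsInvertible L)
    (hK : ∀ s : S, IsIso (f.fiberToSpecResidueField s).appTop)
    (htriv : ∀ s : S, Nonempty (CohIII.fiberMod f L s ≅ Coh.structureModule (f.fiber s))) :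
    PicF.IsInvertible ((Scheme.Modules.pushforward f).obj L) ∧
      IsIso ((Scheme.Modules.pullbackPushforwardAdjunction f).counit.app L) :=
  invertible_and_counit_of_epiOn f L hL hK (exists_epiOn_of_triv f L hL hK htriv) htriv

end Groth.Agent.LeadBC.Seesaw
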