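import Groth.Agent.LeadFF.BaseChange
import Groth.Agent.LeadBC.TrivInv
import Groth.Agent.H28NT.Connectedness
import Groth.Agent.H23Para.Local
import Groth.Agent.H11Ample.Tensor
import Groth.Agent.LeadFF.Coh
import Groth.Agent.S0058
import Groth.Prelude.Def_Pic

/-!
# An invertible module trivial on all thickenings of a proper scheme over a local ring is trivial
-/

set_option autoImplicit false
set_option linter.style.haveILetI false
set_option linter.unusedSectionVars false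

universe u

open CategoryTheory CategoryTheory.Limits AlgebraicGeometry Opposite TopologicalSpace
open scoped TensorProduct

namespace Groth.Agent.LeadBC.ThickTriv

open Groth.Agent.H11Tilde Groth.Agent.H11Ample Groth.Agent.LeadFF

variable {A : Type u} [CommRing A] {X : Scheme.{u}} [X.Over (Spec (CommRingCat.of A))]
  {I : Ideal A} {n : ℕ} {X' : Scheme.{u}} {q : X' ⟶ X} {g' : X' ⟶ Spec (CommRingCat.of (A ⧸ I ^ n))}
  (hsq : IsPullback q g' (X ↘ Spec (CommRingCat.of A)) (Spec.map (CommRingCat.ofHom (Ideal.Quotient.mk (I ^ n)))))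
  (M : X.Modules)

include hsq

/-- The kernel on functions over an affine open. -/
theorem mem_ker {U : X.Opens} (hU : IsAffineOpen U) :
    Function.Surjective (q.app U) ∧ ∀ b : Γ(X, U), q.app U b = 0 →
      b ∈ (I ^ n).map (scal (X ↘ Spec (CommRingCat.of A)) U) := by
  have hpo := isPushout_scal hsq hU
  letI : Algebra A Γ(X, U) := (scal (X ↘ Spec (CommRingCat.of A)) U).toAlgebra
  letI : Algebra Γ(X, U) Γ(X', q ⁻¹ᵁ U) := (q.app U).hom.toAlgebra
  letI : Algebra (A ⧸ I ^ n) Γ(X', q ⁻¹ᵁ U) := (scal g' (q ⁻¹ᵁ U)).toAlgebra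
  letI : Algebra A Γ(X', q ⁻¹ᵁ U) := ((scal g' (q ⁻¹ᵁ U)).comp (Ideal.Quotient.mk (I ^ n))).toAlgebra
  haveI : IsScalarTower A Γ(X, U) Γ(X', q ⁻¹ᵁ U) := .of_algebraMap_eq fun a => (app_scal hsq U a).symm
  haveI : IsScalarTower A (A ⧸ I ^ n) Γ(X', q ⁻¹ᵁ U) := .of_algebraMap_eq fun _ => rfl
  haveI h1 : Algebra.IsPushout A Γ(X, U) (A ⧸ I ^ n) Γ(X', q ⁻¹ᵁ U) :=
    CommRingCat.isPushout_iff_isPushout.mp (by simpa using! hpo)
  haveI h2 : Algebra.IsPushout A (A ⧸ I ^ n) Γ(X, U) Γ(X', q ⁻¹ᵁ U) := h1.symm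
  have hb : Function.Surjective (Ideal.Quotient.mkₐ A (I ^ n)) := Ideal.Quotient.mk_surjective
  let e : Γ(X, U) ⊗[A] (A ⧸ I ^ n) ≃ₐ[Γ(X, U)] Γ(X', q ⁻¹ᵁ U) := Algebra.IsPushout.equiv A Γ(X, U) (A ⧸ I ^ n) _
  let j : Γ(X, U) ⊗[A] (A ⧸ I ^ n) ≃ₐ[Γ(X, U)] Γ(X, U) ⧸ (I ^ n).map (algebraMap A Γ(X, U)) :=
    Algebra.TensorProduct.quotIdealMapEquivTensorQuot Γ(X, U) (I ^ n) |>.symm
  refine ⟨fun y => ?_, fun b hb0 => ?_⟩
  · obtain ⟨b, hb⟩ := Ideal.Quotient.mk_surjective (j (e.symm y))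
    refine ⟨b, ?_⟩
    have h3 : e (j.symm (algebraMap Γ(X, U) _ b)) = algebraMap Γ(X, U) _ b := (j.symm.trans e).commutes b
    refine h3.symm.trans ?_
    rw [show algebraMap Γ(X, U) (Γ(X, U) ⧸ _) b = j (e.symm y) from hb, AlgEquiv.symm_apply_apply,
      AlgEquiv.apply_symm_apply]
  · have h3 : e (j.symm (algebraMap Γ(X, U) _ b)) = algebraMap Γ(X, U) _ b := (j.symm.trans e).commutes b
    have h4 : algebraMap Γ(X, U) (Γ(X, U) ⧸ (I ^ n).map (algebraMap A Γ(X, U))) b = 0 := by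
      have := congrArg (fun z => j (e.symm z)) (h3.trans hb0)
      simpa using this
    exact Ideal.Quotient.eq_zero_iff_mem.1 h4

/-- The quotient maps to the direct image of the restriction. -/
theorem exists_factor : ∃ ψ : Formal.modPow I n M ⟶
    (Scheme.Modules.pushforward q).obj ((Scheme.Modules.pullback q).obj M),
      Formal.modPowπ I n M ≫ ψ = (Scheme.Modules.pullbackPushforwardAdjunction q).unit.app M := by
  refine ⟨cokernel.desc _ _ ?_, cokernel.π_desc _ _ _⟩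
  refine Sigma.hom_ext _ _ fun a => ?_
  simp only [Formal.smulFamily, Sigma.ι_desc_assoc, comp_zero]
  refine hom_ext_sections _ _ fun U m => ?_
  show OmegaSh.pullSect q M U (scal (X ↘ Spec (CommRingCat.of A)) U (a : A) • m) = 0
  rw [OmegaSh.pullSect_smul, app_scal hsq, Ideal.Quotient.eq_zero_iff_mem.2 a.2, map_zero]
  exact zero_smul Γ(X', q ⁻¹ᵁ U) _

/-- A section whose inverse image vanishes dies in the quotient. -/
theorem π_eq_zero_of_pullSect {M : X.Modules} (hM : PicF.IsInvertible M) {U : X.Opens} (m : Γ(M, U))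
    (h0 : OmegaSh.pullSect q M U m = 0) : (Formal.modPowπ I n M).app U m = 0 := by
  choose V e hx he using H11Ample.exists_gen hM
  choose W hW hxW hWle using fun x : U => exists_isAffineOpen_mem_and_subset (U := U ⊓ V x) (x := x.1) ⟨x.2, hx x⟩
  have hle : ∀ x : U, W x ≤ U ⊓ V x.1 := fun x => hWle x
  refine TopCat.Sheaf.eq_of_locally_eq' (H10Coh.sheafOf (Formal.modPow I n M)) W U
    (fun x => homOfLE ((hle x).trans inf_le_left)) (fun x hxU => Opens.mem_iSup.2 ⟨⟨x, hxU⟩, hxW ⟨x, hxU⟩⟩) _ _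
    fun x => ?_
  refine Eq.trans ?_ (map_zero _).symm
  refine (app_map_apply (Formal.modPowπ I n M) ((hle x).trans inf_le_left) m).symm.trans ?_
  have he' := (he x).res ((hle x).trans inf_le_right)
  obtain ⟨p, hp⟩ := exists_coeff he' (M.presheaf.map (homOfLE ((hle x).trans inf_le_left)).op m)
  refine (congrArg _ hp).trans ?_
  have h1 := congrArg (OmegaSh.pullSect q M (W x)) hp
  rw [pullSect_res, h0, map_zero, OmegaSh.pullSect_smul] at h1
  have hp0 : q.app (W x) p = 0 := ((he'.pullSect q).bijective le_rfl).1 (by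
    beta_reduce
    rw [H10Coh.mres_self, ← h1]
    exact (zero_smul Γ(X', q ⁻¹ᵁ W x) _).symm)
  have hmem := (mem_ker hsq (hW x)).2 p hp0
  let K : Ideal Γ(X, W x) :=
    { carrier := {b | (Formal.modPowπ I n M).app (W x) (b • M.presheaf.map (homOfLE ((hle x).trans inf_le_right)).op (e x)) = 0}
      add_mem' := fun {a b} ha hb => by
        show _ = 0
        rw [add_smul, map_add, ha, hb, add_zero]
      zero_mem' := by
        show _ = 0
        rw [zero_smul, map_zero]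
      smul_mem' := fun c b hb => by
        show _ = 0
        rw [smul_eq_mul, mul_smul, Scheme.Modules.Hom.app_smul, hb]
        exact smul_zero _ }
  refine ((Ideal.map_le_iff_le_comap (K := K)).2 fun a ha => ?_) hmem
  have h2 : ((Formal.smulMod A M a ≫ Formal.modPowπ I n M).app (W x))
      (M.presheaf.map (homOfLE ((hle x).trans inf_le_right)).op (e x)) = 0 := by
    rw [smulMod_π I ha M]
    rfl
  exact h2

theorem range_eq :
    Set.range q = (X ↘ Spec (CommRingCat.of A)) ⁻¹' PrimeSpectrum.zeroLocus ((I ^ n : Ideal A) : Set A) := by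
  rw [show q = hsq.isoPullback.hom ≫ pullback.fst _ _ from hsq.isoPullback_hom_fst.symm, Scheme.Hom.comp_base,
    TopCat.coe_comp, Function.Surjective.range_comp (show Function.Surjective hsq.isoPullback.hom from hsq.isoPullback.hom.homeomorph.surjective), Scheme.Pullback.range_fst]
  congr 1
  exact (_root_.range_comap_of_surjective (A ⧸ I ^ n) _ Ideal.Quotient.mk_surjective).trans
    (by rw [Ideal.mk_ker])

/-- A trivialisation over the thickening gives a section of the quotient. -/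
theorem exists_section {M : X.Modules} (hM : PicF.IsInvertible M)
    (τ : (Scheme.Modules.pullback q).obj M ≅ Coh.structureModule X') :
    ∃ z : Γ(Formal.modPow I n M, ⊤), ∀ y : X', ∃ (U : X.Opens) (e : Γ(M, U)) (r : Γ(X, U)),
      q y ∈ X.basicOpen r ∧ IsGen M e ∧
      (Formal.modPow I n M).presheaf.map (homOfLE (le_top : U ≤ ⊤)).op z = (Formal.modPowπ I n M).app U (r • e) := by
  let P := (Scheme.Modules.pullback q).obj M
  let g : Γ(P, ⊤) := τ.inv.app ⊤ (H11Ample.one ⊤)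
  have hg : IsGen P g := isGen_map_iso τ.symm (isGen_one ⊤)
  let ι := {p : Σ U : X.Opens, Γ(M, U) // IsAffineOpen p.1 ∧ IsGen M p.2}
  have hlift : ∀ i : ι, ∃ r : Γ(X, i.1.1),
      OmegaSh.pullSect q M i.1.1 (r • i.1.2) = P.presheaf.map (homOfLE (le_top : q ⁻¹ᵁ i.1.1 ≤ ⊤)).op g := by
    intro i
    obtain ⟨c, hc⟩ := exists_coeff (i.2.2.pullSect q) (P.presheaf.map (homOfLE (le_top : q ⁻¹ᵁ i.1.1 ≤ ⊤)).op g)
    obtain ⟨r, rfl⟩ := (mem_ker hsq i.2.1).1 c
    exact ⟨r, (OmegaSh.pullSect_smul q M i.1.1 r i.1.2).trans hc.symm⟩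
  choose r hr using hlift
  have hcov : (⊤ : X.Opens) ≤ ⨆ i : ι, i.1.1 := fun x _ => by
    obtain ⟨V, e, hx, he⟩ := H11Ample.exists_gen hM x
    obtain ⟨W, hW, hxW, hWV⟩ := exists_isAffineOpen_mem_and_subset (U := V) (x := x) hx
    exact Opens.mem_iSup.2 ⟨⟨⟨W, _⟩, hW, he.res hWV⟩, hxW⟩
  obtain ⟨z, hz, -⟩ := (H10Coh.sheafOf (Formal.modPow I n M)).existsUnique_gluing' (fun i : ι => i.1.1) ⊤
    (fun i => homOfLE le_top) hcov (fun i => (Formal.modPowπ I n M).app i.1.1 (r i • i.1.2)) fun i j => by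
      show (Formal.modPow I n M).presheaf.map (homOfLE inf_le_left).op _ =
        (Formal.modPow I n M).presheaf.map (homOfLE inf_le_right).op _
      rw [← app_map_apply, ← app_map_apply, ← sub_eq_zero, ← map_sub]
      refine π_eq_zero_of_pullSect hsq hM _ ?_
      rw [map_sub, pullSect_res, pullSect_res, hr, hr, H10Coh.mres_mres, H10Coh.mres_mres, sub_self]
  refine ⟨z, fun y => ?_⟩
  obtain ⟨i, hi⟩ := Opens.mem_iSup.1 (hcov (show q y ∈ (⊤ : X.Opens) from trivial))
  refine ⟨i.1.1, i.1.2, r i, ?_, i.2.2, hz i⟩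
  show y ∈ q ⁻¹ᵁ X.basicOpen (r i)
  rw [Scheme.preimage_basicOpen]
  refine (bijective_smul_iff (i.2.2.pullSect q) _ hi).1 ?_
  rw [← OmegaSh.pullSect_smul, hr, TopCat.Presheaf.germ_res_apply]
  exact hg y trivial

omit hsq in
/-- The main theorem. -/
theorem nonempty_iso_structure [IsNoetherianRing A] [IsLocalRing A] [IsProper (X ↘ Spec (CommRingCat.of A))]
    (hI : I ≤ IsLocalRing.maximalIdeal A) {Xn : ℕ → Scheme.{u}} {qn : ∀ n, Xn n ⟶ X}
    {gn : ∀ n, Xn n ⟶ Spec (CommRingCat.of (A ⧸ I ^ (n + 1)))}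
    (hn : ∀ n, IsPullback (qn n) (gn n) (X ↘ Spec (CommRingCat.of A))
      (Spec.map (CommRingCat.ofHom (Ideal.Quotient.mk (I ^ (n + 1))))))
    {L : X.Modules} (hL : PicF.IsInvertible L)
    (τ : ∀ n, Nonempty ((Scheme.Modules.pullback (qn n)).obj L ≅ Coh.structureModule (Xn n))) :
    Nonempty (L ≅ Coh.structureModule X) := by
  haveI : IsLocallyNoetherian X := LocallyOfFiniteType.isLocallyNoetherian (X ↘ Spec (CommRingCat.of A))
  obtain ⟨c, hc⟩ := S0058.result A I X L (H11Ample.isCoh_of_isInvertible hL) 0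
  obtain ⟨z, hz⟩ := exists_section (hn c) hL (τ c).some
  let T := (Formal.completion I L).map (homOfLE (Nat.zero_le c)).op
  let E := fun N : X.Modules => H10Coh.HH0Equiv N
  obtain ⟨w, hw⟩ := (hc 0 c (Nat.zero_le c) (by omega)).le
    ⟨(E (Formal.modPow I (c + 1) L)).symm z, rfl⟩
  let s : Γ(L, ⊤) := E L w
  have hs : (Formal.modPowπ I (0 + 1) L).app ⊤ s = T.app ⊤ z := by
    refine (H28NT.HH0Equiv_map (Formal.modPowπ I (0 + 1) L) w).symm.trans ?_
    refine (congrArg (H10Coh.HH0Equiv _) hw).trans ?_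
    refine (H28NT.HH0Equiv_map T _).trans (congrArg (T.app ⊤) ?_)
    exact AddEquiv.apply_symm_apply _ _
  have hgen : ∀ x : X, (X ↘ Spec (CommRingCat.of A)) x ∈ PrimeSpectrum.zeroLocus (I : Set A) → x ∈ gen L s := by
    intro x hx
    have hmem : ∀ k, x ∈ Set.range (qn k) := fun k => by
      rw [range_eq (hn k), Set.mem_preimage, PrimeSpectrum.zeroLocus_pow I k.succ_ne_zero]
      exact hx
    obtain ⟨y, rfl⟩ := hmem c
    obtain ⟨U, e, r, hyr, he, hzU⟩ := hz y
    obtain ⟨p, hp⟩ := exists_coeff he (L.presheaf.map (homOfLE (le_top : U ≤ ⊤)).op s)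
    have h1 : (Formal.modPowπ I (0 + 1) L).app U (p • e) = (Formal.modPowπ I (0 + 1) L).app U (r • e) := by
      rw [← hp, app_map_apply, hs]
      refine (app_map_apply T (le_top : U ≤ ⊤) z).symm.trans ((congrArg (T.app U) hzU).trans ?_)
      show (Formal.modPowπ I (c + 1) L ≫ T).app U (r • e) = _
      rw [LeadFF.modPowπ_completion_map]
      rfl
    obtain ⟨ψ, hψ⟩ := exists_factor (hn 0) L
    have h2 := congrArg (ψ.app U) h1
    rw [← ConcreteCategory.comp_apply, ← ConcreteCategory.comp_apply, ← Scheme.Modules.Hom.comp_app, hψ] at h2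
    change OmegaSh.pullSect (qn 0) L U (p • e) = OmegaSh.pullSect (qn 0) L U (r • e) at h2
    rw [OmegaSh.pullSect_smul, OmegaSh.pullSect_smul] at h2
    have hpr : (qn 0).app U p = (qn 0).app U r := ((he.pullSect (qn 0)).bijective le_rfl).1 (by
      beta_reduce
      rw [H10Coh.mres_self]
      exact h2)
    obtain ⟨y₀, hy₀⟩ := hmem 0
    have hyp : qn 0 y₀ ∈ X.basicOpen p := by
      show y₀ ∈ qn 0 ⁻¹ᵁ X.basicOpen p
      rw [Scheme.preimage_basicOpen, hpr, ← Scheme.preimage_basicOpen]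
      show qn 0 y₀ ∈ X.basicOpen r
      rw [hy₀]
      exact hyr
    rw [hy₀] at hyp
    exact ((gen_inf_eq_basicOpen he s p hp).ge hyp).1
  refine TrivInv.nonempty_iso_of_gen_eq_top s (top_le_iff.1 fun x _ => ?_)
  by_contra hx
  let C := (X ↘ Spec (CommRingCat.of A)) '' ((gen L s : Set X)ᶜ)
  have hC : IsClosed C := (X ↘ Spec (CommRingCat.of A)).isClosedMap _ (gen L s).isOpen.isClosed_compl
  have h0 : IsLocalRing.closedPoint A ∈ C :=
    (IsLocalRing.specializes_closedPoint ((X ↘ Spec (CommRingCat.of A)) x)).mem_closed hC ⟨x, hx, rfl⟩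
  obtain ⟨x', hx', hxc⟩ := h0
  exact hx' (hgen x' (by rw [hxc]; exact hI))

end Groth.Agent.LeadBC.ThickTriv
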