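import Groth.Agent.H06FlatCx.ThreeTerm
import Mathlib.LinearAlgebra.TensorProduct.RightExactness

/-!
# Universal quasi-isomorphisms of flat complexes, one degree at a time

A map of complexes of flat modules which is an isomorphism on homology stays one after tensoring with any
module, by induction from the degrees where both sides are universally exact.
-/

set_option autoImplicit false
set_option linter.unusedSectionVars false

universe u

open TensorProduct LinearMap

namespace Groth.Agent.LeadBC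

open H06FlatCx

variable {A : Type u} [CommRing A]
variable {Pi Pj Pk Pl Ki Kj Kk Kl : Type u}
  [AddCommGroup Pi] [Module A Pi] [AddCommGroup Pj] [Module A Pj] [AddCommGroup Pk] [Module A Pk]
  [AddCommGroup Pl] [Module A Pl] [AddCommGroup Ki] [Module A Ki] [AddCommGroup Kj] [Module A Kj]
  [AddCommGroup Kk] [Module A Kk] [AddCommGroup Kl] [Module A Kl]

/-- Surjectivity on homology in the middle, with coefficients. -/
def QSurj (pj : Pj →ₗ[A] Pk) (ki : Ki →ₗ[A] Kj) (kj : Kj →ₗ[A] Kk) (φj : Pj →ₗ[A] Kj)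
    (M : Type u) [AddCommGroup M] [Module A M] : Prop :=
  ∀ z : Kj ⊗[A] M, kj.rTensor M z = 0 →
    ∃ w : Pj ⊗[A] M, pj.rTensor M w = 0 ∧ z - φj.rTensor M w ∈ range (ki.rTensor M)

/-- Injectivity on homology in the middle, with coefficients. -/
def QInj (pi : Pi →ₗ[A] Pj) (pj : Pj →ₗ[A] Pk) (ki : Ki →ₗ[A] Kj) (φj : Pj →ₗ[A] Kj)
    (M : Type u) [AddCommGroup M] [Module A M] : Prop :=
  ∀ w : Pj ⊗[A] M, pj.rTensor M w = 0 → φj.rTensor M w ∈ range (ki.rTensor M) → w ∈ range (pi.rTensor M)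

variable (pi : Pi →ₗ[A] Pj) (pj : Pj →ₗ[A] Pk) (pk : Pk →ₗ[A] Pl)
  (ki : Ki →ₗ[A] Kj) (kj : Kj →ₗ[A] Kk) (kk : Kk →ₗ[A] Kl)
  (φj : Pj →ₗ[A] Kj) (φk : Pk →ₗ[A] Kk)

theorem rT_comm {P Q P' Q' : Type u} [AddCommGroup P] [Module A P] [AddCommGroup Q] [Module A Q]
    [AddCommGroup P'] [Module A P'] [AddCommGroup Q'] [Module A Q'] {a : P →ₗ[A] Q} {b : P' →ₗ[A] Q'}
    {u : P →ₗ[A] P'} {v : Q →ₗ[A] Q'} (h : v ∘ₗ a = b ∘ₗ u) (M : Type u) [AddCommGroup M] [Module A M]
    (x : P ⊗[A] M) : v.rTensor M (a.rTensor M x) = b.rTensor M (u.rTensor M x) := by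
  rw [← rTensor_comp_apply, ← rTensor_comp_apply, h]

/-- For flat coefficients it is enough to know the statement without coefficients. -/
theorem qSurj_of_flat (h : ∀ z, kj z = 0 → ∃ w, pj w = 0 ∧ z - φj w ∈ range ki)
    (F : Type u) [AddCommGroup F] [Module A F] [Module.Flat A F] : QSurj pj ki kj φj F := by
  intro z hz
  obtain ⟨a, rfl⟩ := (Module.Flat.rTensor_exact F kj.exact_subtype_ker_map z).1 hz
  clear hz
  induction a using TensorProduct.induction_on with
  | zero => exact ⟨0, map_zero _, by simp⟩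
  | add x y hx hy =>
    obtain ⟨wx, h1, h2⟩ := hx
    obtain ⟨wy, h3, h4⟩ := hy
    refine ⟨wx + wy, by rw [map_add, h1, h3, add_zero], ?_⟩
    rw [map_add, map_add, add_sub_add_comm]
    exact add_mem h2 h4
  | tmul c x =>
    obtain ⟨w, hw, v, hv⟩ := h c.1 c.2
    refine ⟨w ⊗ₜ x, by rw [rTensor_tmul, hw, zero_tmul], v ⊗ₜ x, ?_⟩
    rw [rTensor_tmul, rTensor_tmul, rTensor_tmul, hv, sub_tmul]
    rfl

theorem qInj_of_flat (φi : Pi →ₗ[A] Ki) (hp : pj ∘ₗ pi = 0) (hk : kj ∘ₗ ki = 0) (hc : φk ∘ₗ pj = kj ∘ₗ φj)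
    (hci : φj ∘ₗ pi = ki ∘ₗ φi) (hinj : ∀ w, pj w = 0 → φj w ∈ range ki → w ∈ range pi)
    (F : Type u) [AddCommGroup F] [Module A F] [Module.Flat A F] : QInj pi pj ki φj F := by
  intro w hw hwr
  obtain ⟨a, rfl⟩ := (Module.Flat.rTensor_exact F pj.exact_subtype_ker_map w).1 hw
  obtain ⟨v, hv⟩ := hwr
  let φc : ker pj →ₗ[A] ker kj := (φj ∘ₗ (ker pj).subtype).codRestrict (ker kj) fun x => by
    show kj (φj x.1) = 0
    rw [← LinearMap.comp_apply, ← hc, LinearMap.comp_apply, LinearMap.mem_ker.1 x.2, map_zero]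
  let ψ : (ker pj ⧸ range (toKer hp)) →ₗ[A] (ker kj ⧸ range (toKer hk)) :=
    (range (toKer hp)).mapQ (range (toKer hk)) φc (by
      rintro _ ⟨y, rfl⟩
      exact ⟨φi y, Subtype.ext (LinearMap.congr_fun hci y).symm⟩)
  have hψ : Function.Injective ψ := by
    rw [← ker_eq_bot, eq_bot_iff]
    intro q hq
    obtain ⟨x, rfl⟩ := Submodule.mkQ_surjective _ q
    rw [LinearMap.mem_ker] at hq
    obtain ⟨y, hy⟩ := (Submodule.Quotient.mk_eq_zero _).1 hq
    obtain ⟨y', hy'⟩ := hinj x.1 x.2 ⟨y, congrArg Subtype.val hy⟩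
    exact (Submodule.Quotient.mk_eq_zero _).2 ⟨y', Subtype.ext hy'⟩
  have h1 : φc.rTensor F a = (toKer hk).rTensor F v := by
    refine Module.Flat.rTensor_preserves_injective_linearMap (ker kj).subtype Subtype.val_injective ?_
    rw [subtype_toKer_rTensor hk v, hv, ← rTensor_comp_apply, ← rTensor_comp_apply]
    rfl
  have h2 : (range (toKer hp)).mkQ.rTensor F a = 0 := by
    refine Module.Flat.rTensor_preserves_injective_linearMap ψ hψ ?_
    rw [map_zero, ← rTensor_comp_apply,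
      show ψ ∘ₗ (range (toKer hp)).mkQ = (range (toKer hk)).mkQ ∘ₗ φc from rfl, rTensor_comp_apply, h1]
    exact (mkQ_range_rTensor (toKer hk) F _).2 ⟨v, rfl⟩
  obtain ⟨b, hb⟩ := (mkQ_range_rTensor (toKer hp) F a).1 h2
  exact ⟨b, by rw [← hb, subtype_toKer_rTensor hp b]⟩

theorem exists_presentation (M : Type u) [AddCommGroup M] [Module A M] :
    ∃ (F : Type u) (_ : AddCommGroup F) (_ : Module A F) (_ : Module.Flat A F) (ψ : F →ₗ[A] M),
      Function.Surjective ψ :=
  H06FlatCx.exists_flat_presentation M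

/-- The step of the induction: surjectivity. -/
theorem qSurj_step [Module.Flat A Kl] (hpk : φk ∘ₗ pj = kj ∘ₗ φj) (hkk : kk ∘ₗ kj = 0)
    (hS : ∀ z, kj z = 0 → ∃ w, pj w = 0 ∧ z - φj w ∈ range ki)
    (hSk : ∀ (M : Type u) [AddCommGroup M] [Module A M], QSurj pk kj kk φk M)
    (hIk : ∀ (M : Type u) [AddCommGroup M] [Module A M], QInj pj pk kj φk M)
    (M : Type u) [AddCommGroup M] [Module A M] : QSurj pj ki kj φj M := by
  intro z hz
  obtain ⟨F, _, _, _, ψ, hψ⟩ := H06FlatCx.exists_flat_presentation (A := A) M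
  let R := ker ψ
  have hex : Function.Exact R.subtype ψ := ψ.exact_subtype_ker_map
  obtain ⟨z0, rfl⟩ := lTensor_surjective Kj hψ z
  obtain ⟨r, hr⟩ := (lTensor_exact Kk hex hψ (kj.rTensor F z0)).1 (by rw [lTensor_rTensor_apply]; exact hz)
  have hr0 : kk.rTensor R r = 0 := by
    refine Module.Flat.lTensor_preserves_injective_linearMap (M := Kl) R.subtype Subtype.val_injective ?_
    rw [lTensor_rTensor_apply, hr, map_zero]
    exact rTensor_comp_zero hkk F z0
  obtain ⟨s, hs, t, ht⟩ := hSk R r hr0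
  have hz0 : φk.rTensor F (R.subtype.lTensor Pk s) = kj.rTensor F (z0 - R.subtype.lTensor Kj t) := by
    rw [← lTensor_rTensor_apply, map_sub (kj.rTensor F), ← hr, ← lTensor_rTensor_apply, ← map_sub]
    congr 1
    rw [ht]
    abel
  obtain ⟨l, hl⟩ := hIk F (R.subtype.lTensor Pk s) (by rw [← lTensor_rTensor_apply, hs, map_zero])
    ⟨_, hz0.symm⟩
  obtain ⟨m, hm, u, hu⟩ := qSurj_of_flat pj ki kj φj hS F
    (z0 - R.subtype.lTensor Kj t - φj.rTensor F l) (by
      rw [map_sub, ← hz0, ← rT_comm hpk F l, hl, sub_self])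
  refine ⟨ψ.lTensor Pj (l + m), ?_, ψ.lTensor Ki u, ?_⟩
  · rw [← lTensor_rTensor_apply, map_add, hl, hm, add_zero, ← LinearMap.comp_apply, ← lTensor_comp,
      show ψ ∘ₗ R.subtype = 0 from LinearMap.ext fun x => x.2, lTensor_zero,
      LinearMap.zero_apply]
  · rw [← lTensor_rTensor_apply, ← lTensor_rTensor_apply, hu, map_add, ← map_sub]
    rw [← sub_eq_zero, ← map_sub]
    rw [show z0 - R.subtype.lTensor Kj t - φj.rTensor F l - φj.rTensor F m -
      (z0 - (φj.rTensor F l + φj.rTensor F m)) = -(R.subtype.lTensor Kj t) by abel, map_neg,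
      ← LinearMap.comp_apply, ← lTensor_comp, show ψ ∘ₗ R.subtype = 0 from LinearMap.ext fun x => x.2,
      lTensor_zero, LinearMap.zero_apply, neg_zero]

/-- The step of the induction: injectivity. -/
theorem qInj_step [Module.Flat A Pl] [Module.Flat A Kk] (φi : Pi →ₗ[A] Ki) (hp : pj ∘ₗ pi = 0)
    (hpp : pk ∘ₗ pj = 0) (hk : kj ∘ₗ ki = 0) (hc : φk ∘ₗ pj = kj ∘ₗ φj) (hci : φj ∘ₗ pi = ki ∘ₗ φi)
    (hI : ∀ w, pj w = 0 → φj w ∈ range ki → w ∈ range pi)
    (hSj : ∀ (M : Type u) [AddCommGroup M] [Module A M], QSurj pj ki kj φj M)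
    (hIk : ∀ (M : Type u) [AddCommGroup M] [Module A M], QInj pj pk kj φk M)
    (M : Type u) [AddCommGroup M] [Module A M] : QInj pi pj ki φj M := by
  intro z hz hzr
  obtain ⟨w, hw⟩ := hzr
  obtain ⟨F, _, _, _, ψ, hψ⟩ := H06FlatCx.exists_flat_presentation (A := A) M
  let R := ker ψ
  have hex : Function.Exact R.subtype ψ := ψ.exact_subtype_ker_map
  have h0 : ψ ∘ₗ R.subtype = 0 := LinearMap.ext fun x => x.2
  obtain ⟨z0, rfl⟩ := lTensor_surjective Pj hψ z
  obtain ⟨w0, rfl⟩ := lTensor_surjective Ki hψ w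
  obtain ⟨s, hs⟩ := (lTensor_exact Pk hex hψ (pj.rTensor F z0)).1 (by rw [lTensor_rTensor_apply]; exact hz)
  have hs0 : pk.rTensor R s = 0 := by
    refine Module.Flat.lTensor_preserves_injective_linearMap (M := Pl) R.subtype Subtype.val_injective ?_
    rw [lTensor_rTensor_apply, hs, map_zero]
    exact rTensor_comp_zero hpp F z0
  obtain ⟨k, hk'⟩ := (lTensor_exact Kj hex hψ (φj.rTensor F z0 - ki.rTensor F w0)).1 (by
    rw [map_sub, lTensor_rTensor_apply, lTensor_rTensor_apply, hw, sub_self])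
  have hsk : kj.rTensor R k = φk.rTensor R s := by
    refine Module.Flat.lTensor_preserves_injective_linearMap (M := Kk) R.subtype Subtype.val_injective ?_
    rw [lTensor_rTensor_apply, lTensor_rTensor_apply, hk', hs, map_sub, rTensor_comp_zero hk, sub_zero,
      rT_comm hc]
  obtain ⟨l, hl⟩ := hIk R s hs0 ⟨k, hsk⟩
  obtain ⟨m, hm, v, hv⟩ := hSj R (k - φj.rTensor R l) (by
    rw [map_sub, ← rT_comm hc R l, hl, hsk, sub_self])
  obtain ⟨y, hy⟩ := qInj_of_flat pi pj ki kj φj φk φi hp hk hc hci hI F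
    (z0 - R.subtype.lTensor Pj (l + m)) (by
      rw [map_sub, ← lTensor_rTensor_apply, map_add, hl, hm, add_zero, hs, sub_self])
    ⟨w0 + R.subtype.lTensor Ki v, by
      rw [map_add, map_sub, ← lTensor_rTensor_apply, ← lTensor_rTensor_apply, hv, map_sub, map_add, map_sub,
        ← sub_eq_zero, hk']
      simp only [map_add]
      abel⟩
  refine ⟨ψ.lTensor Pi y, ?_⟩
  rw [← lTensor_rTensor_apply, hy, map_sub, ← LinearMap.comp_apply, ← lTensor_comp, h0, lTensor_zero,
    LinearMap.zero_apply, sub_zero]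

end Groth.Agent.LeadBC
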