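import Groth.Agent.LeadBC.Fibre
import Groth.Agent.H06FlatCx.BCHomology

/-!
# The Čech complex of a base change is the base change of the Čech complex
-/

set_option autoImplicit false
set_option linter.style.haveILetI false
set_option linter.unusedSectionVars false

universe u

open AlgebraicGeometry CategoryTheory CategoryTheory.Limits TopologicalSpace Opposite MonoidalCategory
open scoped TensorProduct

namespace Groth.Agent.LeadBC

open Groth.Agent.LeadFF Groth.Agent.H06FlatCx

variable {A : Type u} [CommRing A] {X : Scheme.{u}} [X.Over (Spec (CommRingCat.of A))]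
  {S : Type u} [CommRing S] (φ : A →+* S) {X' : Scheme.{u}} [X'.Over (Spec (CommRingCat.of S))] {q : X' ⟶ X}
  (hsq : IsPullback q (X' ↘ Spec (CommRingCat.of S)) (X ↘ Spec (CommRingCat.of A))
    (Spec.map (CommRingCat.ofHom φ)))
  (F : X.Modules) {ι : Type u} (U : ι → X.Opens)

include hsq in
/-- `S ⊗ Γ(U_a, F) → Γ(U'_a, q^*F)`. -/
noncomputable def δp (p : ℕ) :
    (CohIII.bcCx φ (KC A U F)).X p →ₗ[S] Kp S (preU q U) (qF q F) p :=
  letI := φ.toAlgebra
  let T : S ⊗[A] Kp A U F p →ₗ[S] Kp S (preU q U) (qF q F) p :=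
    { toFun := fun z => (show Kp S (preU q U) (qF q F) p from βp S hsq F U p (TensorProduct.comm A S (Kp A U F p) z))
      map_add' := fun z z' => by rw [map_add, map_add]; rfl
      map_smul' := fun s z => by
        rw [comm_smul]
        exact βp_mul S hsq F U p s _ }
  T ∘ₗ (bcX (KC A U F) φ p).toLinearMap

variable [F.IsQuasicoherent] [Finite ι] {U}

theorem bijective_δp (hU : GoodCover U) (p : ℕ) : Function.Bijective (δp φ hsq F U p) :=
  letI := φ.toAlgebra
  (bijective_βp S hsq F U hU p).comp (TensorProduct.comm A S (Kp A U F p)).bijective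

include hsq in
/-- The comparison of complexes over the new base. -/
noncomputable def δC : CohIII.bcCx φ (KC A U F) ⟶ KC S (preU q U) (qF q F) where
  f p := @ModuleCat.ofHom S _ _ (Kp S (preU q U) (qF q F) p) ((CohIII.bcCx φ (KC A U F)).X p).isAddCommGroup ((CohIII.bcCx φ (KC A U F)).X p).isModule _ _ (δp φ hsq F U p)
  comm' i j h := by
    obtain rfl : i + 1 = j := h
    letI := φ.toAlgebra
    refine ModuleCat.hom_ext (LinearMap.ext fun z => ?_)
    show ((KC S (preU q U) (qF q F)).d i (i + 1)).hom (δp φ hsq F U i z) =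
      δp φ hsq F U (i + 1) (((CohIII.bcCx φ (KC A U F)).d i (i + 1)).hom z)
    rw [KC_d]
    show dK S (preU q U) (qF q F) i (βp S hsq F U i (TensorProduct.comm A S (Kp A U F i) (bcX (KC A U F) φ i z))) =
      (show Kp S (preU q U) (qF q F) (i + 1) from βp S hsq F U (i + 1) (TensorProduct.comm A S (Kp A U F (i + 1))
        (bcX (KC A U F) φ (i + 1) (((CohIII.bcCx φ (KC A U F)).d i (i + 1)).hom z))))
    rw [βp_d, bcX_d, KC_d]
    refine congrArg (βp S hsq F U (i + 1)) ?_
    exact (comm_baseChange (dK A U F i) _).symm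

theorem isIso_δC (hU : GoodCover U) : IsIso (δC φ hsq F (U := U)) :=
  haveI : ∀ p, IsIso ((δC φ hsq F (U := U)).f p) := fun p =>
    (ConcreteCategory.isIso_iff_bijective _).2 (bijective_δp φ hsq F hU p)
  HomologicalComplex.Hom.isIso_of_components _

/-- The shifted complexes. -/
noncomputable def δDIso (hU : GoodCover U) (N : ℕ) :
    CohIII.bcCx φ (KD U F N (A := A)) ≅ KD (preU q U) (qF q F) N (A := S) :=
  haveI := isIso_δC φ hsq F hU
  mapExtend (ModuleCat.extendScalars φ) (KC A U F) (embN N) ≪≫
    (ComplexShape.Embedding.extendFunctor (embN N) (ModuleCat.{u} S)).mapIso (asIso (δC φ hsq F (U := U)))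

end Groth.Agent.LeadBC
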