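import Groth.Agent.LeadBC.EtaleFibre
import Groth.Agent.S4506
import Groth.Agent.H10Coh.Proper
import Groth.Agent.H06EGA9.StructureStalk

/-!
# Cohomological flatness in degree zero of the structure sheaf when the fibre functions are étale
-/

set_option autoImplicit false
set_option linter.style.haveILetI false

noncomputable section

universe u

open CategoryTheory CategoryTheory.Limits AlgebraicGeometry Opposite TopologicalSpace
open Groth.Agent.LeadFF

namespace Groth.Agent.LeadBC.Et

theorem isFlatOver_structureModule {X Y : Scheme.{u}} (f : X ⟶ Y) [Flat f] :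
    FlatMod.IsFlatOver f (Coh.structureModule X) := fun x =>
  (H06EGA9.isFlatOverAt_structureModule_iff f x).2 (Flat.stalkMap f x)

variable (A : Type u) [CommRing A] [IsNoetherianRing A] [IsLocalRing A] (X : Scheme.{u})
  [X.Over (Spec (CommRingCat.of A))] [IsProper (X ↘ Spec (CommRingCat.of A))]
  [Flat (X ↘ Spec (CommRingCat.of A))]

theorem preserves_zero (y : ↥(Spec (CommRingCat.of A))) (hy : y.asIdeal = IsLocalRing.maximalIdeal A)
    [Algebra.Etale ((Spec (CommRingCat.of A)).residueField y) Γ((X ↘ Spec (CommRingCat.of A)).fiber y, ⊤)] :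
    (CohIII.tensorAFunctor A (Coh.structureModule X) ⋙ CohIII.HAb X 0).PreservesMonomorphisms ∧
      (CohIII.tensorAFunctor A (Coh.structureModule X) ⋙ CohIII.HAb X 0).PreservesEpimorphisms := by
  haveI : IsLocallyNoetherian X := LocallyOfFiniteType.isLocallyNoetherian (X ↘ Spec (CommRingCat.of A))
  have hcoh : Coh.IsCoh (Coh.structureModule X) := H10Coh.isCoh_structureModule' X
  have hfl := isFlatOver_structureModule (X ↘ Spec (CommRingCat.of A))
  refine ⟨?_, (Groth.Agent.S4506.result A X _ hcoh hfl 0).2 fun n t => ?_⟩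
  · obtain ⟨ι, hι, U, hU, ⟨m⟩⟩ := exists_model A (Coh.structureModule X) hcoh hfl
    refine (preservesMono_iff (m.iso hU 0)).2 ?_
    haveI : ∀ i, Module.Flat A (m.P.X i) := fun i => haveI := (m.finite_free i).2; inferInstance
    refine (H06FlatCx.epi_iff_mono_pred m.P (fun i => inferInstance) rfl).1 ⟨fun {M M'} g _ => ?_⟩
    haveI := m.subsingleton_above (show (m.N : ℤ) < (m.N : ℤ) - ((0 : ℕ) : ℤ) + 1 by simp) M'
    exact (ModuleCat.epi_iff_surjective _).2 fun b => ⟨0, Subsingleton.elim _ _⟩
  · obtain ⟨s, hs⟩ := surjective_top (X := X) y hy n (secTopEquiv _ t)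
    refine ⟨(secTopEquiv _).symm s, (secTopEquiv _).injective ?_⟩
    refine Eq.trans (secTopEquiv_natural _ _) ?_
    rw [AddEquiv.apply_symm_apply]
    exact hs

end Groth.Agent.LeadBC.Et
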