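import Groth.Agent.LeadBC.Seesaw
import Groth.Agent.LeadBC.GenBC.Semicont
import Groth.Agent.LeadBC.GeomConn
import Groth.Agent.H11Ample.RelQuasiAffine
import Groth.Agent.H10Coh.Proper2

/-!
# Functions on a fibre and the rank of the structure sheaf
-/

set_option autoImplicit false
set_option linter.style.haveILetI false
set_option linter.unusedSectionVars false

universe u

open CategoryTheory CategoryTheory.Limits AlgebraicGeometry Opposite TopologicalSpace

namespace Groth.Agent.LeadBC.FiberConst

open Groth.Agent.H11Tilde Groth.Agent.LeadBC.GenBC Groth.Agent.H10Coh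

attribute [local instance 10000] H10Coh.hasSheafifyAb H10Coh.hasWeakSheafifyAb H10Coh.hasExtAb H10Coh.enoughInjAb

/-- Functions on a proper scheme over a field form a finite dimensional space. -/
theorem finite_functions {k : Type u} [Field k] {Y : Scheme.{u}} (g : Y ⟶ Spec (CommRingCat.of k)) [IsProper g] :
    letI : Algebra k Γ(Y, ⊤) := (Coh.toGlobal g).toAlgebra
    Module.Finite k Γ(Y, ⊤) := by
  letI : Y.Over (Spec (CommRingCat.of k)) := ⟨g⟩
  haveI : IsProper (Y ↘ Spec (CommRingCat.of k)) := ‹IsProper g›
  letI : Algebra k Γ(Y, ⊤) := (Coh.toGlobal g).toAlgebra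
  haveI := H10Coh.finite_HH_proper k Y (Coh.structureModule Y) (H10Coh.isCoh_structureModule' Y) 0
  exact Module.Finite.equiv
    ({ H10Coh.HH0Equiv (Coh.structureModule Y) with
        map_smul' := fun c x =>
          (H10Coh.HH0Equiv_smul (Coh.structureModule Y) (Coh.toGlobal g c) x).trans rfl } :
      Coh.HH Y (Coh.structureModule Y) 0 ≃ₗ[k] Γ(Y, ⊤))

variable {X S : Scheme.{u}} (f : X ⟶ S)

/-- The rank of `O_X` on a fibre is the dimension of the functions on the fibre. -/
theorem finrank_eq_fiberRank (s : S) : Module.finrank (S.residueField s) Γ(f.fiber s, ⊤) =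
    CohIII.fiberRank f (Coh.structureModule X) 0 s := by
  obtain ⟨e⟩ := H11Ample.nonempty_pullback_structureModule_iso (f.fiberι s)
  let M := CohIII.fiberMod f (Coh.structureModule X) s
  let g : Γ(M, ⊤) := e.inv.app ⊤ (H11Ample.one ⊤)
  have hg : IsGen M g := H11Ample.isGen_map_iso e.symm (H11Ample.isGen_one ⊤)
  have hb : Function.Bijective fun c : Γ(f.fiber s, ⊤) => c • g := by
    refine Eq.mpr (congrArg Function.Bijective (funext fun c => ?_)) (hg.bijective le_rfl)
    rw [H10Coh.mres_self]
  let E := H10Coh.HH0Equiv M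
  let T : Γ(f.fiber s, ⊤) →ₗ[S.residueField s] CohIII.fiberH f (Coh.structureModule X) s 0 :=
    { toFun := fun c => E.symm (c • g)
      map_add' := fun a b => (congrArg E.symm (add_smul a b g)).trans (map_add _ _ _)
      map_smul' := fun a c => by
        refine E.injective ((E.apply_symm_apply _).trans ?_)
        refine Eq.trans ?_ (H10Coh.HH0Equiv_smul M (algebraMap _ Γ(f.fiber s, ⊤) a) (E.symm (c • g))).symm
        refine Eq.trans ?_ (congrArg (algebraMap _ Γ(f.fiber s, ⊤) a • ·) (E.apply_symm_apply _).symm)
        rw [Algebra.smul_def, mul_smul] }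
  exact (LinearEquiv.ofBijective T (E.symm.bijective.comp hb)).finrank_eq

/-- One dimensional functions on a fibre are constants. -/
theorem isIso_appTop_of_finrank {s : S} (h : Module.finrank (S.residueField s) Γ(f.fiber s, ⊤) = 1) :
    IsIso (f.fiberToSpecResidueField s).appTop := by
  have halg : Function.Bijective (algebraMap (S.residueField s) Γ(f.fiber s, ⊤)) ↔
      Function.Bijective (f.fiberToSpecResidueField s).appTop :=
    Function.Bijective.of_comp_iff _
      (ConcreteCategory.bijective_of_isIso (Scheme.ΓSpecIso (S.residueField s)).inv)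
  rw [ConcreteCategory.isIso_iff_bijective, ← halg]
  haveI : Nontrivial Γ(f.fiber s, ⊤) := Module.nontrivial_of_finrank_eq_succ h
  refine ⟨(algebraMap (S.residueField s) Γ(f.fiber s, ⊤)).injective, fun b => ?_⟩
  obtain ⟨c, hc⟩ := (finrank_eq_one_iff_of_nonzero' (1 : Γ(f.fiber s, ⊤)) one_ne_zero).1 h b
  exact ⟨c, (Algebra.algebraMap_eq_smul_one c).trans hc⟩

/-- Constants only means dimension one. -/
theorem finrank_of_isIso_appTop {s : S} (h : IsIso (f.fiberToSpecResidueField s).appTop) :
    Module.finrank (S.residueField s) Γ(f.fiber s, ⊤) = 1 := by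
  have hb : Function.Bijective (algebraMap (S.residueField s) Γ(f.fiber s, ⊤)) :=
    (ConcreteCategory.bijective_of_isIso (f.fiberToSpecResidueField s).appTop).comp
      (ConcreteCategory.bijective_of_isIso (Scheme.ΓSpecIso (S.residueField s)).inv)
  rw [← (LinearEquiv.ofBijective (Algebra.linearMap (S.residueField s) Γ(f.fiber s, ⊤)) hb).finrank_eq]
  exact Module.finrank_self _

variable [IsProper f] [Flat f] [LocallyOfFinitePresentation f]

/-- Having at most the constants as functions is open on the base. -/
theorem isOpen_finrank_le (n : ℕ) :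
    IsOpen {s : S | Module.finrank (S.residueField s) Γ(f.fiber s, ⊤) ≤ n} := by
  haveI : (Coh.structureModule X).IsQuasicoherent := H10Coh.isQuasicoherent_unit
  have h := (upperSemicontinuous_fiberRank f (Coh.structureModule X) H06EGA9.isFP_structureModule
    (isFlatOver_structure f) 0).isOpen_preimage (n + 1)
  refine (congrArg IsOpen (Set.ext fun s => ?_)).mp h
  show CohIII.fiberRank f (Coh.structureModule X) 0 s < n + 1 ↔ _
  rw [Set.mem_ofPred_eq, finrank_eq_fiberRank, Nat.lt_succ_iff]

omit [Flat f] [LocallyOfFinitePresentation f] in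
/-- A nonempty fibre has at least the constants. -/
theorem finrank_pos {s : S} (h : Nonempty (f.fiber s)) : 0 < Module.finrank (S.residueField s) Γ(f.fiber s, ⊤) := by
  haveI : IsProper (f.fiberToSpecResidueField s) := MorphismProperty.pullback_snd _ _ inferInstance
  haveI : Nonempty ((⊤ : (f.fiber s).Opens) : Scheme.{u}) := ⟨⟨h.some, trivial⟩⟩
  haveI : Nontrivial Γ(f.fiber s, ⊤) := (f.fiber s).component_nontrivial ⊤
  haveI : Module.Finite (S.residueField s) Γ(f.fiber s, ⊤) :=
    finite_functions (k := S.residueField s) (f.fiberToSpecResidueField s)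
  exact Module.finrank_pos

end Groth.Agent.LeadBC.FiberConst
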