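import Groth.Agent.H17.NormalNormalizationScheme
import Groth.Agent.H05EGA4.NormalTensor
import Groth.Agent.H28Neron.NormalSmooth
import Mathlib.AlgebraicGeometry.Geometrically.Integral
import Mathlib.AlgebraicGeometry.Noetherian

/-!
# Fibrations: surjectivity, integrality, normality
-/

set_option autoImplicit false
set_option linter.style.haveILetI false

universe u

open CategoryTheory CategoryTheory.Limits AlgebraicGeometry Opposite TopologicalSpace

namespace Groth.Agent.LeadBC.Fibration

variable {X Y : Scheme.{u}} (f : X ⟶ Y) (hfib : ∀ V : Y.Opens, IsIso (f.app V))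

include hfib in
theorem surjective [IsProper f] : Surjective f := by
  refine ⟨fun y => ?_⟩
  by_contra hy
  let V : Y.Opens := ⟨(Set.range f)ᶜ, f.isClosedMap.isClosed_range.isOpen_compl⟩
  have hyV : y ∈ V := hy
  have h0 : f ⁻¹ᵁ V = ⊥ := by
    ext x
    exact iff_of_false (fun h => (h : f x ∈ V) ⟨x, rfl⟩) id
  haveI := hfib V
  haveI : Subsingleton Γ(X, f ⁻¹ᵁ V) := by rw [h0]; infer_instance
  haveI : Subsingleton Γ(Y, V) := (ConcreteCategory.bijective_of_isIso (f.app V)).1.subsingleton
  have h1 : Y.presheaf.germ V y hyV 1 = Y.presheaf.germ V y hyV 0 := congrArg _ (Subsingleton.elim _ _)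
  rw [map_one, map_zero] at h1
  exact one_ne_zero h1

include hfib in
theorem isReduced [IsReduced X] : IsReduced Y := ⟨fun V => by
  haveI := hfib V
  exact isReduced_of_injective (f.app V).hom (ConcreteCategory.bijective_of_isIso (f.app V)).1⟩

theorem irreducibleSpace [Surjective f] [IrreducibleSpace X] : IrreducibleSpace Y where
  isPreirreducible_univ := by
    rw [← f.surjective.range_eq, ← Set.image_univ]
    exact (IrreducibleSpace.isIrreducible_univ X).2.image _ f.continuous.continuousOn
  toNonempty := Nonempty.map f inferInstance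

include hfib in
theorem isIntegral [IsProper f] [IsIntegral X] : IsIntegral Y :=
  haveI := surjective f hfib
  haveI := isReduced f hfib
  haveI := irreducibleSpace f
  isIntegral_of_irreducibleSpace_of_isReduced Y

include hfib in
/-- Functions over affine opens pass to a flat affine base change. -/
theorem bijective_app_baseChange [QuasiCompact f] [QuasiSeparated f] {P Q : Scheme.{u}} {g : P ⟶ Y}
    [Flat g] [IsAffineHom g] {g' : Q ⟶ X} {f' : Q ⟶ P} (H : IsPullback f' g' g f) {V : Y.Opens}
    (hV : IsAffineOpen V) : Function.Bijective (f'.app (g ⁻¹ᵁ V)) := by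
  have hcap : f' ⁻¹ᵁ (g ⁻¹ᵁ V) = f' ⁻¹ᵁ (g ⁻¹ᵁ V) ⊓ g' ⁻¹ᵁ (f ⁻¹ᵁ V) := by
    rw [← Scheme.Hom.comp_preimage, ← Scheme.Hom.comp_preimage, H.w, inf_idem]
  have hp := (isIso_pushoutSection_iff H (US := V) (UX := g ⁻¹ᵁ V) (UT := f ⁻¹ᵁ V) le_rfl le_rfl hcap).1
    (isIso_pushoutSection_of_isQuasiSeparated_of_flat_left H le_rfl le_rfl hcap hV (hV.preimage g)
      (f.isCompact_preimage hV.isCompact) (f.isQuasiSeparated_preimage hV.isQuasiSeparated))
  haveI : IsIso (f.appLE V (f ⁻¹ᵁ V) le_rfl) := by
    rw [← Scheme.Hom.app_eq_appLE]; exact hfib V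
  have := hp.isIso_inl_of_isIso
  rw [Scheme.Hom.app_eq_appLE]
  exact (ConcreteCategory.isIso_iff_bijective _).1 this

include hfib in
/-- Geometric integrality passes to the target of a fibration over a field. -/
theorem geometricallyIntegral [IsProper f] {k : Type u} [Field k] (sY : Y ⟶ Spec (CommRingCat.of k))
    [hX : GeometricallyIntegral (f ≫ sY)] : GeometricallyIntegral sY := by
  refine ⟨fun K _ z P fst snd h => ?_⟩
  haveI : IsAffineHom fst := MorphismProperty.of_isPullback h.flip (inferInstance : IsAffineHom z)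
  haveI : Flat z := by
    obtain ⟨φ, rfl⟩ := Spec.map_surjective z
    rw [HasRingHomProperty.Spec_iff (P := @Flat)]
    letI := φ.hom.toAlgebra
    exact RingHom.flat_algebraMap_iff.mpr (inferInstanceAs (Module.Flat k K))
  haveI : Flat fst := MorphismProperty.of_isPullback h.flip (inferInstance : Flat z)
  let Q := pullback f fst
  have hsq : IsPullback (pullback.fst f fst) (pullback.snd f fst) f fst := IsPullback.of_hasPullback _ _
  haveI hQ : IsIntegral Q := hX.geometrically_isIntegral z _ _ (hsq.paste_vert h)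
  haveI := surjective f hfib
  haveI : Surjective (pullback.snd f fst) := MorphismProperty.of_isPullback hsq (inferInstance : Surjective f)
  haveI : IrreducibleSpace P := irreducibleSpace (pullback.snd f fst)
  haveI : IsReduced P := by
    haveI : ∀ x : P, _root_.IsReduced (P.presheaf.stalk x) := fun x => by
      obtain ⟨V, hV, hxV, -⟩ := exists_isAffineOpen_mem_and_subset (U := (⊤ : Y.Opens)) (x := fst x) trivial
      have hP : IsAffineOpen (fst ⁻¹ᵁ V) := hV.preimage fst
      haveI : _root_.IsReduced Γ(P, fst ⁻¹ᵁ V) := isReduced_of_injective _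
        (bijective_app_baseChange f hfib hsq.flip hV).1
      let x' : ↥(fst ⁻¹ᵁ V : P.Opens) := ⟨x, hxV⟩
      letI := P.presheaf.algebra_section_stalk x'
      haveI := hP.isLocalization_stalk x'
      show _root_.IsReduced (P.presheaf.stalk x'.1)
      exact isReduced_localizationPreserves (hP.primeIdealOf x').asIdeal.primeCompl _ inferInstance
    exact isReduced_of_isReduced_stalk P
  exact isIntegral_of_irreducibleSpace_of_isReduced P

/-- The target of a fibration out of a Noetherian normal scheme is normal. -/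
theorem isNormalScheme' [QuasiCompact f] [QuasiSeparated f] [IsNoetherian X] (hX : Pi1.IsNormalScheme X)
    (hloc : ∀ y : Y, ∃ V : Y.Opens, IsAffineOpen V ∧ y ∈ V ∧ Function.Bijective (f.app V)) :
    Pi1.IsNormalScheme Y := by
  intro y
  haveI : Finite ↥(irreducibleComponents ↥X) := NoetherianSpace.finite_irreducibleComponents.to_subtype
  have hN := (H17.NormalNormalizationScheme.normalization_normal f hX (locallyFinite_of_finite _)).1
  obtain ⟨V, hV, hyV, hb⟩ := hloc y
  letI := (f.app V).hom.toAlgebra
  let e : Γ(Y, V) ≃+* integralClosure Γ(Y, V) Γ(X, f ⁻¹ᵁ V) := RingEquiv.ofBijective (algebraMap _ _)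
    ⟨fun a b hab => hb.1 (congrArg Subtype.val hab),
      fun c => by obtain ⟨a, ha⟩ := hb.2 c.1; exact ⟨a, Subtype.ext ha⟩⟩
  have hn : EGA4.IsNormalRing Γ(Y, V) := H05EGA4.isNormalRing_of_ringEquiv
    (((f.normalizationObjIso hV).commRingCatIsoToRingEquiv).trans e.symm)
    (H28Neron.isNormalRing_sections hN (hV.preimage f.fromNormalization))
  let p := (hV.primeIdealOf ⟨y, hyV⟩).asIdeal
  letI := Y.presheaf.algebra_section_stalk ⟨y, hyV⟩
  haveI : IsLocalization p.primeCompl (Y.presheaf.stalk y) := hV.isLocalization_stalk ⟨y, hyV⟩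
  let e' := IsLocalization.algEquiv p.primeCompl (Localization.AtPrime p) (Y.presheaf.stalk y)
  obtain ⟨h1, h2⟩ := hn p
  exact ⟨e'.symm.toMulEquiv.isDomain _, IsIntegrallyClosed.of_equiv e'.toRingEquiv⟩

include hfib in
theorem isNormalScheme [QuasiCompact f] [QuasiSeparated f] [IsNoetherian X] (hX : Pi1.IsNormalScheme X) :
    Pi1.IsNormalScheme Y := isNormalScheme' f hX fun y => by
  obtain ⟨V, hV, hyV, -⟩ := exists_isAffineOpen_mem_and_subset (U := (⊤ : Y.Opens)) (x := y) trivial
  haveI := hfib V
  exact ⟨V, hV, hyV, ConcreteCategory.bijective_of_isIso (f.app V)⟩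

include hfib in
/-- Normality of the target after a field extension. -/
theorem isNormalScheme_pullback [IsProper f] {k K : Type u} [Field k] [Field K] (sX : X ⟶ Spec (CommRingCat.of k))
    (sY : Y ⟶ Spec (CommRingCat.of k)) (hf : f ≫ sY = sX) [LocallyOfFiniteType sX] [QuasiCompact sX]
    (z : Spec (CommRingCat.of K) ⟶ Spec (CommRingCat.of k)) (hX : Pi1.IsNormalScheme (pullback sX z)) :
    Pi1.IsNormalScheme (pullback sY z) := by
  haveI : Flat z := by
    obtain ⟨φ, rfl⟩ := Spec.map_surjective z
    rw [HasRingHomProperty.Spec_iff (P := @Flat)]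
    letI := φ.hom.toAlgebra
    exact RingHom.flat_algebraMap_iff.mpr (inferInstanceAs (Module.Flat k K))
  haveI : IsLocallyNoetherian (pullback sX z) := LocallyOfFiniteType.isLocallyNoetherian (pullback.snd sX z)
  haveI : CompactSpace ↥(pullback sX z) := QuasiCompact.compactSpace_of_compactSpace (pullback.snd sX z)
  haveI : AlgebraicGeometry.IsNoetherian (pullback sX z) := {}
  subst hf
  let f' : pullback (f ≫ sY) z ⟶ pullback sY z :=
    pullback.lift (pullback.fst _ _ ≫ f) (pullback.snd _ _) (by rw [Category.assoc, pullback.condition])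
  have hsq : IsPullback (pullback.fst (f ≫ sY) z) f' f (pullback.fst sY z) :=
    IsPullback.of_bot (v₂₁ := pullback.snd sY z) (v₂₂ := sY) (h₃₁ := z)
      (by rw [pullback.lift_snd]; exact IsPullback.of_hasPullback _ _) (pullback.lift_fst _ _ _).symm
      (IsPullback.of_hasPullback _ _)
  haveI : IsAffineHom (pullback.fst sY z) := MorphismProperty.pullback_fst _ _ (inferInstance : IsAffineHom z)
  haveI : Flat (pullback.fst sY z) := MorphismProperty.pullback_fst _ _ (inferInstance : Flat z)
  haveI : IsProper f' := MorphismProperty.of_isPullback hsq (inferInstance : IsProper f)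
  refine isNormalScheme' f' hX fun y => ?_
  obtain ⟨V, hV, hyV, -⟩ := exists_isAffineOpen_mem_and_subset (U := (⊤ : Y.Opens)) (x := pullback.fst sY z y) trivial
  exact ⟨_, hV.preimage (pullback.fst sY z), hyV, bijective_app_baseChange f hfib hsq.flip hV⟩

end Groth.Agent.LeadBC.Fibration
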