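import Groth.Agent.LeadBC.TensorSect
import Groth.Agent.LeadBC.Cech
import Groth.Agent.H17.PullSect
import Groth.Prelude.Def_ega3

/-!
# Sections of `f^*(M~) ⊗ F` over affine opens

For `X` over `Spec A`, a quasi-coherent `F` and an affine open `V`: `Γ(V, f^*(M~) ⊗ F) = Γ(V, F) ⊗_A M`,
naturally in the `A`-module `M` and in `V`.
-/

set_option autoImplicit false
set_option linter.style.haveILetI false
set_option linter.unusedSectionVars false

universe u

open AlgebraicGeometry CategoryTheory CategoryTheory.Limits TopologicalSpace Opposite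
open Groth.Agent.H11Ample
open scoped TensorProduct

namespace Groth.Agent.LeadBC

open Groth.Agent.LeadFF

section Gen

variable {X : Scheme.{u}} {R : CommRingCat.{u}} (f : X ⟶ Spec R) (M : ModuleCat.{u} R) (V : X.Opens)

theorem isQCoh_tilde_obj : Coh.IsQCoh ((tilde.functor R).obj M) :=
  inferInstanceAs ((tilde.functor R).obj M).IsQuasicoherent

theorem app_res {P Q : X.Modules} (ψ : P ⟶ Q) {V W : X.Opens} (h : V ≤ W) (x : Γ(P, W)) :
    ψ.app V (P.presheaf.map (homOfLE h).op x) = Q.presheaf.map (homOfLE h).op (ψ.app W x) :=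
  congr($((Scheme.Modules.Hom.mapPresheaf ψ).naturality (homOfLE h).op) x)

theorem res_res_mod (P : X.Modules) {V W Z : X.Opens} (h : W ≤ V) (h' : Z ≤ W) (x : Γ(P, V)) :
    P.presheaf.map (homOfLE h').op (P.presheaf.map (homOfLE h).op x) =
      P.presheaf.map (homOfLE (h'.trans h)).op x := by
  rw [← ConcreteCategory.comp_apply, ← CategoryTheory.Functor.map_comp]
  rfl

theorem toG_smul (r : R) (m : M) :
    H10Coh.TT.toG M (r • m) = (Scheme.ΓSpecIso R).inv r • H10Coh.TT.toG M m := by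
  refine (map_smul (H10Coh.TT.toG M) r m).trans ((Scheme.Modules.smul_Spec_def r _).trans ?_)
  rw [show ((⊤ : (Spec R).Opens).leTop).op = 𝟙 _ from rfl, CategoryTheory.Functor.map_id]
  rfl

/-- The scalars of `R` on sections. -/
noncomputable abbrev scG : R →+* Γ(X, V) :=
  (f.appLE ⊤ V le_top).hom.comp (Scheme.ΓSpecIso R).inv.hom

/-- The image of an element in `Γ(V, f^*(M~))`. -/
noncomputable def ηgen (m : M) : Γ((Scheme.Modules.pullback f).obj ((tilde.functor R).obj M), V) :=
  ((Scheme.Modules.pullback f).obj ((tilde.functor R).obj M)).presheaf.map (homOfLE (le_top : V ≤ f ⁻¹ᵁ ⊤)).op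
    (OmegaSh.pullSect f ((tilde.functor R).obj M) ⊤ (H10Coh.TT.toG M m))

theorem ηgen_eq_pullLin (m : M) :
    ηgen f M V m = H8Props.PullSections.pullLin f ((tilde.functor R).obj M) (U := V) (W := ⊤) le_top
      (H10Coh.TT.toG M m) := rfl

theorem ηgen_add (a b : M) : ηgen f M V (a + b) = ηgen f M V a + ηgen f M V b := by
  rw [ηgen_eq_pullLin, map_add, map_add]
  rfl

theorem ηgen_smul (r : R) (m : M) : ηgen f M V (r • m) = scG f V r • ηgen f M V m := by
  letI := Module.compHom Γ((Scheme.Modules.pullback f).obj ((tilde.functor R).obj M), V)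
    (f.appLE ⊤ V (le_top : V ≤ _ ⁻¹ᵁ ⊤)).hom
  exact (congrArg (H8Props.PullSections.pullLin f ((tilde.functor R).obj M) (U := V) (W := ⊤) le_top)
    (toG_smul M r m)).trans (map_smul _ _ _)

theorem ηgen_res {W : X.Opens} (h : W ≤ V) (m : M) :
    ((Scheme.Modules.pullback f).obj ((tilde.functor R).obj M)).presheaf.map (homOfLE h).op (ηgen f M V m) =
      ηgen f M W m :=
  res_res_mod _ _ h _

theorem ηgen_natural {N : ModuleCat.{u} R} (φ : M ⟶ N) (m : M) :
    ((Scheme.Modules.pullback f).map ((tilde.functor R).map φ)).app V (ηgen f M V m) = ηgen f N V (φ.hom m) :=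
  (app_res ((Scheme.Modules.pullback f).map ((tilde.functor R).map φ)) (le_top : V ≤ f ⁻¹ᵁ ⊤) _).trans
    (congrArg _ ((H17.PullSect.pullSect_natural f ((tilde.functor R).map φ) ⊤ _).symm.trans
      (congrArg (OmegaSh.pullSect f ((tilde.functor R).obj N) ⊤) (H10Coh.TT.toG_naturality φ m))))

theorem isBaseChange_ηgen (hV : IsAffineOpen V) :
    letI : Algebra R Γ(X, V) := (scG f V).toAlgebra
    letI : Module R Γ((Scheme.Modules.pullback f).obj ((tilde.functor R).obj M), V) := Module.compHom _ (scG f V)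
    haveI : IsScalarTower R Γ(X, V) Γ((Scheme.Modules.pullback f).obj ((tilde.functor R).obj M), V) :=
      .of_algebraMap_smul fun _ _ => rfl
    IsBaseChange Γ(X, V)
      ({ toFun := ηgen f M V, map_add' := ηgen_add f M V, map_smul' := ηgen_smul f M V } :
        M →ₗ[R] Γ((Scheme.Modules.pullback f).obj ((tilde.functor R).obj M), V)) := by
  let R₀ := Γ(Spec R, ⊤)
  let G := (tilde.functor R).obj M
  let P := (Scheme.Modules.pullback f).obj G
  letI : Algebra R R₀ := (Scheme.ΓSpecIso R).inv.hom.toAlgebra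
  letI : Algebra R₀ Γ(X, V) := (f.appLE ⊤ V le_top).hom.toAlgebra
  letI : Algebra R Γ(X, V) := (scG f V).toAlgebra
  letI : Module R Γ(P, V) := Module.compHom _ (scG f V)
  letI : Module R₀ Γ(P, V) := Module.compHom _ (f.appLE ⊤ V le_top).hom
  haveI : IsScalarTower R Γ(X, V) Γ(P, V) := .of_algebraMap_smul fun _ _ => rfl
  haveI : IsScalarTower R₀ Γ(X, V) Γ(P, V) := .of_algebraMap_smul fun _ _ => rfl
  haveI : IsScalarTower R R₀ Γ(X, V) := .of_algebraMap_eq fun r => rfl
  haveI : IsScalarTower R R₀ Γ(P, V) := .of_algebraMap_smul fun r z => rfl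
  letI : Module R Γ(G, ⊤) := Module.compHom _ (algebraMap R R₀)
  haveI : IsScalarTower R R₀ Γ(G, ⊤) := .of_algebraMap_smul fun _ _ => rfl
  let g₀ : M →ₗ[R] Γ(G, ⊤) :=
    { toFun := fun m => H10Coh.TT.toG M m
      map_add' := fun a b => map_add _ a b
      map_smul' := fun r m => toG_smul M r m }
  have h₀ : IsBaseChange R₀ g₀ := by
    let eg := LinearEquiv.ofBijective g₀ (H10Coh.TT.bijective_toG M)
    have hsurj : Function.Surjective (algebraMap R R₀) := fun r =>
      ⟨(Scheme.ΓSpecIso R).hom r, ConcreteCategory.congr_hom (Scheme.ΓSpecIso R).hom_inv_id r⟩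
    refine IsBaseChange.of_lift_unique _ fun Q _ _ _ _ g => ?_
    refine ⟨{ toFun := fun z => g (eg.symm z)
              map_add' := fun a b => by rw [map_add, map_add]
              map_smul' := fun r z => ?_ }, LinearMap.ext fun m => ?_, fun l hl => ?_⟩
    · obtain ⟨a, rfl⟩ := hsurj r
      rw [algebraMap_smul, map_smul, map_smul, RingHom.id_apply, algebraMap_smul]
    · exact congrArg g (eg.symm_apply_apply m)
    · refine LinearMap.ext fun z => ?_
      obtain ⟨m, rfl⟩ := eg.surjective z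
      exact (LinearMap.congr_fun hl m).trans (congrArg g (eg.symm_apply_apply m)).symm
  have h₁ := H8Props.PullSections.isBaseChange_pullLin f G (U := V) (W := ⊤) le_top
    (isQCoh_tilde_obj M) (isAffineOpen_top _) hV
  let L : Γ(G, ⊤) →ₗ[R₀] Γ(P, V) := H8Props.PullSections.pullLin f G (U := V) (W := ⊤) le_top
  have e : ({ toFun := ηgen f M V, map_add' := ηgen_add f M V, map_smul' := ηgen_smul f M V } :
      M →ₗ[R] Γ(P, V)) = (L.restrictScalars R).comp g₀ := LinearMap.ext fun m => rfl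
  have h : IsBaseChange Γ(X, V) ((L.restrictScalars R).comp g₀) := IsBaseChange.comp h₀ h₁
  exact e.symm ▸ h

end Gen

variable (A : Type u) [CommRing A] {X : Scheme.{u}} [X.Over (Spec (CommRingCat.of A))]

/-- `f^*(M~)`. -/
noncomputable abbrev pT (M : ModuleCat.{u} A) : X.Modules :=
  (Scheme.Modules.pullback (X ↘ Spec (CommRingCat.of A))).obj ((tilde.functor (CommRingCat.of A)).obj M)

instance isQCoh_pT (M : ModuleCat.{u} A) : (pT A (X := X) M).IsQuasicoherent :=
  H29Fitt.isQCoh_pullback _ ((tilde.functor (CommRingCat.of A)).obj M)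
    (isQCoh_tilde_obj (R := CommRingCat.of A) M)

theorem isQCoh_GM (F : X.Modules) [F.IsQuasicoherent] (M : ModuleCat.{u} A) :
    ((CohIII.tensorAFunctor A F).obj M).IsQuasicoherent :=
  H10Coh.TT.isQCoh_tensorMod (pT A M) F

/-- `M → Γ(V, f^*(M~))`. -/
noncomputable def ηV (M : ModuleCat.{u} A) (V : X.Opens) : M →ₗ[A] sec A (pT A M) V where
  toFun m := ηgen (R := CommRingCat.of A) (X ↘ Spec (CommRingCat.of A)) M V m
  map_add' := ηgen_add (R := CommRingCat.of A) (X ↘ Spec (CommRingCat.of A)) M V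
  map_smul' := ηgen_smul (R := CommRingCat.of A) (X ↘ Spec (CommRingCat.of A)) M V

/-- The image of an element in `Γ(V, f^*(M~))`. -/
noncomputable abbrev ηfun (M : ModuleCat.{u} A) (V : X.Opens) (m : M) : Γ(pT A (X := X) M, V) :=
  ηgen (R := CommRingCat.of A) (X ↘ Spec (CommRingCat.of A)) M V m

theorem ηfun_natural {M N : ModuleCat.{u} A} (φ : M ⟶ N) (V : X.Opens) (m : M) :
    ((Scheme.Modules.pullback (X ↘ Spec (CommRingCat.of A))).map ((tilde.functor (CommRingCat.of A)).map φ)).app V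
      (ηfun A M V m) = ηfun A N V (φ.hom m) :=
  ηgen_natural (R := CommRingCat.of A) (X ↘ Spec (CommRingCat.of A)) M V φ m

theorem ηV_res (M : ModuleCat.{u} A) {V W : X.Opens} (h : W ≤ V) (m : M) :
    resL A (pT A M) h (ηV A M V m) = ηV A M W m :=
  ηgen_res (R := CommRingCat.of A) (X ↘ Spec (CommRingCat.of A)) M V h m

variable (F : X.Modules)

/-- `Γ(V, F) ⊗ M → Γ(V, f^*(M~) ⊗ F)`. -/
noncomputable def τ₀ (M : ModuleCat.{u} A) (V : X.Opens) :
    sec A F V ⊗[A] M →ₗ[A] sec A ((CohIII.tensorAFunctor A F).obj M) V :=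
  TensorProduct.lift (LinearMap.mk₂ A
    (fun (x : sec A F V) (m : M) => (tm (ηV A M V m : Γ(pT A M, V)) (x : Γ(F, V)) :
      Γ(CohB1.tensorMod (pT A M) F, V)))
    (fun x y m => tm_add_right _ _ _)
    (fun r x m => tm_smul_right (sc A V r) _ _)
    (fun x m n => (congrArg (fun z : Γ(pT A M, V) => tm z (x : Γ(F, V))) (map_add (ηV A M V) m n)).trans
      (tm_add_left _ _ _))
    (fun r x m => (congrArg (fun z : Γ(pT A M, V) => tm z (x : Γ(F, V))) (map_smul (ηV A M V) r m)).trans
      (tm_smul_left (sc A V r) _ _)))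

theorem τ₀_tmul (M : ModuleCat.{u} A) (V : X.Opens) (x : sec A F V) (m : M) :
    τ₀ A F M V (x ⊗ₜ m) = tm (ηV A M V m : Γ(pT A M, V)) (x : Γ(F, V)) := rfl

theorem τ₀_natural {M N : ModuleCat.{u} A} (φ : M ⟶ N) (V : X.Opens) (z : sec A F V ⊗[A] M) :
    appL A ((CohIII.tensorAFunctor A F).map φ) V (τ₀ A F M V z) = τ₀ A F N V (φ.hom.lTensor _ z) := by
  induction z using TensorProduct.induction_on with
  | zero => simp
  | add a b ha hb => rw [map_add, map_add, ha, hb, map_add, map_add]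
  | tmul x m =>
    rw [τ₀_tmul, LinearMap.lTensor_tmul, τ₀_tmul]
    have hmap : (CohIII.tensorAFunctor A F).map φ = KoszTw.tensorMap
        ((Scheme.Modules.pullback (X ↘ Spec (CommRingCat.of A))).map ((tilde.functor (CommRingCat.of A)).map φ))
        (𝟙 F) := by
      simp [CohIII.tensorAFunctor, KoszTw.tensorMap]
      rfl
    rw [hmap]
    refine (KoszTw.tensorMap_tmul _ (𝟙 F) V _ _).trans ?_
    exact congrArg (fun z : Γ(pT A N, V) => tm z (x : Γ(F, V))) (ηfun_natural A φ V m)

theorem τ₀_res (M : ModuleCat.{u} A) {V W : X.Opens} (h : W ≤ V) (z : sec A F V ⊗[A] M) :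
    resL A _ h (τ₀ A F M V z) = τ₀ A F M W ((resL A F h).rTensor M z) := by
  induction z using TensorProduct.induction_on with
  | zero => simp
  | add a b ha hb => rw [map_add, map_add, ha, hb, map_add, map_add]
  | tmul x m =>
    rw [τ₀_tmul, LinearMap.rTensor_tmul, τ₀_tmul]
    exact (tm_res h _ _).trans
      (congrArg (fun z : Γ(pT A M, W) => tm z _) (ηV_res A M h m))

theorem isBaseChange_ηV (M : ModuleCat.{u} A) {V : X.Opens} (hV : IsAffineOpen V) :
    letI : Algebra A Γ(X, V) := (sc A V).toAlgebra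
    letI : Module A Γ(pT A (X := X) M, V) := Module.compHom _ (sc A V)
    haveI : IsScalarTower A Γ(X, V) Γ(pT A (X := X) M, V) := .of_algebraMap_smul fun _ _ => rfl
    IsBaseChange Γ(X, V) (show M →ₗ[A] Γ(pT A (X := X) M, V) from ηV A M V) :=
  isBaseChange_ηgen (R := CommRingCat.of A) (X ↘ Spec (CommRingCat.of A)) M V hV

theorem bijective_τ₀ [F.IsQuasicoherent] (M : ModuleCat.{u} A) {V : X.Opens} (hV : IsAffineOpen V) :
    Function.Bijective (τ₀ A F M V) := by
  letI : Algebra A Γ(X, V) := (sc A V).toAlgebra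
  letI : Module A Γ(pT A (X := X) M, V) := Module.compHom _ (sc A V)
  haveI : IsScalarTower A Γ(X, V) Γ(pT A (X := X) M, V) := .of_algebraMap_smul fun _ _ => rfl
  letI : Module A Γ(F, V) := Module.compHom _ (sc A V)
  haveI : IsScalarTower A Γ(X, V) Γ(F, V) := .of_algebraMap_smul fun _ _ => rfl
  let e : Γ(F, V) ⊗[A] M ≃ₗ[Γ(X, V)] Γ(pT A (X := X) M, V) ⊗[Γ(X, V)] Γ(F, V) :=
    (TensorProduct.AlgebraTensorModule.cancelBaseChange A Γ(X, V) Γ(X, V) Γ(F, V) M).symm ≪≫ₗ
      (TensorProduct.congr (LinearEquiv.refl Γ(X, V) Γ(F, V)) (isBaseChange_ηV A M hV).equiv) ≪≫ₗ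
      TensorProduct.comm Γ(X, V) Γ(F, V) Γ(pT A (X := X) M, V)
  have key : ∀ z, mulSect (pT A M) F V (e z) = τ₀ A F M V z := by
    intro z
    induction z using TensorProduct.induction_on with
    | zero => rw [map_zero, map_zero]; exact (map_zero (τ₀ A F M V)).symm
    | add a b ha hb => rw [map_add, map_add, ha, hb]; exact (map_add (τ₀ A F M V) a b).symm
    | tmul x m =>
      have he : e (x ⊗ₜ m) = (ηfun A M V m) ⊗ₜ x := by
        show TensorProduct.comm Γ(X, V) Γ(F, V) Γ(pT A (X := X) M, V)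
          ((TensorProduct.congr (LinearEquiv.refl Γ(X, V) Γ(F, V)) (isBaseChange_ηV A M hV).equiv)
            ((TensorProduct.AlgebraTensorModule.cancelBaseChange A Γ(X, V) Γ(X, V) Γ(F, V) M).symm (x ⊗ₜ m))) = _
        refine (congrArg (TensorProduct.comm Γ(X, V) Γ(F, V) Γ(pT A (X := X) M, V))
          (show _ = x ⊗ₜ[Γ(X, V)] ηfun A M V m from ?_)).trans (TensorProduct.comm_tmul _ _ _ _ _)
        show (TensorProduct.congr (LinearEquiv.refl Γ(X, V) Γ(F, V)) (isBaseChange_ηV A M hV).equiv)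
          ((TensorProduct.AlgebraTensorModule.cancelBaseChange A Γ(X, V) Γ(X, V) Γ(F, V) M).symm (x ⊗ₜ m)) = _
        rw [TensorProduct.AlgebraTensorModule.cancelBaseChange_symm_tmul, TensorProduct.congr_tmul]
        exact congrArg (x ⊗ₜ[Γ(X, V)] ·) (((isBaseChange_ηV A M hV).equiv_tmul 1 m).trans (one_smul _ _))
      exact (congrArg (mulSect (pT A M) F V) he).trans (mulSect_tmul _ _ _ _ _)
  have hb : Function.Bijective (fun z => mulSect (pT A M) F V (e z)) :=
    (bijective_mulSect (pT A M) F V hV).comp e.bijective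
  rwa [funext key] at hb

end Groth.Agent.LeadBC
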