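import Groth.Agent.LeadBC.Exch2
import Groth.Agent.H06FlatCx.Artinian
import Groth.Agent.H06FlatCx.Criteria
import Groth.Agent.H22Alg.FiniteLength

/-!
# Exactness of `M ↦ H_p(P ⊗ M)` from lengths on infinitesimal neighbourhoods
-/

set_option autoImplicit false
set_option linter.style.haveILetI false

universe u

open CategoryTheory CategoryTheory.Limits MonoidalCategory
open scoped TensorProduct

namespace Groth.Agent.LeadBC

variable {A : Type u} [CommRing A] (P : ChainComplex (ModuleCat.{u} A) ℤ)

/-- Injectivity in one degree on a short exact sequence gives surjectivity in the next. -/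
theorem surjective_succ_of_injective {p : ℤ} [Module.Flat A (P.X p)] [Module.Flat A (P.X (p - 1))]
    (S : ShortComplex (ModuleCat.{u} A)) (hS : S.ShortExact)
    (hf : Function.Injective ((CohIII.TFun P p).map S.f).hom) :
    Function.Surjective ((CohIII.TFun P (p + 1)).map S.g).hom := by
  have hn : (ComplexShape.down ℤ).next (p + 1) = p := H06FlatCx.next_succ p
  have hp : (ComplexShape.down ℤ).prev p = p + 1 := H06FlatCx.down_prev p
  intro t
  obtain ⟨⟨z, hz⟩, rfl⟩ := H06FlatCx.tcls_surjective P hn S.X₃ t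
  obtain ⟨z, rfl⟩ := LinearMap.lTensor_surjective (P.X (p + 1)) hS.moduleCat_surjective_g z
  rw [LinearMap.mem_ker, ← H06FlatCx.lTensor_rTensor_apply] at hz
  have hex := lTensor_exact (P.X p) ((ShortComplex.ShortExact.moduleCat_exact_iff_function_exact S).1 hS.exact)
    hS.moduleCat_surjective_g
  obtain ⟨c, hc⟩ := (hex _).1 hz
  have hinj : Function.Injective (S.f.hom.lTensor (P.X p)) :=
    Module.Flat.lTensor_preserves_injective_linearMap (M := P.X p) _ hS.moduleCat_injective_f
  have hd0 : (P.d p (p - 1)).hom.rTensor S.X₂ ((P.d (p + 1) p).hom.rTensor S.X₂ z) = 0 :=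
    H06FlatCx.rTensor_comp_zero (H06FlatCx.d_comp_d P (p + 1) p (p - 1)) _ z
  have hc0 : (P.d p (p - 1)).hom.rTensor S.X₁ c = 0 := by
    refine Module.Flat.lTensor_preserves_injective_linearMap (M := P.X (p - 1)) _ hS.moduleCat_injective_f ?_
    rw [H06FlatCx.lTensor_rTensor_apply, hc, hd0, map_zero]
  have h0 : H06FlatCx.tcls P (H06FlatCx.down_next p) S.X₁ ⟨c, hc0⟩ = 0 := hf (by
    rw [map_zero, H06FlatCx.map_tcls, H06FlatCx.tcls_eq_zero_iff P hp]
    exact ⟨z, hc.symm⟩)
  obtain ⟨b, hb⟩ := (H06FlatCx.tcls_eq_zero_iff P hp _ _ ⟨c, hc0⟩).1 h0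
  refine ⟨H06FlatCx.tcls P hn S.X₂ ⟨z - S.f.hom.lTensor _ b, ?_⟩, ?_⟩
  · rw [LinearMap.mem_ker, map_sub, ← H06FlatCx.lTensor_rTensor_apply, hb, hc, sub_self]
  · rw [H06FlatCx.map_tcls]
    refine congrArg _ (Subtype.ext ?_)
    show S.g.hom.lTensor _ (z - S.f.hom.lTensor _ b) = _
    rw [map_sub, (lTensor_exact (P.X (p + 1))
      ((ShortComplex.ShortExact.moduleCat_exact_iff_function_exact S).1 hS.exact)
      hS.moduleCat_surjective_g).apply_apply_eq_zero, sub_zero]

/-- The sequence `0 → m/m^(n+1) → A/m^(n+1) → k → 0`. -/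
noncomputable def truncSeq (A : Type u) [CommRing A] [IsLocalRing A] (n : ℕ) : ShortComplex (ModuleCat.{u} A) :=
  let g : (A ⧸ IsLocalRing.maximalIdeal A ^ (n + 1)) →ₗ[A] A ⧸ IsLocalRing.maximalIdeal A :=
    (Ideal.Quotient.factorₐ A (Ideal.pow_le_self (I := IsLocalRing.maximalIdeal A) (Nat.succ_ne_zero n))).toLinearMap
  ShortComplex.mk (ModuleCat.ofHom (LinearMap.ker g).subtype) (ModuleCat.ofHom g)
    (ModuleCat.hom_ext (LinearMap.ext fun x => x.2))

theorem truncSeq_shortExact [IsLocalRing A] (n : ℕ) : (truncSeq A n).ShortExact where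
  exact := (ShortComplex.ShortExact.moduleCat_exact_iff_function_exact _).mpr
    (LinearMap.exact_subtype_ker_map _)
  mono_f := (ModuleCat.mono_iff_injective _).mpr Subtype.val_injective
  epi_g := (ModuleCat.epi_iff_surjective _).mpr
    (Ideal.Quotient.factor_surjective (Ideal.pow_le_self (Nat.succ_ne_zero n)))

variable [IsNoetherianRing A] [IsLocalRing A]

theorem length_ne_top_of_pow_smul {M : Type u} [AddCommGroup M] [Module A M] [Module.Finite A M] (n : ℕ)
    (h : ∀ r ∈ IsLocalRing.maximalIdeal A ^ n, ∀ x : M, r • x = 0) : Module.length A M ≠ ⊤ := by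
  refine H22Alg.length_ne_top_of_support_maximal fun p hp => ?_
  rw [Module.support_eq_zeroLocus, PrimeSpectrum.mem_zeroLocus] at hp
  have h1 : IsLocalRing.maximalIdeal A ^ n ≤ p.asIdeal := fun r hr => hp (Module.mem_annihilator.mpr (h r hr))
  rw [le_antisymm (IsLocalRing.le_maximalIdeal p.isPrime.ne_top) (Ideal.IsPrime.le_of_pow_le h1)]
  exact IsLocalRing.maximalIdeal.isMaximal A

theorem length_quot_pow_ne_top (n : ℕ) :
    Module.length A (A ⧸ IsLocalRing.maximalIdeal A ^ n) ≠ ⊤ :=
  length_ne_top_of_pow_smul n fun r hr x => by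
    obtain ⟨x, rfl⟩ := Ideal.Quotient.mk_surjective x
    exact Ideal.Quotient.eq_zero_iff_mem.2 (Ideal.mul_mem_right _ _ hr)

theorem length_ne_top_residue (hP : ∀ i, Module.Finite A (P.X i)) (p : ℤ) :
    Module.length A (CohIII.T P p (ModuleCat.of A (IsLocalRing.ResidueField A))) ≠ ⊤ := by
  haveI := hP p
  let T := P.X p ⊗[A] (A ⧸ IsLocalRing.maximalIdeal A)
  have hT : Module.length A T ≠ ⊤ := length_ne_top_of_pow_smul 1 fun r hr x => by
    rw [pow_one] at hr
    induction x using TensorProduct.induction_on with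
    | zero => rw [smul_zero]
    | tmul a y =>
      obtain ⟨y, rfl⟩ := Ideal.Quotient.mk_surjective y
      rw [← TensorProduct.tmul_smul, show r • Ideal.Quotient.mk (IsLocalRing.maximalIdeal A) y = 0 from
        Ideal.Quotient.eq_zero_iff_mem.2 (Ideal.mul_mem_right _ _ hr), TensorProduct.tmul_zero]
    | add x y hx hy => rw [smul_add, hx, hy, add_zero]
  exact ne_top_of_le_ne_top hT
    ((Module.length_le_of_surjective (H06FlatCx.tcls P (H06FlatCx.down_next p) _)
      (H06FlatCx.tcls_surjective P _ _)).trans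
      (Module.length_le_of_injective (Submodule.subtype _) Subtype.val_injective))

/-- Exactness from the length formula on all large neighbourhoods. -/
theorem preserves_of_length_formula (hP : ∀ i, Module.Finite A (P.X i) ∧ Module.Flat A (P.X i)) (p : ℤ)
    (n₀ : ℕ) (h : ∀ n, n₀ ≤ n →
      Module.length A (CohIII.T P p (ModuleCat.of A (A ⧸ IsLocalRing.maximalIdeal A ^ (n + 1)))) =
        Module.length A (CohIII.T P p (ModuleCat.of A (IsLocalRing.ResidueField A))) *
          Module.length A (A ⧸ IsLocalRing.maximalIdeal A ^ (n + 1))) :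
    (CohIII.TFun P p).PreservesMonomorphisms ∧ (CohIII.TFun P p).PreservesEpimorphisms := by
  have hd := length_ne_top_residue P (fun i => (hP i).1) p
  have hF := fun i => (hP i).2
  have h4 := S4492.result (CohIII.TFun P p) (H06FlatCx.half_exact P hF p) (H06FlatCx.simple_finite P p hd)
  have hse : ∀ n, n₀ ≤ n → ((truncSeq A n).map (CohIII.TFun P p)).ShortExact := fun n hn => by
    have hl : Module.length A (truncSeq A n).X₂ ≠ ⊤ := length_quot_pow_ne_top (n + 1)
    have hsub := h4.2 _ (truncSeq_shortExact n) hl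
    refine hsub.2.1 (le_antisymm hsub.1 ?_)
    have h1 := H06FlatCx.length_le P hF p hd (truncSeq A n).X₁
      (ne_top_of_le_ne_top hl (Module.length_le_of_injective _ (truncSeq_shortExact n).moduleCat_injective_f))
    refine le_of_le_of_eq (add_le_add h1 le_rfl) (Eq.trans ?_ (h n hn).symm)
    have h2 := Module.length_eq_add_of_exact (truncSeq A n).f.hom (truncSeq A n).g.hom
      (truncSeq_shortExact n).moduleCat_injective_f (truncSeq_shortExact n).moduleCat_surjective_g
      ((ShortComplex.ShortExact.moduleCat_exact_iff_function_exact _).1 (truncSeq_shortExact n).exact)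
    rw [show Module.length A (A ⧸ IsLocalRing.maximalIdeal A ^ (n + 1)) = Module.length A (truncSeq A n).X₂ from rfl,
      h2, show Module.length A (truncSeq A n).X₃ = 1 from H06FlatCx.length_residueField, mul_add, mul_one]
    rfl
  have key : ∀ q : ℤ, (∀ n, n₀ ≤ n → Function.Surjective ((CohIII.TFun P q).map (truncSeq A n).g).hom) →
      (CohIII.TFun P q).PreservesEpimorphisms := fun q hq => by
    haveI := (hP (q - 1)).1
    refine (H06FlatCx.epi_iff_surjective_chain P hP q).2 (surjective_residue_of_modPow q fun n t => ?_)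
    obtain ⟨s, hs⟩ := hq (n + n₀) (Nat.le_add_left _ _) t
    refine ⟨((CohIII.TFun P q).map (ModuleCat.ofHom (Ideal.Quotient.factorₐ A
      (Ideal.pow_le_pow_right (I := IsLocalRing.maximalIdeal A) (show n + 1 ≤ n + n₀ + 1 by omega))).toLinearMap)).hom s,
      Eq.trans ?_ hs⟩
    rw [← LinearMap.comp_apply, ← ModuleCat.hom_comp, ← Functor.map_comp]
    refine congrArg (fun g => ((CohIII.TFun P q).map g).hom s) (ModuleCat.hom_ext (LinearMap.ext fun x => ?_))
    obtain ⟨x, rfl⟩ := Ideal.Quotient.mk_surjective x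
    rfl
  refine ⟨?_, key p fun n hn => (hse n hn).moduleCat_surjective_g⟩
  haveI := hF p
  haveI := hF (p - 1)
  exact (H06FlatCx.epi_iff_mono_pred P hF rfl).1 (key (p + 1) fun n hn =>
    surjective_succ_of_injective P _ (truncSeq_shortExact n) (hse n hn).moduleCat_injective_f)

end Groth.Agent.LeadBC
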