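import Groth.Agent.LeadBC.Apps
import Mathlib.Algebra.Category.ModuleCat.Products
import Mathlib.Algebra.Category.Grp.Limits

/-!
# Products in the coefficient
-/

set_option autoImplicit false
set_option linter.style.haveILetI false
set_option linter.unusedSectionVars false

universe u

open AlgebraicGeometry CategoryTheory CategoryTheory.Limits
open scoped TensorProduct

namespace Groth.Agent.LeadBC

variable {A : Type u} [CommRing A]

/-- `Q ⊗ ∏ M → ∏ (Q ⊗ M)`. -/
noncomputable def prodCmp (Q : Type u) [AddCommGroup Q] [Module A Q] {J : Type u} (M : J → Type u)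
    [∀ a, AddCommGroup (M a)] [∀ a, Module A (M a)] : Q ⊗[A] (∀ a, M a) →ₗ[A] ∀ a, Q ⊗[A] M a :=
  LinearMap.pi fun a => (LinearMap.proj a).lTensor Q

theorem bijective_prodCmp (Q : Type u) [AddCommGroup Q] [Module A Q] [Module.Finite A Q] [Module.Free A Q]
    {J : Type u} (M : J → Type u) [∀ a, AddCommGroup (M a)] [∀ a, Module A (M a)] :
    Function.Bijective (prodCmp (A := A) Q M) := by
  classical
  let b := Module.Free.chooseBasis A Q
  constructor
  · refine (injective_iff_map_eq_zero _).2 fun z hz => ?_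
    obtain ⟨c, rfl⟩ := (TensorProduct.equivFinsuppOfBasisLeft b).symm.surjective z
    suffices c = 0 by rw [this, map_zero]
    ext i a
    have h := congrArg (TensorProduct.equivFinsuppOfBasisLeft b) (congrFun hz a)
    rw [Pi.zero_apply, map_zero] at h
    have key : ∀ d : Module.Free.ChooseBasisIndex A Q →₀ (∀ a, M a),
        TensorProduct.equivFinsuppOfBasisLeft b (prodCmp Q M ((TensorProduct.equivFinsuppOfBasisLeft b).symm d) a) i =
          d i a := by
      intro d
      induction d using Finsupp.induction_linear with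
      | zero => simp
      | add x y hx hy => simp only [map_add, Pi.add_apply, Finsupp.add_apply, hx, hy]
      | single k m => rcases eq_or_ne k i with hk | hk <;> simp [prodCmp, hk]
    exact (key c).symm.trans (DFunLike.congr_fun h i)
  · intro w
    refine ⟨∑ i, b i ⊗ₜ fun a => TensorProduct.equivFinsuppOfBasisLeft b (w a) i, funext fun a => ?_⟩
    refine (TensorProduct.equivFinsuppOfBasisLeft b).injective (Finsupp.ext fun i => ?_)
    simp [prodCmp, map_sum]

variable (P : ChainComplex (ModuleCat.{u} A) ℤ) (hP : ∀ i, Module.Finite A (P.X i) ∧ Module.Free A (P.X i))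

include hP in
theorem bijective_tfun_proj (j : ℤ) {J : Type u} (M : J → ModuleCat.{u} A) :
    Function.Bijective (fun (t : (CohIII.TFun P j).obj (ModuleCat.of A (∀ a, M a))) (a : J) =>
      ((CohIII.TFun P j).map (ModuleCat.ofHom (LinearMap.proj a) : ModuleCat.of A (∀ a, M a) ⟶ M a)).hom t) := by
  haveI := fun i => (hP i).1
  haveI := fun i => (hP i).2
  have hi := H06FlatCx.down_prev (p := j)
  have hk := H06FlatCx.down_next (p := j)
  have hB := fun i => bijective_prodCmp (A := A) (P.X i) (fun a => (M a : Type u))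
  have hnat : ∀ (i k : ℤ) (z : P.X i ⊗[A] (∀ a, M a)) (a : J),
      prodCmp (P.X k) (fun a => (M a : Type u)) ((P.d i k).hom.rTensor _ z) a =
        (P.d i k).hom.rTensor (M a) (prodCmp (P.X i) (fun a => (M a : Type u)) z a) := fun i k z a =>
    H06FlatCx.lTensor_rTensor_apply (g := (P.d i k).hom) _ z
  constructor
  · intro s t hst
    obtain ⟨⟨x, hx⟩, rfl⟩ := H06FlatCx.tcls_surjective P hk _ s
    obtain ⟨⟨y, hy⟩, rfl⟩ := H06FlatCx.tcls_surjective P hk _ t
    have h : ∀ a, prodCmp (P.X j) (fun a => (M a : Type u)) (x - y) a ∈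
        LinearMap.range ((P.d (j + 1) j).hom.rTensor (M a)) := by
      intro a
      have h1 := congrFun hst a
      rw [map_sub, Pi.sub_apply]
      exact (H06FlatCx.cls_eq_iff (CohIII.tensorObj P (M a)) hi hk _ _).1
        (((H06FlatCx.map_tcls P hk _ ⟨x, hx⟩).symm.trans h1).trans (H06FlatCx.map_tcls P hk _ ⟨y, hy⟩))
    choose v hv using h
    obtain ⟨w, rfl⟩ := (hB (j + 1)).2 v
    refine (H06FlatCx.cls_eq_iff (CohIII.tensorObj P _) hi hk _ _).2 ⟨w, (hB j).1 (funext fun a => ?_)⟩
    exact (hnat (j + 1) j w a).trans (hv a)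
  · intro f
    choose z hz using fun a => H06FlatCx.tcls_surjective P hk (M a) (f a)
    obtain ⟨w, hw⟩ := (hB j).2 fun a => (z a).1
    have hw0 : (P.d j (j - 1)).hom.rTensor _ w = 0 := (hB (j - 1)).1 (funext fun a => by
      rw [hnat j (j - 1) w a, hw, map_zero]
      exact LinearMap.mem_ker.1 (z a).2)
    refine ⟨H06FlatCx.tcls P hk _ ⟨w, hw0⟩, funext fun a => ?_⟩
    have e1 : (LinearMap.proj (R := A) (φ := fun b : J => (M b : Type u)) a).lTensor (P.X j) w = (z a).1 := by
      rw [← congrFun hw a]
      rfl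
    have e2 := H06FlatCx.map_tcls P hk
      (ModuleCat.ofHom (LinearMap.proj a) : ModuleCat.of A (∀ a, M a) ⟶ M a) ⟨w, hw0⟩
    exact e2.trans ((congrArg (H06FlatCx.tcls P hk (M a)) (Subtype.ext e1)).trans (hz a))

variable {P} {X : Scheme.{u}} [X.Over (Spec (CommRingCat.of A))] {j : ℤ} {p : ℕ} {F : X.Modules}
  (e : CohIII.TFun P j ≅ CohIII.tensorAFunctor A F ⋙ HMod A p)

include e hP in
theorem preservesProducts (J : Type u) :
    PreservesLimitsOfShape (Discrete J) (CohIII.tensorAFunctor A F ⋙ CohIII.HAb X p) := by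
  let T := CohIII.tensorAFunctor A F ⋙ CohIII.HAb X p
  suffices h : ∀ M : J → ModuleCat.{u} A, PreservesLimit (Discrete.functor M) T from
    preservesLimitsOfShape_of_discrete _
  intro M
  refine preservesLimit_of_preserves_limit_cone (ModuleCat.productConeIsLimit M) ?_
  let pr : ∀ a : J, ModuleCat.of A (∀ a, M a) ⟶ M a := fun a => ModuleCat.ofHom (LinearMap.proj a)
  have hb : Function.Bijective (fun (t : T.obj (ModuleCat.of A (∀ a, M a))) (a : J) => (T.map (pr a)).hom t) := by
    have h := bijective_tfun_proj P hP j M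
    have key : ∀ (t : (CohIII.TFun P j).obj (ModuleCat.of A (∀ a, M a))) (a : J),
        (T.map (pr a)).hom ((e.hom.app _).hom t) = (e.hom.app (M a)).hom (((CohIII.TFun P j).map (pr a)).hom t) :=
      fun t a => (ConcreteCategory.congr_hom (e.hom.naturality (pr a)) t).symm
    constructor
    · intro s t hst
      obtain ⟨s, rfl⟩ := (e.app _).toLinearEquiv.surjective s
      obtain ⟨t, rfl⟩ := (e.app _).toLinearEquiv.surjective t
      exact congrArg _ (h.1 (funext fun a =>
        (e.app (M a)).toLinearEquiv.injective (((key s a).symm.trans (congrFun hst a)).trans (key t a))))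
    · intro f
      choose g hg using fun a => (e.app (M a)).toLinearEquiv.surjective (f a)
      obtain ⟨t, ht⟩ := h.2 g
      refine ⟨(e.hom.app _).hom t, funext fun a => (key t a).trans ?_⟩
      rw [← hg a, ← ht]
      rfl
  let E := AddEquiv.ofBijective
    (AddMonoidHom.pi fun a => (T.map (pr a)).hom : T.obj (ModuleCat.of A (∀ a, M a)) →+ ∀ a, T.obj (M a)) hb
  exact
    { lift := fun s => AddCommGrpCat.ofHom
        (E.symm.toAddMonoidHom.comp (AddMonoidHom.pi fun a => (s.π.app ⟨a⟩).hom))
      fac := fun s a => ConcreteCategory.hom_ext _ _ fun x =>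
        congrFun (E.apply_symm_apply (AddMonoidHom.pi (fun a => (s.π.app ⟨a⟩).hom) x)) a.as
      uniq := fun s m hm => ConcreteCategory.hom_ext _ _ fun x => (E.eq_symm_apply).2
        (funext fun a => ConcreteCategory.congr_hom (hm ⟨a⟩) x) }

end Groth.Agent.LeadBC
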