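import Groth.Agent.LeadBC.Vanishing

/-!
# Cutting off split exact ends of a complex
-/

set_option autoImplicit false
set_option linter.style.haveILetI false
set_option linter.unusedSectionVars false

universe u

open CategoryTheory CategoryTheory.Limits MonoidalCategory
open scoped TensorProduct

namespace Groth.Agent.LeadBC

open Groth.Agent.H06FlatCx

variable {A : Type u} [CommRing A]

theorem exists_split {L M : Type u} [AddCommGroup L] [Module A L] [AddCommGroup M] [Module A M]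
    [Module.Projective A M] (d : L →ₗ[A] M) [Module.Projective A (M ⧸ LinearMap.range d)] :
    ∃ h : M →ₗ[A] L, d ∘ₗ h ∘ₗ d = d := by
  obtain ⟨t, ht⟩ := Module.projective_lifting_property (LinearMap.range d).mkQ LinearMap.id
    (Submodule.mkQ_surjective _)
  let r : M →ₗ[A] LinearMap.range d := (LinearMap.id - t ∘ₗ (LinearMap.range d).mkQ).codRestrict _ fun x => by
    rw [← Submodule.Quotient.mk_eq_zero]
    show Submodule.Quotient.mk (x - t (Submodule.Quotient.mk x)) = _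
    rw [Submodule.Quotient.mk_sub]
    exact sub_eq_zero.2 (LinearMap.congr_fun ht (Submodule.Quotient.mk x)).symm
  have hr : r ∘ₗ (LinearMap.range d).subtype = LinearMap.id := LinearMap.ext fun y => Subtype.ext (by
    show (y : M) - t (Submodule.Quotient.mk (y : M)) = y
    rw [(Submodule.Quotient.mk_eq_zero _).2 y.2, map_zero, sub_zero])
  haveI : Module.Projective A (LinearMap.range d) := Module.Projective.of_split _ r hr
  obtain ⟨s, hs⟩ := Module.projective_lifting_property d.rangeRestrict LinearMap.id d.surjective_rangeRestrict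
  refine ⟨s ∘ₗ r, LinearMap.ext fun x => ?_⟩
  show d (s (r (d x))) = d x
  have h1 : r (d x) = (⟨d x, ⟨x, rfl⟩⟩ : LinearMap.range d) := LinearMap.congr_fun hr ⟨d x, ⟨x, rfl⟩⟩
  rw [h1]
  exact congrArg Subtype.val (LinearMap.congr_fun hs ⟨d x, ⟨x, rfl⟩⟩)

variable (P : ChainComplex (ModuleCat.{u} A) ℤ)

/-- A normalised system of partial splittings for the degrees in `J`. -/
theorem exists_splitting (hP : ∀ i, Module.Projective A (P.X i)) (J : ℤ → Prop)
    (hJ : ∀ j, J j → Module.Projective A (Cok P j)) :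
    ∃ h : ∀ j : ℤ, P.X j →ₗ[A] P.X (j + 1), (∀ j x, h (j + 1) (h j x) = 0) ∧
      (∀ j x, h j ((P.d (j + 1) j).hom (h j x)) = h j x) ∧
      ∀ j, J j → ∀ x, (P.d (j + 1) j).hom (h j ((P.d (j + 1) j).hom x)) = (P.d (j + 1) j).hom x := by
  classical
  have h0 : ∀ j, ∃ g : P.X j →ₗ[A] P.X (j + 1),
      J j → ∀ x, (P.d (j + 1) j).hom (g ((P.d (j + 1) j).hom x)) = (P.d (j + 1) j).hom x := fun j => by
    by_cases hj : J j
    · haveI := hP j
      haveI : Module.Projective A (P.X j ⧸ LinearMap.range (P.d (j + 1) j).hom) := hJ j hj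
      obtain ⟨g, hg⟩ := exists_split (P.d (j + 1) j).hom
      exact ⟨g, fun _ x => LinearMap.congr_fun hg x⟩
    · exact ⟨0, fun h => absurd h hj⟩
  choose g hg using h0
  let g₁ : ∀ j, P.X j →ₗ[A] P.X (j + 1) := fun j =>
    if J j then g j ∘ₗ (P.d (j + 1) j).hom ∘ₗ g j else 0
  have h1 : ∀ j x, g₁ j ((P.d (j + 1) j).hom (g₁ j x)) = g₁ j x := fun j x => by
    by_cases hj : J j
    · simp only [g₁, if_pos hj, LinearMap.comp_apply, hg j hj]
    · simp only [g₁, if_neg hj, LinearMap.zero_apply]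
  have h2 : ∀ j, J j → ∀ x, (P.d (j + 1) j).hom (g₁ j ((P.d (j + 1) j).hom x)) = (P.d (j + 1) j).hom x :=
    fun j hj x => by simp only [g₁, if_pos hj, LinearMap.comp_apply, hg j hj]
  let k : ∀ j, P.X j →ₗ[A] P.X (j + 1) := fun j =>
    (LinearMap.id - (P.d (j + 1 + 1) (j + 1)).hom ∘ₗ g₁ (j + 1)) ∘ₗ g₁ j
  have hdd : ∀ j y, (P.d (j + 1) j).hom ((P.d (j + 1 + 1) (j + 1)).hom y) = 0 := fun j y =>
    LinearMap.congr_fun (d_comp_d P (j + 1 + 1) (j + 1) j) y
  have hdk : ∀ j x, (P.d (j + 1) j).hom (k j x) = (P.d (j + 1) j).hom (g₁ j x) := fun j x => by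
    show (P.d (j + 1) j).hom (g₁ j x - (P.d (j + 1 + 1) (j + 1)).hom (g₁ (j + 1) (g₁ j x))) = _
    rw [map_sub, hdd, sub_zero]
  refine ⟨k, fun j x => ?_, fun j x => ?_, fun j hj x => ?_⟩
  · show (LinearMap.id - (P.d (j + 1 + 1 + 1) (j + 1 + 1)).hom ∘ₗ g₁ (j + 1 + 1) :
      P.X (j + 1 + 1) →ₗ[A] P.X (j + 1 + 1))
      (g₁ (j + 1) (g₁ j x - (P.d (j + 1 + 1) (j + 1)).hom (g₁ (j + 1) (g₁ j x)))) = 0
    rw [map_sub (g₁ (j + 1)), h1, sub_self, map_zero]
  · rw [hdk]
    show g₁ j ((P.d (j + 1) j).hom (g₁ j x)) -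
      (P.d (j + 1 + 1) (j + 1)).hom (g₁ (j + 1) (g₁ j ((P.d (j + 1) j).hom (g₁ j x)))) = _
    rw [h1]
    rfl
  · rw [hdk, h2 j hj]

variable {P}

section Img

variable (h : ∀ j : ℤ, P.X j →ₗ[A] P.X (j + 1))

/-- The homotopy as a family of morphisms. -/
noncomputable def hFam : ∀ i j, (ComplexShape.down ℤ).Rel j i → (P.X i ⟶ P.X j) := fun i j r =>
  -(ModuleCat.ofHom (h i) ≫ eqToHom (congrArg P.X (show i + 1 = j from r)))

/-- `1 - (d h + h d)`. -/
noncomputable def cutHom : P ⟶ P := 𝟙 P + Homotopy.nullHomotopicMap' (hFam h)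

/-- It is homotopic to the identity. -/
noncomputable def cutHomotopy : Homotopy (cutHom h) (𝟙 P) :=
  (Homotopy.add (Homotopy.refl (𝟙 P)) (Homotopy.nullHomotopy' (hFam h))).trans (Homotopy.ofEq (add_zero _))

theorem cutHom_f (j : ℤ) (x : P.X (j + 1)) : ((cutHom h).f (j + 1)).hom x =
    x - (P.d (j + 1 + 1) (j + 1)).hom (h (j + 1) x) - h j ((P.d (j + 1) j).hom x) := by
  have e : (cutHom h).f (j + 1) = 𝟙 _ + (Homotopy.nullHomotopicMap' (hFam h)).f (j + 1) := rfl
  rw [e, Homotopy.nullHomotopicMap'_f (show (ComplexShape.down ℤ).Rel (j + 1 + 1) (j + 1) from rfl)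
    (show (ComplexShape.down ℤ).Rel (j + 1) j from rfl)]
  simp only [hFam, eqToHom_refl, Category.comp_id]
  show x + (-(h j ((P.d (j + 1) j).hom x)) + (P.d (j + 1 + 1) (j + 1)).hom (-(h (j + 1) x))) = _
  rw [map_neg]
  abel

variable {h} (hh : ∀ j x, h (j + 1) (h j x) = 0)
  (hdh : ∀ j x, h j ((P.d (j + 1) j).hom (h j x)) = h j x)

include hh hdh in
theorem cutHom_idem (j : ℤ) (x : P.X j) : ((cutHom h).f j).hom (((cutHom h).f j).hom x) = ((cutHom h).f j).hom x := by
  obtain ⟨i, rfl⟩ : ∃ i, i + 1 = j := ⟨j - 1, by omega⟩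
  have hdd : ∀ y, (P.d (i + 1) i).hom ((P.d (i + 1 + 1) (i + 1)).hom y) = 0 := fun y =>
    LinearMap.congr_fun (d_comp_d P (i + 1 + 1) (i + 1) i) y
  simp only [cutHom_f, map_sub, hh, hdh, hdd, map_zero, sub_zero, sub_self]

theorem cutHom_eq_zero (j : ℤ) (hh : ∀ x, h (j + 1) (h j x) = 0)
    (h₁ : ∀ x, (P.d (j + 1) j).hom (h j ((P.d (j + 1) j).hom x)) = (P.d (j + 1) j).hom x)
    (h₂ : ∀ x, (P.d (j + 1 + 1) (j + 1)).hom (h (j + 1) ((P.d (j + 1 + 1) (j + 1)).hom x)) =
      (P.d (j + 1 + 1) (j + 1)).hom x)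
    (hex : Subsingleton (H0 P (j + 1 + 1) (j + 1) j)) : (cutHom h).f (j + 1) = 0 := by
  refine ModuleCat.hom_ext (LinearMap.ext fun x => ?_)
  rw [cutHom_f]
  let z := x - h j ((P.d (j + 1) j).hom x)
  have hz : z ∈ LinearMap.ker (P.d (j + 1) j).hom := by
    rw [LinearMap.mem_ker, map_sub, h₁, sub_self]
  obtain ⟨y, hy⟩ : (⟨z, hz⟩ : LinearMap.ker (P.d (j + 1) j).hom) ∈
      LinearMap.range (toKer (d_comp_d P (j + 1 + 1) (j + 1) j)) :=
    (Submodule.Quotient.mk_eq_zero _).1 (hex.elim _ _)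
  replace hy : (P.d (j + 1 + 1) (j + 1)).hom y = z := congrArg Subtype.val hy
  have e1 : (P.d (j + 1 + 1) (j + 1)).hom (h (j + 1) x) = z := by
    have hx : x = z + h j ((P.d (j + 1) j).hom x) := (sub_add_cancel _ _).symm
    rw [hx, map_add, hh, add_zero, ← hy, h₂]
  rw [e1]
  show x - (x - h j ((P.d (j + 1) j).hom x)) - h j ((P.d (j + 1) j).hom x) = 0
  abel

variable (h)

/-- The image of the projection. -/
noncomputable def imgCx : ChainComplex (ModuleCat.{u} A) ℤ where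
  X j := ModuleCat.of A (LinearMap.range ((cutHom h).f j).hom)
  d i j := ModuleCat.ofHom ((P.d i j).hom.restrict (p := LinearMap.range ((cutHom h).f i).hom)
    (q := LinearMap.range ((cutHom h).f j).hom) (by
      rintro _ ⟨x, rfl⟩
      exact ⟨(P.d i j).hom x, (congr($((cutHom h).comm i j) x)).symm⟩))
  shape i j hij := ModuleCat.hom_ext (LinearMap.ext fun z => Subtype.ext (by
    show (P.d i j).hom z.1 = 0
    rw [P.shape i j hij]
    rfl))
  d_comp_d' i j k _ _ := ModuleCat.hom_ext (LinearMap.ext fun z => Subtype.ext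
    (LinearMap.congr_fun (d_comp_d P i j k) z.1))

/-- The inclusion. -/
noncomputable def imgι : imgCx h ⟶ P where
  f j := ModuleCat.ofHom (LinearMap.range ((cutHom h).f j).hom).subtype
  comm' i j _ := rfl

/-- The projection. -/
noncomputable def imgπ : P ⟶ imgCx h where
  f j := ModuleCat.ofHom ((cutHom h).f j).hom.rangeRestrict
  comm' i j _ := ModuleCat.hom_ext (LinearMap.ext fun x => Subtype.ext
    (congr($((cutHom h).comm i j) x)))

theorem imgπ_ι : imgπ h ≫ imgι h = cutHom h := HomologicalComplex.hom_ext _ _ fun _ => rfl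

variable {h}

include hh hdh in
theorem imgι_π : imgι h ≫ imgπ h = 𝟙 _ := HomologicalComplex.hom_ext _ _ fun j =>
  ModuleCat.hom_ext (LinearMap.ext fun z => Subtype.ext (by
    obtain ⟨_, x, rfl⟩ := z
    exact cutHom_idem hh hdh j x))

include hh hdh in
/-- The homotopy equivalence. -/
noncomputable def imgEquiv : HomotopyEquiv P (imgCx h) where
  hom := imgπ h
  inv := imgι h
  homotopyHomInvId := (Homotopy.ofEq (imgπ_ι h)).trans (cutHomotopy h)
  homotopyInvHomId := Homotopy.ofEq (imgι_π hh hdh)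

include hh hdh in
theorem nonempty_T_imgCx (j : ℤ) (M : ModuleCat.{u} A) :
    Nonempty (CohIII.T P j M ≃ₗ[A] CohIII.T (imgCx h) j M) :=
  ⟨(((tensorRight M).mapHomotopyEquiv (imgEquiv hh hdh)).toHomologyIso j).toLinearEquiv⟩

include hh hdh in
theorem finite_projective_imgCx (hP : ∀ i, Module.Finite A (P.X i) ∧ Module.Projective A (P.X i)) (j : ℤ) :
    Module.Finite A ((imgCx h).X j) ∧ Module.Projective A ((imgCx h).X j) := by
  haveI := (hP j).1
  haveI := (hP j).2
  exact ⟨Module.Finite.range _, Module.Projective.of_split (LinearMap.range ((cutHom h).f j).hom).subtype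
    ((cutHom h).f j).hom.rangeRestrict (LinearMap.ext fun z => by
      obtain ⟨_, x, rfl⟩ := z
      exact Subtype.ext (cutHom_idem hh hdh j x))⟩

theorem isZero_imgCx {j : ℤ} (hj : (cutHom h).f j = 0) : IsZero ((imgCx h).X j) := by
  haveI : Subsingleton (LinearMap.range ((cutHom h).f j).hom) := by
    rw [hj]
    exact ⟨fun a b => Subtype.ext (by obtain ⟨x, hx⟩ := a.2; obtain ⟨y, hy⟩ := b.2; rw [← hx, ← hy]; rfl)⟩
  exact @ModuleCat.isZero_of_subsingleton _ _ ((imgCx h).X j) this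

end Img

end Groth.Agent.LeadBC
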