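import Groth.Agent.LeadBC.Tensor
import Groth.Agent.H06EGA11.Sheaf
import Groth.Agent.H06FlatCx.Translate
import Mathlib.LinearAlgebra.TensorProduct.Pi

/-!
# The Čech complex of `f^*(M~) ⊗ F` is the Čech complex of `F` tensored with `M`
-/

set_option autoImplicit false
set_option linter.style.haveILetI false
set_option linter.unusedSectionVars false

universe u

open AlgebraicGeometry CategoryTheory CategoryTheory.Limits TopologicalSpace Opposite MonoidalCategory
open scoped TensorProduct

namespace Groth.Agent.LeadBC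

open Groth.Agent.LeadFF Groth.Agent.H15Site

variable (A : Type u) [CommRing A] {X : Scheme.{u}} [X.Over (Spec (CommRingCat.of A))]
  {ι : Type u} (U : ι → X.Opens) (F : X.Modules)

/-- The comparison on Čech terms. -/
noncomputable def τp (M : ModuleCat.{u} A) (p : ℕ) :
    Kp A U F p ⊗[A] M →ₗ[A] Kp A U ((CohIII.tensorAFunctor A F).obj M) p :=
  LinearMap.pi fun a => (τ₀ A F M (CechTop.cap U a)).comp ((LinearMap.proj a).rTensor M)

theorem τp_tmul (M : ModuleCat.{u} A) (p : ℕ) (x : Kp A U F p) (m : M) (a : Fin (p + 1) → ι) :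
    τp A U F M p (x ⊗ₜ m) a = τ₀ A F M (CechTop.cap U a) (x a ⊗ₜ m) := rfl

theorem τp_natural {M N : ModuleCat.{u} A} (φ : M ⟶ N) (p : ℕ) (z : Kp A U F p ⊗[A] M) :
    mapK A U ((CohIII.tensorAFunctor A F).map φ) p (τp A U F M p z) = τp A U F N p (φ.hom.lTensor _ z) := by
  induction z using TensorProduct.induction_on with
  | zero => simp
  | add a b ha hb => rw [map_add, map_add, ha, hb, map_add, map_add]
  | tmul x m => exact funext fun a => τ₀_natural A F φ _ (x a ⊗ₜ m)

theorem τp_d (M : ModuleCat.{u} A) (p : ℕ) (z : Kp A U F p ⊗[A] M) :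
    dK A U _ p (τp A U F M p z) = τp A U F M (p + 1) ((dK A U F p).rTensor M z) := by
  induction z using TensorProduct.induction_on with
  | zero => simp
  | add a b ha hb => rw [map_add, map_add, ha, hb, map_add, map_add]
  | tmul x m =>
    funext c
    rw [LinearMap.rTensor_tmul, τp_tmul, dK_apply, dK_apply, TensorProduct.sum_tmul, map_sum]
    refine Finset.sum_congr rfl fun j _ => ?_
    rw [← TensorProduct.smul_tmul', map_zsmul, τp_tmul, τ₀_res, LinearMap.rTensor_tmul]

variable {U}

theorem bijective_τp [F.IsQuasicoherent] [Finite ι] (hU : GoodCover U) (M : ModuleCat.{u} A) (p : ℕ) :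
    Function.Bijective (τp A U F M p) := by
  classical
  haveI := Fintype.ofFinite ι
  let e : Kp A U F p ⊗[A] M ≃ₗ[A] ∀ a : Fin (p + 1) → ι, sec A F (CechTop.cap U a) ⊗[A] M :=
    TensorProduct.piLeft ..
  let g : (∀ a : Fin (p + 1) → ι, sec A F (CechTop.cap U a) ⊗[A] M) →ₗ[A]
      Kp A U ((CohIII.tensorAFunctor A F).obj M) p :=
    LinearMap.pi fun a => (τ₀ A F M (CechTop.cap U a)).comp (LinearMap.proj a)
  have hg : Function.Bijective g := by
    constructor
    · exact fun v w h => funext fun a => (bijective_τ₀ A F M (hU.affine p a)).1 (congrFun h a)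
    · intro w
      choose v hv using fun a => (bijective_τ₀ A F M (hU.affine p a)).2 (w a)
      exact ⟨v, funext hv⟩
  have key : ∀ z, g (e z) = τp A U F M p z := by
    intro z
    induction z using TensorProduct.induction_on with
    | zero => simp
    | add a b ha hb => rw [map_add, map_add, ha, hb, map_add]
    | tmul x m =>
      funext a
      have : e (x ⊗ₜ m) a = x a ⊗ₜ m := by simp [e]
      exact congrArg (τ₀ A F M (CechTop.cap U a)) this
  have hb : Function.Bijective (fun z => g (e z)) := hg.comp e.bijective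
  rwa [funext key] at hb

/-- The comparison of complexes. -/
noncomputable def τC (M : ModuleCat.{u} A) :
    CohIII.tensorObj (KC A U F) M ⟶ KC A U ((CohIII.tensorAFunctor A F).obj M) where
  f p := ModuleCat.ofHom (τp A U F M p)
  comm' i j h := by
    obtain rfl : i + 1 = j := h
    refine ModuleCat.hom_ext (LinearMap.ext fun z => ?_)
    show ((KC A U _).d i (i + 1)).hom (τp A U F M i z) =
      τp A U F M (i + 1) (((CohIII.tensorObj (KC A U F) M).d i (i + 1)).hom z)
    rw [H06FlatCx.tensorObj_d_hom, KC_d, KC_d]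
    exact τp_d A U F M i z

theorem isIso_τC [F.IsQuasicoherent] [Finite ι] (hU : GoodCover U) (M : ModuleCat.{u} A) : IsIso (τC A (U := U) F M) :=
  haveI : ∀ p, IsIso ((τC A (U := U) F M).f p) := fun p =>
    (ConcreteCategory.isIso_iff_bijective _).2 (bijective_τp A F hU M p)
  HomologicalComplex.Hom.isIso_of_components _

theorem τC_natural {M N : ModuleCat.{u} A} (φ : M ⟶ N) :
    CohIII.tensorMap (KC A U F) φ ≫ τC A F N = τC A F M ≫ (KCF A U).map ((CohIII.tensorAFunctor A F).map φ) :=
  HomologicalComplex.hom_ext _ _ fun p => ModuleCat.hom_ext (LinearMap.ext fun z => by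
    show τp A U F N p (((CohIII.tensorMap (KC A U F) φ).f p).hom z) =
      mapK A U ((CohIII.tensorAFunctor A F).map φ) p (τp A U F M p z)
    rw [H06FlatCx.tensorMap_f_hom]
    exact (τp_natural A U F φ p z).symm)

variable {F}

theorem flat_sec [F.IsQuasicoherent] (hfl : FlatMod.IsFlatOver (X ↘ Spec (CommRingCat.of A)) F) {V : X.Opens}
    (hV : IsAffineOpen V) : Module.Flat A (sec A F V) := by
  let f := X ↘ Spec (CommRingCat.of A)
  let R₀ := Γ(Spec (CommRingCat.of A), ⊤)
  letI : Algebra A R₀ := (Scheme.ΓSpecIso (CommRingCat.of A)).inv.hom.toAlgebra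
  letI : Module R₀ Γ(F, V) := Module.compHom Γ(F, V) (f.appLE ⊤ V le_top).hom
  haveI : Module.Flat R₀ Γ(F, V) :=
    H06EGA11.flat_sections f F inferInstance (isAffineOpen_top _) hV le_top fun x _ => hfl x
  have hb : Function.Bijective (Algebra.linearMap A R₀) :=
    ConcreteCategory.bijective_of_isIso (Scheme.ΓSpecIso (CommRingCat.of A)).inv
  haveI : Module.Flat A R₀ := Module.Flat.of_linearEquiv (LinearEquiv.ofBijective _ hb).symm
  letI : Module A Γ(F, V) := Module.compHom Γ(F, V) (sc A V)
  haveI : IsScalarTower A R₀ Γ(F, V) := .of_algebraMap_smul fun r z => rfl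
  exact Module.Flat.trans A R₀ Γ(F, V)

theorem flat_Kp [F.IsQuasicoherent] [Finite ι] (hU : GoodCover U)
    (hfl : FlatMod.IsFlatOver (X ↘ Spec (CommRingCat.of A)) F) (p : ℕ) : Module.Flat A ((KC A U F).X p) := by
  classical
  haveI := Fintype.ofFinite ι
  haveI : ∀ a : Fin (p + 1) → ι, Module.Flat A (sec A F (CechTop.cap U a)) := fun a =>
    flat_sec A hfl (hU.affine p a)
  exact Module.Flat.of_linearEquiv
    (DirectSum.linearEquivFunOnFintype A (Fin (p + 1) → ι) fun a => sec A F (CechTop.cap U a)).symm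

end Groth.Agent.LeadBC
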